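import Groth.Agent.BCLib.Fibre

/-!
# Base change of the cohomology of a complex
-/

set_option autoImplicit false
set_option backward.isDefEq.respectTransparency false

universe u

open TensorProduct LinearMap

noncomputable section

namespace Groth.Agent.BCLib.Cx

variable {A : Type u} [CommRing A] (K : Cx A) (B : Type u) [CommRing B] [Algebra A B] (n : ℕ)

/-- Cocycles after base change. -/
abbrev zIncl : B ⊗[A] ↥(LinearMap.ker (K.d n)) →ₗ[B] B ⊗[A] K.X n :=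
  (LinearMap.ker (K.d n)).subtype.baseChange B

theorem zIncl_mem (w : B ⊗[A] ↥(LinearMap.ker (K.d n))) : K.zIncl B n w ∈ K.zBC B n := by
  rw [LinearMap.mem_ker, ← LinearMap.comp_apply, ← LinearMap.baseChange_comp,
    LinearMap.comp_ker_subtype, LinearMap.baseChange_zero, LinearMap.zero_apply]

/-- Coboundaries among cocycles, after base change. -/
abbrev bIncl : B ⊗[A] ↥(K.bd n) →ₗ[B] B ⊗[A] ↥(LinearMap.ker (K.d n)) :=
  (Submodule.inclusion (K.bd_le_ker n)).baseChange B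

/-- The base change map of cohomology in degree `n` is surjective. -/
def BCSurj : Prop := ∀ z ∈ K.zBC B n, ∃ w, z - K.zIncl B n w ∈ K.bBC B n

/-- The base change map of cohomology in degree `n` is injective. -/
def BCInj : Prop := ∀ w, K.zIncl B n w ∈ K.bBC B n → w ∈ LinearMap.range (K.bIncl B n)

/-- The base change map of cohomology in degree `n` is bijective. -/
def BCBij : Prop := K.BCSurj B n ∧ K.BCInj B n

theorem bd_mem_iff (x : ↥(LinearMap.ker (K.d n))) :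
    x ∈ LinearMap.range (Submodule.inclusion (K.bd_le_ker n)) ↔ x.1 ∈ K.bd n := by
  constructor
  · rintro ⟨y, rfl⟩
    exact y.2
  · exact fun h => ⟨⟨x.1, h⟩, rfl⟩

variable {B n} {M N M' : Type u} [AddCommGroup M] [Module A M] [AddCommGroup N] [Module B N]
  [AddCommGroup M'] [Module B M'] {ev : ↥(LinearMap.ker (K.d n)) →ₗ[A] M} {evB : ↥(K.zBC B n) →ₗ[B] M'}
  {e : B ⊗[A] M ≃ₗ[B] N} {β : N →ₗ[B] M'}

/-- The criterion. -/
theorem bc_criterion (hs : Function.Surjective ev) (hk : ∀ z, ev z = 0 ↔ z.1 ∈ K.bd n)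
    (hsB : Function.Surjective evB) (hkB : ∀ z, evB z = 0 ↔ z.1 ∈ K.bBC B n)
    (hβ : ∀ (z : ↥(LinearMap.ker (K.d n))) (h : (1 : B) ⊗ₜ[A] z.1 ∈ K.zBC B n),
      β (e ((1 : B) ⊗ₜ[A] ev z)) = evB ⟨_, h⟩) :
    (Function.Surjective β ↔ K.BCSurj B n) ∧ (Function.Injective β ↔ K.BCInj B n) := by
  let π : B ⊗[A] ↥(LinearMap.ker (K.d n)) →ₗ[B] B ⊗[A] M := ev.baseChange B
  let ι : B ⊗[A] ↥(LinearMap.ker (K.d n)) →ₗ[B] ↥(K.zBC B n) :=
    LinearMap.codRestrict _ (K.zIncl B n) (K.zIncl_mem B n)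
  have hπ : Function.Surjective π := by
    show Function.Surjective (ev.baseChange B)
    rw [LinearMap.baseChange_eq_ltensor]
    exact LinearMap.lTensor_surjective B hs
  have hπk : ∀ w, π w = 0 ↔ w ∈ LinearMap.range (K.bIncl B n) := fun w => by
    have hex : Function.Exact (Submodule.inclusion (K.bd_le_ker n)) ev := fun x =>
      (hk x).trans (K.bd_mem_iff n x).symm
    exact lTensor_exact B hex hs w
  have key : ∀ w, β (e (π w)) = evB (ι w) := fun w => by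
    induction w using TensorProduct.induction_on with
    | zero => rw [map_zero, map_zero, map_zero, map_zero, map_zero]
    | add x y hx hy => rw [map_add, map_add, map_add, hx, hy, map_add, map_add]
    | tmul b z =>
      have h1 : b ⊗ₜ[A] z = b • ((1 : B) ⊗ₜ[A] z) := by rw [TensorProduct.smul_tmul', smul_eq_mul, mul_one]
      rw [h1, map_smul, map_smul, map_smul, map_smul, map_smul]
      exact congrArg (b • ·) ((hβ z (K.zIncl_mem B n ((1 : B) ⊗ₜ z))).trans rfl)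
  refine ⟨⟨fun hβs z hz => ?_, fun h y => ?_⟩, ⟨fun hβi w hw => ?_, fun h => ?_⟩⟩
  · obtain ⟨x, hx⟩ := hβs (evB ⟨z, hz⟩)
    obtain ⟨x, rfl⟩ := e.surjective x
    obtain ⟨w, rfl⟩ := hπ x
    refine ⟨w, (hkB (⟨z, hz⟩ - ι w)).1 ((map_sub evB _ _).trans ?_)⟩
    rw [← hx, key, sub_self]
  · obtain ⟨⟨z, hz⟩, rfl⟩ := hsB y
    obtain ⟨w, hw⟩ := h z hz
    refine ⟨e (π w), ?_⟩
    rw [key, eq_comm, ← sub_eq_zero, ← map_sub]
    exact (hkB _).2 hw
  · refine (hπk w).1 (e.injective (hβi ?_))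
    rw [key, map_zero, map_zero]
    exact (hkB _).2 hw
  · refine (injective_iff_map_eq_zero β).2 fun y hy => ?_
    obtain ⟨x, rfl⟩ := e.surjective y
    obtain ⟨w, rfl⟩ := hπ x
    rw [key, hkB] at hy
    rw [(hπk w).2 (h w hy), map_zero]

end Groth.Agent.BCLib.Cx

namespace Groth.Agent.BCLib.CxHom

variable {A : Type u} [CommRing A] {L K : Cx A} (φ : CxHom L K)

/-- The map on cocycles. -/
def zMap₀ (n : ℕ) : ↥(LinearMap.ker (L.d n)) →ₗ[A] ↥(LinearMap.ker (K.d n)) :=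
  (φ.f n).restrict fun x hx => LinearMap.mem_ker.2 (by
    rw [φ.comm_apply, LinearMap.mem_ker.1 hx, map_zero])

theorem tmul_one_mem_Z {L : Cx A} {n : ℕ} {x : L.X n} :
    x ⊗ₜ[A] (1 : A) ∈ L.Z A n ↔ L.d n x = 0 := by
  rw [LinearMap.mem_ker]
  show L.d n x ⊗ₜ[A] (1 : A) = 0 ↔ _
  exact ⟨fun h => by simpa using congrArg (TensorProduct.rid A _) h, fun h => by rw [h, TensorProduct.zero_tmul]⟩

theorem tmul_one_mem_B {L : Cx A} {n : ℕ} {x : L.X n} : x ⊗ₜ[A] (1 : A) ∈ L.B A n ↔ x ∈ L.bd n := by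
  rw [← L.ker_rTensor_mkQ_bd, LinearMap.mem_ker, LinearMap.rTensor_tmul]
  refine ⟨fun h => ?_, fun h => ?_⟩
  · have := congrArg (TensorProduct.rid A _) h
    rwa [TensorProduct.rid_tmul, one_smul, map_zero, Submodule.mkQ_apply, Submodule.Quotient.mk_eq_zero] at this
  · rw [show (L.bd n).mkQ x = 0 from (Submodule.Quotient.mk_eq_zero _).2 h, TensorProduct.zero_tmul]

theorem mapsTo_bd (n : ℕ) {x : L.X n} (hx : x ∈ L.bd n) : φ.f n x ∈ K.bd n :=
  tmul_one_mem_B.1 (φ.mapsTo_B n (tmul_one_mem_B.2 hx))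

theorem cohom_surj (h : φ.Bij A) (n : ℕ) (z : ↥(LinearMap.ker (K.d n))) :
    ∃ l : ↥(LinearMap.ker (L.d n)), (z : K.X n) - φ.f n l ∈ K.bd n := by
  obtain ⟨l, hl, hzl⟩ := (h n).1 _ (tmul_one_mem_Z.2 (LinearMap.mem_ker.1 z.2))
  obtain ⟨l, rfl⟩ : ∃ x : L.X n, x ⊗ₜ[A] (1 : A) = l :=
    ⟨TensorProduct.rid A _ l, (TensorProduct.rid A _).injective (by simp)⟩
  refine ⟨⟨l, LinearMap.mem_ker.2 (tmul_one_mem_Z.1 hl)⟩, tmul_one_mem_B.1 ?_⟩
  rwa [LinearMap.rTensor_tmul, ← TensorProduct.sub_tmul] at hzl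

theorem cohom_inj (h : φ.Bij A) (n : ℕ) (l : ↥(LinearMap.ker (L.d n))) (hl : φ.f n l ∈ K.bd n) :
    (l : L.X n) ∈ L.bd n := by
  refine tmul_one_mem_B.1 ((h n).2 _ (tmul_one_mem_Z.2 (LinearMap.mem_ker.1 l.2)) ?_)
  rw [LinearMap.rTensor_tmul]
  exact tmul_one_mem_B.2 hl

variable (B : Type u) [CommRing B] [Algebra A B]

theorem zIncl_zMap (n : ℕ) (w : B ⊗[A] ↥(LinearMap.ker (L.d n))) :
    K.zIncl B n ((φ.zMap₀ n).baseChange B w) = (φ.f n).baseChange B (L.zIncl B n w) := by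
  rw [← LinearMap.comp_apply, ← LinearMap.comp_apply, ← LinearMap.baseChange_comp, ← LinearMap.baseChange_comp]
  rfl

theorem zIncl_bIncl (n : ℕ) (w : B ⊗[A] ↥(L.bd n)) : L.zIncl B n (L.bIncl B n w) ∈ L.bBC B n := by
  rw [← L.baseChange_mkQ_eq_zero_iff, ← LinearMap.comp_apply, ← LinearMap.comp_apply,
    ← LinearMap.baseChange_comp, ← LinearMap.baseChange_comp,
    show ((L.bd n).mkQ ∘ₗ (LinearMap.ker (L.d n)).subtype) ∘ₗ Submodule.inclusion (L.bd_le_ker n) = 0 from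
      LinearMap.ext fun x => (Submodule.Quotient.mk_eq_zero _).2 x.2,
    LinearMap.baseChange_zero, LinearMap.zero_apply]

theorem mapsTo_bBC (n : ℕ) {z : B ⊗[A] L.X n} (hz : z ∈ L.bBC B n) : (φ.f n).baseChange B z ∈ K.bBC B n := by
  obtain ⟨z, rfl⟩ := (TensorProduct.comm A (L.X n) B).surjective z
  rw [← comm_f, Cx.mem_bBC_iff]
  exact φ.mapsTo_B n ((Cx.mem_bBC_iff L B n z).1 hz)

theorem range_zMap_sup (h : φ.Bij A) (n : ℕ) :
    Function.Surjective ((φ.zMap₀ n).coprod (Submodule.inclusion (K.bd_le_ker n))) := fun z => by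
  obtain ⟨l, hl⟩ := φ.cohom_surj h n z
  refine ⟨(l, ⟨_, hl⟩), Subtype.ext ?_⟩
  show φ.f n l + ((z : K.X n) - φ.f n l) = z
  abel

theorem exists_zMap_add (h : φ.Bij A) (n : ℕ) (w : B ⊗[A] ↥(LinearMap.ker (K.d n))) :
    ∃ (v : B ⊗[A] ↥(LinearMap.ker (L.d n))) (b : B ⊗[A] ↥(K.bd n)),
      w = (φ.zMap₀ n).baseChange B v + K.bIncl B n b := by
  induction w using TensorProduct.induction_on with
  | zero => exact ⟨0, 0, by simp⟩
  | tmul b z =>
    obtain ⟨⟨l, y⟩, hly⟩ := φ.range_zMap_sup h n z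
    refine ⟨b ⊗ₜ l, b ⊗ₜ y, ?_⟩
    rw [LinearMap.baseChange_tmul, LinearMap.baseChange_tmul, ← TensorProduct.tmul_add]
    exact congrArg (b ⊗ₜ[A] ·) hly.symm
  | add x y hx hy =>
    obtain ⟨v, b, rfl⟩ := hx
    obtain ⟨v', b', rfl⟩ := hy
    exact ⟨v + v', b + b', by rw [map_add, map_add]; abel⟩

theorem bcSurj_iff (hA : φ.Bij A) (hB : φ.Bij B) (n : ℕ) : K.BCSurj B n ↔ L.BCSurj B n := by
  constructor
  · intro h z hz
    obtain ⟨w, hw⟩ := h _ (φ.mapsTo_zBC B n hz)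
    obtain ⟨v, b, rfl⟩ := φ.exists_zMap_add B hA n w
    refine ⟨v, ((φ.bijBC B hB n).2 _ (sub_mem hz (L.zIncl_mem B n v))).1 ?_⟩
    have := add_mem hw (zIncl_bIncl (L := K) B n b)
    rw [map_add, zIncl_zMap] at this
    rw [map_sub]
    convert this using 1
    abel
  · intro h z hz
    obtain ⟨l, hl, hzl⟩ := (φ.bijBC B hB n).1 z hz
    obtain ⟨v, hv⟩ := h l hl
    refine ⟨(φ.zMap₀ n).baseChange B v, ?_⟩
    have := add_mem hzl (φ.mapsTo_bBC B n hv)
    rw [map_sub] at this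
    rw [zIncl_zMap]
    convert this using 1
    abel

theorem bcInj_iff (hA : φ.Bij A) (hB : φ.Bij B) (n : ℕ) : K.BCInj B n ↔ L.BCInj B n := by
  constructor
  · intro h v hv
    have h1 := φ.mapsTo_bBC B n hv
    rw [← zIncl_zMap] at h1
    obtain ⟨b, hb⟩ := h _ h1
    -- pass to cohomology, where the map is bijective
    let cl : ↥(LinearMap.ker (L.d n)) →ₗ[A] ↥(LinearMap.ker (K.d n)) ⧸ LinearMap.range (Submodule.inclusion (K.bd_le_ker n)) :=
      (Submodule.mkQ _).comp (φ.zMap₀ n)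
    have hex : Function.Exact (Submodule.inclusion (L.bd_le_ker n)) cl := fun x => by
      refine ⟨fun hx => ?_, fun hx => ?_⟩
      · refine (L.bd_mem_iff n x).2 ?_
        exact φ.cohom_inj hA n x ((K.bd_mem_iff n _).1 ((Submodule.Quotient.mk_eq_zero _).1 hx))
      · obtain ⟨y, rfl⟩ := hx
        exact (Submodule.Quotient.mk_eq_zero _).2 ((K.bd_mem_iff n _).2 (φ.mapsTo_bd n y.2))
    have hsurj : Function.Surjective cl := fun y => by
      obtain ⟨z, rfl⟩ := Submodule.mkQ_surjective _ y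
      obtain ⟨l, hl⟩ := φ.cohom_surj hA n z
      exact ⟨l, Eq.symm ((Submodule.Quotient.eq _).2 ((K.bd_mem_iff n _).2 hl))⟩
    refine (lTensor_exact B hex hsurj v).1 ?_
    show cl.baseChange B v = 0
    rw [LinearMap.baseChange_comp, LinearMap.comp_apply, ← hb, ← LinearMap.comp_apply,
      ← LinearMap.baseChange_comp, LinearMap.range_mkQ_comp, LinearMap.baseChange_zero, LinearMap.zero_apply]
  · intro h w hw
    obtain ⟨v, b, rfl⟩ := φ.exists_zMap_add B hA n w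
    rw [map_add] at hw
    have h1 := sub_mem hw (zIncl_bIncl (L := K) B n b)
    rw [add_sub_cancel_right, zIncl_zMap] at h1
    obtain ⟨c, hc⟩ := h v (((φ.bijBC B hB n).2 _ (L.zIncl_mem B n v)).1 h1)
    refine add_mem ⟨((φ.f n).restrict fun x hx => φ.mapsTo_bd n hx).baseChange B c, ?_⟩ ⟨b, rfl⟩
    rw [← hc, ← LinearMap.comp_apply, ← LinearMap.comp_apply, ← LinearMap.baseChange_comp, ← LinearMap.baseChange_comp]
    rfl

theorem bcBij_iff (hA : φ.Bij A) (hB : φ.Bij B) (n : ℕ) : K.BCBij B n ↔ L.BCBij B n :=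
  and_congr (φ.bcSurj_iff B hA hB n) (φ.bcInj_iff B hA hB n)

end Groth.Agent.BCLib.CxHom
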