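import Groth.Agent.GenBCLib.Scal
import Groth.Agent.BCLib.Fibre

/-!
# The local situation of a base change square
-/

set_option autoImplicit false
set_option backward.isDefEq.respectTransparency false
set_option backward.defeqAttrib.useBackward true
set_option linter.style.haveILetI false
set_option linter.unusedSectionVars false

universe u

open CategoryTheory CategoryTheory.Limits AlgebraicGeometry TopologicalSpace Opposite TensorProduct
open Groth.Agent.CohBase Groth.Agent.ProjCoh Groth.Agent.FormalLib Groth.Agent.BCLib Groth.Agent.RpushLib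
open Groth.Agent.PullbackMod

noncomputable section

namespace Groth.Agent.GenBCLib

variable {X S X' S' : Scheme.{u}} {f : X ⟶ S} {g : S' ⟶ S} {f' : X' ⟶ S'} {g' : X' ⟶ X}
  (h : IsPullback g' f' f g) {V : S.Opens} (hV : IsAffineOpen V) {V' : S'.Opens} (hV' : IsAffineOpen V')
  (e : V' ≤ g ⁻¹ᵁ V)

include h e in
theorem sq_le : f' ⁻¹ᵁ V' ≤ g' ⁻¹ᵁ (f ⁻¹ᵁ V) :=
  (f'.preimage_mono e).trans (CohCmp.sqLE f g f' g' h.w V)

/-- The restricted morphism upstairs. -/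
abbrev sqMor : (f' ⁻¹ᵁ V' : Scheme.{u}) ⟶ (f ⁻¹ᵁ V : Scheme.{u}) :=
  g'.resLE (f ⁻¹ᵁ V) (f' ⁻¹ᵁ V') (sq_le h e)

theorem isPullback_sqMor :
    IsPullback (sqMor h e) (restOver f' hV') (restOver f hV) (Spec.map (g.appLE V V' e)) := by
  have hV0 := isPullback_restOver f hV
  have h1 := (isPullback_restOver f' hV').paste_horiz h
  rw [← IsAffineOpen.SpecMap_appLE_fromSpec g hV hV' e, ← Scheme.Hom.resLE_comp_ι g' (sq_le h e)] at h1
  refine h1.of_right ?_ hV0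
  rw [← cancel_mono hV.fromSpec]
  refine ((Category.assoc _ _ _).trans (congrArg (sqMor h e ≫ ·) hV0.w.symm)).trans ?_
  refine Eq.trans ?_ ((Category.assoc _ _ _).trans
    (congrArg (restOver f' hV' ≫ ·) (IsAffineOpen.SpecMap_appLE_fromSpec g hV hV' e))).symm
  refine Eq.trans ?_ (((Category.assoc _ _ _).symm.trans
    (congrArg (· ≫ g) (isPullback_restOver f' hV').w.symm)).trans (Category.assoc _ _ _)).symm
  rw [← h.w, Scheme.Hom.resLE_comp_ι_assoc]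

variable (f) in
/-- The Čech complex over an affine open of the base. -/
def upCx (F : X.Modules) {ι : Type u} (W : ι → (f ⁻¹ᵁ V : Scheme.{u}).Opens) : Cx Γ(S, V) :=
  letI := overV f hV
  { X := fun q => Coch (str Γ(S, V) (f ⁻¹ᵁ V : Scheme.{u})) (F.restrict (f ⁻¹ᵁ V).ι) W q
    d := fun q => dL (str Γ(S, V) (f ⁻¹ᵁ V : Scheme.{u})) (F.restrict (f ⁻¹ᵁ V).ι) W q
    d_d := fun q => LinearMap.ext fun c => BCLib.dL_dL Γ(S, V) W (F.restrict (f ⁻¹ᵁ V).ι) q c }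

variable (F : X.Modules) {ι : Type u} [Finite ι] (W : ι → (f ⁻¹ᵁ V : Scheme.{u}).Opens)

/-- The covering upstairs. -/
abbrev sqCov : ι → (f' ⁻¹ᵁ V' : Scheme.{u}).Opens := ProperFin.preCov (sqMor h e) W

theorem sqCov_cov (hcov : (⊤ : (f ⁻¹ᵁ V : Scheme.{u}).Opens) ≤ iSup W) :
    (⊤ : (f' ⁻¹ᵁ V' : Scheme.{u}).Opens) ≤ iSup (sqCov h e W) := fun x _ => by
  obtain ⟨b, hb⟩ := Opens.mem_iSup.1 (hcov (show sqMor h e x ∈ (⊤ : (f ⁻¹ᵁ V : Scheme.{u}).Opens) from trivial))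
  exact Opens.mem_iSup.2 ⟨b, hb⟩

variable (haff : ∀ (m : ℕ) (i : Fin (m + 1) → ι), IsAffineOpen (inter W i))

include hV hV' haff in
theorem sqCov_haff (m : ℕ) (i : Fin (m + 1) → ι) : IsAffineOpen (inter (sqCov h e W) i) := by
  letI := overV f hV
  letI := overV f' hV'
  rw [← ProperFin.inter_preCov]
  exact (isPushout_secHom (R := Γ(S, V)) (R' := Γ(S', V')) (f := restOver f hV) (f' := restOver f' hV')
    (φ := g.appLE V V' e) (isPullback_sqMor h hV hV' e) (haff m i)).1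

variable [Coh.IsQCoh (F.restrict (f ⁻¹ᵁ V).ι)]

/-- Cochains upstairs are base change of the cochains downstairs. -/
def upTheta (n : ℕ) :
    letI := (g.appLE V V' e).hom.toAlgebra
    letI := overV f' hV'
    Γ(S', V') ⊗[Γ(S, V)] (upCx f hV F W).X n ≃ₗ[Γ(S', V')]
      Coch (str Γ(S', V') (f' ⁻¹ᵁ V' : Scheme.{u}))
        (((Scheme.Modules.pullback g').obj F).restrict (f' ⁻¹ᵁ V').ι) (sqCov h e W) n :=
  letI := (g.appLE V V' e).hom.toAlgebra
  letI := overV f hV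
  letI := overV f' hV'
  letI := Module.compHom (Coch (str Γ(S', V') (f' ⁻¹ᵁ V' : Scheme.{u}))
    ((Scheme.Modules.pullback (sqMor h e)).obj (F.restrict (f ⁻¹ᵁ V).ι)) (sqCov h e W) n) (g.appLE V V' e).hom
  haveI : IsScalarTower Γ(S, V) Γ(S', V') (Coch (str Γ(S', V') (f' ⁻¹ᵁ V' : Scheme.{u}))
    ((Scheme.Modules.pullback (sqMor h e)).obj (F.restrict (f ⁻¹ᵁ V).ι)) (sqCov h e W) n) :=
    .of_algebraMap_smul fun _ _ => rfl
  (isBaseChange_pullCoch (R := Γ(S, V)) (R' := Γ(S', V')) (sqMor h e) (g.appLE V V' e)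
      (isPullback_sqMor h hV hV' e) W (F.restrict (f ⁻¹ᵁ V).ι) haff n).equiv ≪≫ₗ
    cochEquiv (sqCov h e W) (CohPull.pullOnIso g' (f ⁻¹ᵁ V) (f' ⁻¹ᵁ V') (sq_le h e) F) n

/-- The inverse image of cochains. -/
def upPull (n : ℕ) (c : (upCx f hV F W).X n) :
    letI := overV f' hV'
    Coch (str Γ(S', V') (f' ⁻¹ᵁ V' : Scheme.{u}))
      (((Scheme.Modules.pullback g').obj F).restrict (f' ⁻¹ᵁ V').ι) (sqCov h e W) n :=
  fc (sqMor h e).base W (sqCov h e W) (fun _ => le_rfl) (onAb g' (f ⁻¹ᵁ V) (f' ⁻¹ᵁ V') (sq_le h e) F) n c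

theorem fsec_onAb {Y Z : Scheme.{u}} (k : Z ⟶ Y) (U : Y.Opens) (U' : Z.Opens) (hU : U' ≤ k ⁻¹ᵁ U) (M : Y.Modules)
    {O : U.toScheme.Opens} {O' : U'.toScheme.Opens} (hO : O' ≤ k.resLE U U' hU ⁻¹ᵁ O) (s : Γ(M, U.ι ''ᵁ O)) :
    fsec (k.resLE U U' hU).base (onAb k U U' hU M) hO s =
      (CohPull.pullOnIso k U U' hU M).hom.app O'
        (pullMap (k.resLE U U' hU) (M.restrict U.ι) hO (show Γ(M.restrict U.ι, O) from s)) :=
  (appRes (CohPull.pullOnIso k U U' hU M).hom hO _).symm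

theorem upTheta_one_tmul (n : ℕ) (c : (upCx f hV F W).X n) :
    letI := (g.appLE V V' e).hom.toAlgebra
    upTheta h hV hV' e F W haff n ((1 : Γ(S', V')) ⊗ₜ[Γ(S, V)] c) = upPull h hV hV' e F W n c := by
  letI := (g.appLE V V' e).hom.toAlgebra
  letI := overV f hV
  letI := overV f' hV'
  letI := Module.compHom (Coch (str Γ(S', V') (f' ⁻¹ᵁ V' : Scheme.{u}))
    ((Scheme.Modules.pullback (sqMor h e)).obj (F.restrict (f ⁻¹ᵁ V).ι)) (sqCov h e W) n) (g.appLE V V' e).hom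
  haveI : IsScalarTower Γ(S, V) Γ(S', V') (Coch (str Γ(S', V') (f' ⁻¹ᵁ V' : Scheme.{u}))
    ((Scheme.Modules.pullback (sqMor h e)).obj (F.restrict (f ⁻¹ᵁ V).ι)) (sqCov h e W) n) :=
    .of_algebraMap_smul fun _ _ => rfl
  refine (congrArg (cochEquiv (sqCov h e W) (CohPull.pullOnIso g' (f ⁻¹ᵁ V) (f' ⁻¹ᵁ V') (sq_le h e) F) n)
    ((IsBaseChange.equiv_tmul (isBaseChange_pullCoch (R := Γ(S, V)) (R' := Γ(S', V')) (sqMor h e) (g.appLE V V' e)
      (isPullback_sqMor h hV hV' e) W (F.restrict (f ⁻¹ᵁ V).ι) haff n) 1 c).trans (one_smul _ _))).trans ?_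
  funext i
  exact (fsec_onAb g' (f ⁻¹ᵁ V) (f' ⁻¹ᵁ V') (sq_le h e) F (ProperFin.inter_preCov (sqMor h e) W i).ge (c i)).symm

theorem dL_upPull (n : ℕ) (c : (upCx f hV F W).X n) :
    letI := overV f' hV'
    dL (str Γ(S', V') (f' ⁻¹ᵁ V' : Scheme.{u})) (((Scheme.Modules.pullback g').obj F).restrict (f' ⁻¹ᵁ V').ι)
        (sqCov h e W) n (upPull h hV hV' e F W n c) =
      upPull h hV hV' e F W (n + 1) ((upCx f hV F W).d n c) := by
  letI := overV f hV
  letI := overV f' hV'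
  exact dL_fc (A := Γ(S, V)) (A' := Γ(S', V')) (sqMor h e) W (sqCov h e W) (fun _ => le_rfl)
    (F.restrict (f ⁻¹ᵁ V).ι) (((Scheme.Modules.pullback g').obj F).restrict (f' ⁻¹ᵁ V').ι)
    (onAb g' (f ⁻¹ᵁ V) (f' ⁻¹ᵁ V') (sq_le h e) F) n c

theorem dL_upTheta (n : ℕ) :
    letI := (g.appLE V V' e).hom.toAlgebra
    letI := overV f' hV'
    ∀ z, dL (str Γ(S', V') (f' ⁻¹ᵁ V' : Scheme.{u})) (((Scheme.Modules.pullback g').obj F).restrict (f' ⁻¹ᵁ V').ι)
        (sqCov h e W) n (upTheta h hV hV' e F W haff n z) =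
      upTheta h hV hV' e F W haff (n + 1) (((upCx f hV F W).d n).baseChange Γ(S', V') z) := by
  letI := (g.appLE V V' e).hom.toAlgebra
  letI := overV f hV
  letI := overV f' hV'
  intro z
  induction z using TensorProduct.induction_on with
  | zero => simp only [map_zero]
  | tmul b c =>
    have h1 : b ⊗ₜ[Γ(S, V)] c = b • ((1 : Γ(S', V')) ⊗ₜ[Γ(S, V)] c) := by
      rw [TensorProduct.smul_tmul', smul_eq_mul, mul_one]
    rw [h1, map_smul, map_smul, map_smul, map_smul, upTheta_one_tmul, dL_upPull, LinearMap.baseChange_tmul,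
      upTheta_one_tmul]
  | add u v hu hv => simp only [map_add, hu, hv]

end Groth.Agent.GenBCLib
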