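import Groth.Agent.GenBCLib.EpsBij
import Groth.Agent.GenBCLib.BCSq
import Groth.Agent.GenBCLib.BCAlg
import Groth.Agent.PullbackMod.Sections

/-!
# The base change map on sections over affine opens
-/

set_option autoImplicit false
set_option backward.isDefEq.respectTransparency false
set_option backward.defeqAttrib.useBackward true
set_option linter.style.haveILetI false
set_option linter.unusedSectionVars false

universe u

open CategoryTheory CategoryTheory.Limits AlgebraicGeometry TopologicalSpace Opposite TensorProduct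
open Groth.Agent.CohBase Groth.Agent.ProjCoh Groth.Agent.FormalLib Groth.Agent.BCLib Groth.Agent.RpushLib
open Groth.Agent.PullbackMod

noncomputable section

namespace Groth.Agent.GenBCLib

theorem transpose_pullMap {S S' : Scheme.{u}} (g : S' ⟶ S) {M : S.Modules} {N : S'.Modules}
    (φ : M ⟶ (Scheme.Modules.pushforward g).obj N) {V : S.Opens} {V' : S'.Opens} (e : V' ≤ g ⁻¹ᵁ V) (m : Γ(M, V)) :
    (((Scheme.Modules.pullbackPushforwardAdjunction g).homEquiv M N).symm φ).app V' (pullMap g M e m) =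
      N.presheaf.map (homOfLE e).op (show Γ(N, g ⁻¹ᵁ V) from φ.app V m) := by
  refine (appRes _ e _).trans (congrArg _ ?_)
  have h : (Scheme.Modules.pullbackPushforwardAdjunction g).unit.app M ≫
      (Scheme.Modules.pushforward g).map (((Scheme.Modules.pullbackPushforwardAdjunction g).homEquiv M N).symm φ) = φ :=
    (Adjunction.homEquiv_unit _ _ _ _).symm.trans (Equiv.apply_symm_apply _ _)
  exact congrArg (fun k : M ⟶ _ => k.app V m) h

theorem transpose_pullMap' {S S' : Scheme.{u}} (g : S' ⟶ S) {M : S.Modules} {N : S'.Modules}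
    (φ : M ⟶ (Scheme.Modules.pushforward g).obj N) {V : S.Opens} {V' : S'.Opens} (e : V' ≤ g ⁻¹ᵁ V) (m : Γ(M, V))
    (t : Γ(N, g ⁻¹ᵁ V)) (ht : φ.app V m = t) :
    (((Scheme.Modules.pullbackPushforwardAdjunction g).homEquiv M N).symm φ).app V' (pullMap g M e m) =
      N.presheaf.map (homOfLE e).op t :=
  (transpose_pullMap g φ e m).trans (congrArg _ ht)

theorem eps_res_eq {X S : Scheme.{u}} (f : X ⟶ S) [HasInjectiveResolutions X.Modules]
    {Δ : RDer.DerivedLES (Scheme.Modules.pushforward f)} (E : CohCmp.SectCmp f Δ) (p : ℕ) (M : X.Modules)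
    {V W : S.Opens} (h : W ≤ V) (x : Coh.HHon X M (f ⁻¹ᵁ V) p) (y : Coh.HHon X M (f ⁻¹ᵁ W) p)
    (hy : CohPull.resLE M (f.preimage_mono h) p x = y) :
    ((Coh.Rpush f p).obj M).presheaf.map (homOfLE h).op (E.ε V M p x) = E.ε W M p y := by
  rw [← hy, eps_res f E p M h x]

theorem range_bdry_succ {A : Type u} [CommRing A] {Y : Scheme.{u}} (q : Y ⟶ Spec (CommRingCat.of A)) (N : Y.Modules)
    {κ : Type u} (U : κ → Y.Opens) (n : ℕ) :
    bdry q N U (1 : Ideal A) (n + 1) 0 = LinearMap.range (dL q N U n) := by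
  show Submodule.map _ _ = LinearMap.range _
  rw [pow_zero, Ideal.one_eq_top, Submodule.top_smul, Submodule.map_top]

theorem mem_range_iff_bBC {A B : Type u} [CommRing A] [CommRing B] [Algebra A B] (K : Cx A) (n : ℕ) {P Q : Type u}
    [AddCommGroup P] [Module B P] [AddCommGroup Q] [Module B Q] (d' : P →ₗ[B] Q)
    (a : B ⊗[A] K.X n ≃ₗ[B] P) (b : B ⊗[A] K.X (n + 1) ≃ₗ[B] Q)
    (hab : ∀ w, d' (a w) = b ((K.d n).baseChange B w)) (z : B ⊗[A] K.X (n + 1)) :
    b z ∈ LinearMap.range d' ↔ z ∈ K.bBC B (n + 1) := by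
  constructor
  · rintro ⟨y, hy⟩
    obtain ⟨w, rfl⟩ := a.surjective y
    exact ⟨w, b.injective ((hab w).symm.trans hy)⟩
  · rintro ⟨w, hw⟩
    exact ⟨a w, (hab w).trans (congrArg b hw)⟩

theorem mem_bot_iff_bBC {A B : Type u} [CommRing A] [CommRing B] [Algebra A B] (K : Cx A) {P : Type u}
    [AddCommGroup P] [Module B P] (a : B ⊗[A] K.X 0 ≃ₗ[B] P) (z : B ⊗[A] K.X 0) :
    a z ∈ (⊥ : Submodule B P) ↔ z ∈ K.bBC B 0 := by
  show _ ↔ z ∈ (⊥ : Submodule B _)
  rw [Submodule.mem_bot, Submodule.mem_bot, map_eq_zero_iff _ a.injective]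

variable {X S X' S' : Scheme.{u}} {f : X ⟶ S} {g : S' ⟶ S} {f' : X' ⟶ S'} {g' : X' ⟶ X}
  (h : IsPullback g' f' f g) [IsSeparated f] [QuasiCompact f]
  [HasInjectiveResolutions X.Modules] [HasInjectiveResolutions X'.Modules]
  {Δ : RDer.DerivedLES (Scheme.Modules.pushforward f)} {Δ' : RDer.DerivedLES (Scheme.Modules.pushforward f')}
  {E : CohCmp.SectCmp f Δ} {E' : CohCmp.SectCmp f' Δ'} (Bc : CohCmp.GenBC f g f' g' h.w E E')
  (F : X.Modules) [Coh.IsQCoh F]
  {V : S.Opens} (hV : IsAffineOpen V) {V' : S'.Opens} (hV' : IsAffineOpen V') (e : V' ≤ g ⁻¹ᵁ V)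
  {ι : Type u} [Finite ι] (W : ι → (f ⁻¹ᵁ V : Scheme.{u}).Opens)
  (hcov : (⊤ : (f ⁻¹ᵁ V : Scheme.{u}).Opens) ≤ iSup W)
  (haff : ∀ (m : ℕ) (i : Fin (m + 1) → ι), IsAffineOpen (inter W i))

variable [Coh.IsQCoh (F.restrict (f ⁻¹ᵁ V).ι)]

/-- The classes of cocycles as sections of the higher direct image. -/
def evDown (E : CohCmp.SectCmp f Δ) (p : ℕ) :
    ↥(LinearMap.ker ((upCx f hV F W).d p)) →ₗ[Γ(S, V)] Γ((Coh.Rpush f p).obj F, V) :=
  letI := overV f hV
  { toFun := fun z => E.ε V F p (cls (A := Γ(S, V)) W hcov haff (F.restrict (f ⁻¹ᵁ V).ι) p z)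
    map_add' := fun z w => (congrArg (E.ε V F p) (map_add (cls (A := Γ(S, V)) W hcov haff _ p) z w)).trans (map_add _ _ _)
    map_smul' := fun a z => (congrArg (E.ε V F p) (cls_smul_overV f hV F W hcov haff p a z)).trans
      (eps_smul f E p F V a _) }

theorem evDown_surjective (p : ℕ) : Function.Surjective (evDown F hV W hcov haff E p) := by
  letI := overV f hV
  exact (eps_surjective f hV F E p).comp (cls_surjective (A := Γ(S, V)) W hcov haff _ p)

theorem bdry_one_eq (p : ℕ) :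
    letI := overV f hV
    bdry (str Γ(S, V) (f ⁻¹ᵁ V : Scheme.{u})) (F.restrict (f ⁻¹ᵁ V).ι) W (1 : Ideal Γ(S, V)) p 0 =
      (upCx f hV F W).bd p := by
  letI := overV f hV
  cases p with
  | zero => rfl
  | succ q =>
    show Submodule.map _ _ = LinearMap.range _
    rw [pow_zero, Ideal.one_eq_top, Submodule.top_smul, Submodule.map_top]
    rfl

theorem evDown_eq_zero_iff (p : ℕ) (z : ↥(LinearMap.ker ((upCx f hV F W).d p))) :
    evDown F hV W hcov haff E p z = 0 ↔ z.1 ∈ (upCx f hV F W).bd p := by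
  letI := overV f hV
  refine (map_eq_zero_iff _ (eps_injective f hV F E p)).trans ?_
  refine (cls_eq_zero_iff (A := Γ(S, V)) W hcov haff _ p z).trans ?_
  rw [bdry_one_eq]

variable [IsSeparated f'] [QuasiCompact f'] [Coh.IsQCoh ((Scheme.Modules.pullback g').obj F)]
  [Coh.IsQCoh (((Scheme.Modules.pullback g').obj F).restrict (f' ⁻¹ᵁ V').ι)]

/-- Cocycles after base change, as cocycles upstairs. -/
def upCoc (p : ℕ) :
    letI := (g.appLE V V' e).hom.toAlgebra
    letI := overV f' hV'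
    ↥((upCx f hV F W).zBC Γ(S', V') p) →ₗ[Γ(S', V')]
      ↥(LinearMap.ker (dL (str Γ(S', V') (f' ⁻¹ᵁ V' : Scheme.{u}))
        (((Scheme.Modules.pullback g').obj F).restrict (f' ⁻¹ᵁ V').ι) (sqCov h e W) p)) :=
  letI := (g.appLE V V' e).hom.toAlgebra
  letI := overV f' hV'
  (upTheta h hV hV' e F W haff p).toLinearMap.restrict fun z hz =>
    LinearMap.mem_ker.2 ((dL_upTheta h hV hV' e F W haff p z).trans
      ((congrArg (upTheta h hV hV' e F W haff (p + 1)) (LinearMap.mem_ker.1 hz)).trans (map_zero _)))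

/-- Classes after base change, as sections. -/
def evUp (E' : CohCmp.SectCmp f' Δ') (p : ℕ) :
    letI := (g.appLE V V' e).hom.toAlgebra
    ↥((upCx f hV F W).zBC Γ(S', V') p) →ₗ[Γ(S', V')]
      Γ((Coh.Rpush f' p).obj ((Scheme.Modules.pullback g').obj F), V') :=
  letI := (g.appLE V V' e).hom.toAlgebra
  letI := overV f' hV'
  (evDown ((Scheme.Modules.pullback g').obj F) hV' (sqCov h e W) (sqCov_cov h e W hcov)
      (sqCov_haff h hV hV' e W haff) E' p).comp (upCoc h F hV hV' e W haff p)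

theorem evUp_apply (p : ℕ) :
    letI := (g.appLE V V' e).hom.toAlgebra
    letI := overV f' hV'
    ∀ z, evUp h F hV hV' e W hcov haff E' p z =
      E'.ε V' ((Scheme.Modules.pullback g').obj F) p
        (cls (A := Γ(S', V')) (sqCov h e W) (sqCov_cov h e W hcov) (sqCov_haff h hV hV' e W haff)
          (((Scheme.Modules.pullback g').obj F).restrict (f' ⁻¹ᵁ V').ι) p (upCoc h F hV hV' e W haff p z)) :=
  fun _ => rfl

theorem evUp_surjective (p : ℕ) :
    letI := (g.appLE V V' e).hom.toAlgebra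
    Function.Surjective (evUp h F hV hV' e W hcov haff E' p) := by
  letI := (g.appLE V V' e).hom.toAlgebra
  letI := overV f' hV'
  intro t
  obtain ⟨x, rfl⟩ := eps_surjective f' hV' ((Scheme.Modules.pullback g').obj F) E' p t
  obtain ⟨⟨c, hc⟩, rfl⟩ := cls_surjective (A := Γ(S', V')) (sqCov h e W) (sqCov_cov h e W hcov)
    (sqCov_haff h hV hV' e W haff) (((Scheme.Modules.pullback g').obj F).restrict (f' ⁻¹ᵁ V').ι) p x
  obtain ⟨z, rfl⟩ := (upTheta h hV hV' e F W haff p).surjective c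
  exact ⟨⟨z, LinearMap.mem_ker.2 ((upTheta h hV hV' e F W haff (p + 1)).injective
    ((dL_upTheta h hV hV' e F W haff p z).symm.trans ((LinearMap.mem_ker.1 hc).trans (map_zero _).symm)))⟩, rfl⟩

theorem evUp_eq_zero_iff (p : ℕ) :
    letI := (g.appLE V V' e).hom.toAlgebra
    ∀ z, evUp h F hV hV' e W hcov haff E' p z = 0 ↔ z.1 ∈ (upCx f hV F W).bBC Γ(S', V') p := by
  letI := (g.appLE V V' e).hom.toAlgebra
  letI := overV f' hV'
  intro z
  refine (map_eq_zero_iff _ (eps_injective f' hV' ((Scheme.Modules.pullback g').obj F) E' p)).trans ?_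
  refine (cls_eq_zero_iff (A := Γ(S', V')) (sqCov h e W) _ _ _ p _).trans ?_
  cases p with
  | zero => exact mem_bot_iff_bBC (upCx f hV F W) (upTheta h hV hV' e F W haff 0) z.1
  | succ q =>
    rw [range_bdry_succ]
    exact mem_range_iff_bBC (upCx f hV F W) q _ (upTheta h hV hV' e F W haff q)
      (upTheta h hV hV' e F W haff (q + 1)) (dL_upTheta h hV hV' e F W haff q) z.1

theorem resLE_pullOn_sq (p : ℕ) (x : Coh.HHon X F (f ⁻¹ᵁ V) p) :
    CohPull.resLE ((Scheme.Modules.pullback g').obj F) (f'.preimage_mono e) p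
        (CohPull.pullOn g' (f ⁻¹ᵁ V) (f' ⁻¹ᵁ (g ⁻¹ᵁ V)) (CohCmp.sqLE f g f' g' h.w V) F p x) =
      CohPull.pullOn g' (f ⁻¹ᵁ V) (f' ⁻¹ᵁ V') (sq_le h e) F p x :=
  resLE_pullOn g' (f ⁻¹ᵁ V) (CohCmp.sqLE f g f' g' h.w V) (f'.preimage_mono e) F p x

theorem eps_pullOn_res (p : ℕ) (x : Coh.HHon X F (f ⁻¹ᵁ V) p) :
    ((Coh.Rpush f' p).obj ((Scheme.Modules.pullback g').obj F)).presheaf.map (homOfLE e).op
        (E'.ε (g ⁻¹ᵁ V) ((Scheme.Modules.pullback g').obj F) p
          (CohPull.pullOn g' (f ⁻¹ᵁ V) (f' ⁻¹ᵁ (g ⁻¹ᵁ V)) (CohCmp.sqLE f g f' g' h.w V) F p x)) =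
      E'.ε V' ((Scheme.Modules.pullback g').obj F) p
        (CohPull.pullOn g' (f ⁻¹ᵁ V) (f' ⁻¹ᵁ V') (sq_le h e) F p x) :=
  eps_res_eq f' E' p _ e _ _ (resLE_pullOn_sq h F e p x)

include Bc in
theorem bc_eps_aux (p : ℕ) (x : Coh.HHon X F (f ⁻¹ᵁ V) p) :
    (Bc.bc p F).app V' (pullMap g ((Coh.Rpush f p).obj F) e (E.ε V F p x)) =
      ((Coh.Rpush f' p).obj ((Scheme.Modules.pullback g').obj F)).presheaf.map (homOfLE e).op
        (E'.ε (g ⁻¹ᵁ V) ((Scheme.Modules.pullback g').obj F) p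
          (CohPull.pullOn g' (f ⁻¹ᵁ V) (f' ⁻¹ᵁ (g ⁻¹ᵁ V)) (CohCmp.sqLE f g f' g' h.w V) F p x)) :=
  transpose_pullMap' g (Bc.φ p F) e _ _ (Bc.compat V F p x)

include Bc in
/-- The base change map on a class of cohomology. -/
theorem bc_eps (p : ℕ) (x : Coh.HHon X F (f ⁻¹ᵁ V) p) :
    (Bc.bc p F).app V' (pullMap g ((Coh.Rpush f p).obj F) e (E.ε V F p x)) =
      E'.ε V' ((Scheme.Modules.pullback g').obj F) p
        (CohPull.pullOn g' (f ⁻¹ᵁ V) (f' ⁻¹ᵁ V') (sq_le h e) F p x) :=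
  (bc_eps_aux h Bc F e p x).trans (eps_pullOn_res h F e p x)

theorem pullOn_cls (p : ℕ) :
    letI := (g.appLE V V' e).hom.toAlgebra
    letI := overV f hV
    letI := overV f' hV'
    ∀ (z : ↥(LinearMap.ker ((upCx f hV F W).d p)))
      (hz : (1 : Γ(S', V')) ⊗ₜ[Γ(S, V)] z.1 ∈ (upCx f hV F W).zBC Γ(S', V') p),
      CohPull.pullOn g' (f ⁻¹ᵁ V) (f' ⁻¹ᵁ V') (sq_le h e) F p
          (cls (A := Γ(S, V)) W hcov haff (F.restrict (f ⁻¹ᵁ V).ι) p z) =
        cls (A := Γ(S', V')) (sqCov h e W) (sqCov_cov h e W hcov) (sqCov_haff h hV hV' e W haff)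
          (((Scheme.Modules.pullback g').obj F).restrict (f' ⁻¹ᵁ V').ι) p (upCoc h F hV hV' e W haff p ⟨_, hz⟩) := by
  letI := (g.appLE V V' e).hom.toAlgebra
  letI := overV f hV
  letI := overV f' hV'
  intro z hz
  rw [pullOn_eq]
  exact pullH_cls (A := Γ(S, V)) (A' := Γ(S', V')) (sqMor h e) W (sqCov h e W) (fun _ => le_rfl)
    (F.restrict (f ⁻¹ᵁ V).ι) (((Scheme.Modules.pullback g').obj F).restrict (f' ⁻¹ᵁ V').ι)
    (onAb g' (f ⁻¹ᵁ V) (f' ⁻¹ᵁ V') (sq_le h e) F) hcov haff (sqCov_cov h e W hcov)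
    (sqCov_haff h hV hV' e W haff) p z _ (upTheta_one_tmul h hV hV' e F W haff p z.1)

include Bc in
/-- The base change map on a class of a cocycle. -/
theorem bc_evDown (p : ℕ) :
    letI := (g.appLE V V' e).hom.toAlgebra
    ∀ (z : ↥(LinearMap.ker ((upCx f hV F W).d p)))
      (hz : (1 : Γ(S', V')) ⊗ₜ[Γ(S, V)] z.1 ∈ (upCx f hV F W).zBC Γ(S', V') p),
      (Bc.bc p F).app V' (pullMap g ((Coh.Rpush f p).obj F) e (evDown F hV W hcov haff E p z)) =
        evUp h F hV hV' e W hcov haff E' p ⟨_, hz⟩ := by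
  letI := (g.appLE V V' e).hom.toAlgebra
  intro z hz
  letI := overV f hV
  letI := overV f' hV'
  exact ((bc_eps h Bc F e p _).trans (congrArg (E'.ε V' _ p) (pullOn_cls h F hV hV' e W hcov haff p z hz))).trans
    (evUp_apply h F hV hV' e W hcov haff p ⟨_, hz⟩).symm

include h Bc hV hV' hcov haff in
/-- The base change map on sections over affine opens in terms of the Čech complex. -/
theorem bc_app_criterion (p : ℕ) :
    letI := (g.appLE V V' e).hom.toAlgebra
    (Function.Surjective ((Bc.bc p F).app V') ↔ (upCx f hV F W).BCSurj Γ(S', V') p) ∧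
      (Function.Injective ((Bc.bc p F).app V') ↔ (upCx f hV F W).BCInj Γ(S', V') p) := by
  letI := (g.appLE V V' e).hom.toAlgebra
  let M := (Coh.Rpush f p).obj F
  haveI : Coh.IsQCoh M := isQCoh_rpush f p
  letI := Module.compHom Γ((Scheme.Modules.pullback g).obj M, V') (g.appLE V V' e).hom
  haveI : IsScalarTower Γ(S, V) Γ(S', V') Γ((Scheme.Modules.pullback g).obj M, V') :=
    .of_algebraMap_smul fun _ _ => rfl
  refine Cx.bc_criterion (K := upCx f hV F W) (e := (isBaseChange_pullMapL g M hV hV' e).equiv)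
    (β := QCohLib.appLinear (Bc.bc p F) V')
    (evDown_surjective F hV W hcov haff (E := E) p) (evDown_eq_zero_iff F hV W hcov haff p)
    (evUp_surjective h F hV hV' e W hcov haff (E' := E') p) (evUp_eq_zero_iff h F hV hV' e W hcov haff p)
    fun z hz => ?_
  rw [IsBaseChange.equiv_tmul, one_smul]
  exact bc_evDown h Bc F hV hV' e W hcov haff p z hz

end Groth.Agent.GenBCLib
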