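import Groth.Agent.GenBCLib.GoodProj

/-!
# Base change properties of a complex at a point and near it
-/

set_option autoImplicit false
set_option backward.isDefEq.respectTransparency false
set_option linter.unusedSectionVars false
set_option linter.style.haveILetI false

universe u

open TensorProduct LinearMap

noncomputable section

namespace Groth.Agent.BCLib.Cx

variable {A : Type u} [CommRing A] (L : Cx A) {B B' : Type u} [CommRing B] [Algebra A B] [CommRing B'] [Algebra A B']

theorem rTensor_baseChange (e : B →ₗ[A] B') {M N : Type u} [AddCommGroup M] [Module A M] [AddCommGroup N]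
    [Module A N] (g : M →ₗ[A] N) (w : B ⊗[A] M) :
    g.baseChange B' (e.rTensor M w) = e.rTensor N (g.baseChange B w) := by
  induction w using TensorProduct.induction_on with
  | zero => simp only [map_zero]
  | tmul b m => rfl
  | add x y hx hy => simp only [map_add, hx, hy]

theorem map_mem_zBC (e : B →ₗ[A] B') {n : ℕ} {z : B ⊗[A] L.X n} (hz : z ∈ L.zBC B n) :
    e.rTensor (L.X n) z ∈ L.zBC B' n := by
  rw [LinearMap.mem_ker] at hz ⊢
  rw [rTensor_baseChange, hz, map_zero]

theorem map_mem_bBC (e : B →ₗ[A] B') {n : ℕ} {z : B ⊗[A] L.X n} (hz : z ∈ L.bBC B n) :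
    e.rTensor (L.X n) z ∈ L.bBC B' n := by
  cases n with
  | zero =>
    rw [(Submodule.mem_bot B).1 hz, map_zero]
    exact zero_mem _
  | succ m =>
    obtain ⟨w, rfl⟩ := hz
    exact ⟨e.rTensor (L.X m) w, rTensor_baseChange e (L.d m) w⟩

theorem rTensor_symm_apply (e : B ≃ₐ[A] B') {M : Type u} [AddCommGroup M] [Module A M] (z : B' ⊗[A] M) :
    e.toLinearMap.rTensor M (e.symm.toLinearMap.rTensor M z) = z := by
  induction z using TensorProduct.induction_on with
  | zero => simp only [map_zero]
  | tmul b m => simp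
  | add x y hx hy => simp only [map_add, hx, hy]

/-- Surjectivity of base change only depends on the algebra up to isomorphism. -/
theorem bcSurj_of_equiv (e : B ≃ₐ[A] B') {n : ℕ} (h : L.BCSurj B n) : L.BCSurj B' n := fun z hz => by
  obtain ⟨w, hw⟩ := h _ (L.map_mem_zBC e.symm.toLinearMap hz)
  refine ⟨e.toLinearMap.rTensor _ w, ?_⟩
  have := L.map_mem_bBC e.toLinearMap hw
  rw [map_sub, rTensor_symm_apply] at this
  rwa [show L.zIncl B' n (e.toLinearMap.rTensor _ w) = e.toLinearMap.rTensor _ (L.zIncl B n w) from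
    rTensor_baseChange _ _ w]

theorem bcSurj_congr (e : B ≃ₐ[A] B') (n : ℕ) : L.BCSurj B n ↔ L.BCSurj B' n :=
  ⟨L.bcSurj_of_equiv e, L.bcSurj_of_equiv e.symm⟩

theorem zBC_le_of_equiv (e : B ≃ₐ[A] B') {n : ℕ} (h : L.zBC B n ≤ L.bBC B n) : L.zBC B' n ≤ L.bBC B' n :=
  fun z hz => by
    have := L.map_mem_bBC e.toLinearMap (h (L.map_mem_zBC e.symm.toLinearMap hz))
    rwa [rTensor_symm_apply] at this

variable [∀ n, Module.Finite A (L.X n)] [∀ n, Module.Projective A (L.X n)]

/-- No cohomology after base change where the cocycles are coboundaries up to a unit. -/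
theorem zBC_le_of_kills {a b : A} {n : ℕ} (hg : L.Good a n)
    (hk : ∀ x : ↥(LinearMap.ker (L.d n)), b • x.1 ∈ L.bd n) (ha : IsUnit (algebraMap A B a))
    (hb : IsUnit (algebraMap A B b)) : L.zBC B n ≤ L.bBC B n := fun z hz => by
  obtain ⟨w, hw⟩ := (hg.bcBij B ha).1 z hz
  let j : ↥(LinearMap.ker (L.d n)) →ₗ[A] ↥(L.bd n) :=
    (b • (LinearMap.ker (L.d n)).subtype).codRestrict _ hk
  have h1 : L.bIncl B n (j.baseChange B w) = algebraMap A B b • w := by
    rw [← LinearMap.comp_apply, ← LinearMap.baseChange_comp,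
      show Submodule.inclusion (L.bd_le_ker n) ∘ₗ j = b • LinearMap.id from LinearMap.ext fun x => Subtype.ext rfl,
      LinearMap.baseChange_smul, LinearMap.smul_apply, LinearMap.baseChange_id, LinearMap.id_apply, algebraMap_smul]
  have h2 : L.zIncl B n w ∈ L.bBC B n := by
    obtain ⟨u, hu⟩ := hb
    have h3 := CxHom.zIncl_bIncl (L := L) B n (j.baseChange B w)
    rw [h1, map_smul, ← hu] at h3
    have := Submodule.smul_mem _ (↑u⁻¹ : B) h3
    rwa [smul_smul, Units.inv_mul, one_smul] at this
  simpa using add_mem hw h2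

/-- The fibre rank of a cokernel is constant near a point where it splits. -/
theorem eventually_fdim_eq {a : A} {n : ℕ} (h : L.Split a n) {x : PrimeSpectrum A} (hx : a ∉ x.asIdeal) :
    ∀ᶠ y in nhds x, FlatCx.fdim (L.X n ⧸ L.bd n) y = FlatCx.fdim (L.X n ⧸ L.bd n) x := by
  let B := Localization.Away a
  haveI := L.projective_away_of_split h
  haveI : Module.FinitePresentation B (B ⊗[A] (L.X n ⧸ L.bd n)) :=
    Module.finitePresentation_of_projective B _
  have hc := FlatCx.fdim_isLocallyConstant (A := B) (B ⊗[A] (L.X n ⧸ L.bd n))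
  have ho := PrimeSpectrum.localization_away_isOpenEmbedding B a
  obtain ⟨y, hy⟩ : x ∈ Set.range (PrimeSpectrum.comap (algebraMap A B)) := by
    rw [PrimeSpectrum.localization_away_comap_range B a]
    exact hx
  have h1 := (IsLocallyConstant.iff_eventually_eq _).1 hc y
  rw [← hy, ← ho.map_nhds_eq y, Filter.eventually_map]
  refine h1.mono fun z hz => ?_
  rwa [FlatCx.fdim_comap, FlatCx.fdim_comap] at hz

/-- Good in two neighbouring degrees: the dimension of the cohomology of the fibres is constant near the point. -/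
theorem eventually_kdim_eq {a : A} {n : ℕ} (hg : L.Good a n) (hs : L.Split a n) {x : PrimeSpectrum A}
    (hx : a ∉ x.asIdeal) :
    ∀ᶠ y in nhds x, FlatCx.kdim (L.δ n) y.asIdeal.ResidueField = FlatCx.kdim (L.δ n) x.asIdeal.ResidueField := by
  haveI : Module.FinitePresentation A (L.X (n + 1)) := Module.finitePresentation_of_projective A _
  have h1 := L.eventually_fdim_eq hg hx
  have h2 := L.eventually_fdim_eq hs hx
  have h3 := (IsLocallyConstant.iff_eventually_eq _).1 (FlatCx.fdim_isLocallyConstant (A := A) (L.X (n + 1))) x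
  filter_upwards [h1, h2, h3] with y e1 e2 e3
  have a1 := L.kdim_δ_add inferInstance n x
  have a2 := L.kdim_δ_add inferInstance n y
  omega

/-- Constant dimension of the cohomology of the fibres over a reduced ring: good in two degrees. -/
theorem exists_split_of_kdim_const [IsReduced A] {n : ℕ} (x : PrimeSpectrum A)
    (h : ∀ᶠ y in nhds x, FlatCx.kdim (L.δ n) y.asIdeal.ResidueField = FlatCx.kdim (L.δ n) x.asIdeal.ResidueField) :
    ∃ a ∉ x.asIdeal, L.Good a n ∧ L.Split a n := by
  haveI : Module.FinitePresentation A (L.X (n + 1)) := Module.finitePresentation_of_projective A _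
  obtain ⟨U, hU, hxU, h1⟩ := FlatCx.exists_nhd_fdim_le (L.X n ⧸ L.bd n) x
  obtain ⟨V, hV, hxV, h2⟩ := FlatCx.exists_nhd_fdim_le (L.X (n + 1) ⧸ L.bd (n + 1)) x
  have h3 := (IsLocallyConstant.iff_eventually_eq _).1 (FlatCx.fdim_isLocallyConstant (A := A) (L.X (n + 1))) x
  have h4 : ∀ᶠ y in nhds x, FlatCx.fdim (L.X n ⧸ L.bd n) y = FlatCx.fdim (L.X n ⧸ L.bd n) x ∧
      FlatCx.fdim (L.X (n + 1) ⧸ L.bd (n + 1)) y = FlatCx.fdim (L.X (n + 1) ⧸ L.bd (n + 1)) x := by
    filter_upwards [hU.mem_nhds hxU, hV.mem_nhds hxV, h3, h] with y hyU hyV e3 e4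
    have a1 := L.kdim_δ_add inferInstance n x
    have a2 := L.kdim_δ_add inferInstance n y
    have i1 := h1 y hyU
    have i2 := h2 y hyV
    constructor <;> omega
  obtain ⟨_, ⟨a, rfl⟩, hxa, hsub⟩ := PrimeSpectrum.isTopologicalBasis_basic_opens.mem_nhds_iff.1 h4
  let B := Localization.Away a
  haveI : IsReduced B := inferInstanceAs (IsReduced (Localization (Submonoid.powers a)))
  have key : ∀ m, (∀ y : PrimeSpectrum A, a ∉ y.asIdeal →
      FlatCx.fdim (L.X m ⧸ L.bd m) y = FlatCx.fdim (L.X m ⧸ L.bd m) x) → ∃ k, L.Split (a ^ k) m := fun m hm => by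
    haveI : Module.FinitePresentation B (B ⊗[A] (L.X m ⧸ L.bd m)) := inferInstance
    haveI : Module.Flat B (B ⊗[A] (L.X m ⧸ L.bd m)) := by
      refine FlatCx.flat_of_fdim_isLocallyConstant _ ((IsLocallyConstant.iff_eventually_eq _).2 fun y => ?_)
      refine Filter.Eventually.of_forall fun z => ?_
      have hmem : ∀ w : PrimeSpectrum B, a ∉ (PrimeSpectrum.comap (algebraMap A B) w).asIdeal := fun w => by
        have : PrimeSpectrum.comap (algebraMap A B) w ∈ Set.range (PrimeSpectrum.comap (algebraMap A B)) := ⟨w, rfl⟩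
        rwa [PrimeSpectrum.localization_away_comap_range B a] at this
      rw [FlatCx.fdim_comap, FlatCx.fdim_comap, hm _ (hmem z), hm _ (hmem y)]
    haveI : Module.Projective B (B ⊗[A] (L.X m ⧸ L.bd m)) := Module.Flat.projective_of_finitePresentation
    exact L.exists_split_of_projective_away a m
  obtain ⟨k, hk⟩ := key n fun y hy => (hsub hy).1
  obtain ⟨l, hl⟩ := key (n + 1) fun y hy => (hsub hy).2
  have hxa' : ∀ j, a ^ j ∉ x.asIdeal := fun j hj => hxa (x.isPrime.mem_of_pow_mem j hj)
  exact ⟨a ^ k * a ^ l, x.isPrime.mul_notMem (hxa' k) (hxa' l), hl.mul_left _, hk.mul_right _⟩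

end Groth.Agent.BCLib.Cx
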