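import Groth.Agent.GenBCLib.LocModel
import Groth.Agent.GenBCLib.GoodPoint
import Groth.Agent.GenBCLib.BCMain
import Groth.Agent.FibreVanishQC.GlobGen
import Groth.Agent.CohCmpLib.Surj

/-!
# The model at a point of the affine open
-/

set_option autoImplicit false
set_option backward.isDefEq.respectTransparency false
set_option backward.defeqAttrib.useBackward true
set_option linter.style.haveILetI false
set_option linter.unusedSectionVars false

universe u

open CategoryTheory CategoryTheory.Limits AlgebraicGeometry TopologicalSpace Opposite TensorProduct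
open Groth.Agent.CohBase Groth.Agent.ProjCoh Groth.Agent.FormalLib Groth.Agent.BCLib Groth.Agent.RpushLib

noncomputable section

namespace Groth.Agent.GenBCLib

/-- A finite projective complex computing the cohomology over an affine open of the base. -/
structure Dat {X S : Scheme.{u}} (f : X ⟶ S) (F : X.Modules) (V : S.Opens) where
  hV : IsAffineOpen V
  ι : Type u
  fin : Finite ι
  W : ι → (f ⁻¹ᵁ V : Scheme.{u}).Opens
  hcov : (⊤ : (f ⁻¹ᵁ V : Scheme.{u}).Opens) ≤ iSup W
  haff : ∀ (m : ℕ) (i : Fin (m + 1) → ι), IsAffineOpen (inter W i)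
  L : Cx Γ(S, V)
  ψ : CxHom L (upCx f hV F W)
  finite : ∀ n, Module.Finite Γ(S, V) (L.X n)
  proj : ∀ n, Module.Projective Γ(S, V) (L.X n)
  bdd : ∃ N, ∀ n, N < n → Subsingleton (L.X n)
  bij : ∀ (M : Type u) [AddCommGroup M] [Module Γ(S, V) M], ψ.Bij M

variable {X S : Scheme.{u}} {f : X ⟶ S} {F : X.Modules} {V : S.Opens}

instance (D : Dat f F V) : Finite D.ι := D.fin
instance (D : Dat f F V) (n : ℕ) : Module.Finite Γ(S, V) (D.L.X n) := D.finite n
instance (D : Dat f F V) (n : ℕ) : Module.Projective Γ(S, V) (D.L.X n) := D.proj n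

theorem nonempty_dat [IsProper f] [LocallyOfFinitePresentation f] [Coh.IsQCoh F] (hF : CohB1.IsFP F)
    (hfl : FlatMod.IsFlatOver f F) (hV : IsAffineOpen V) : Nonempty (Dat f F V) := by
  obtain ⟨ι, hι, W, hcov, haff, L, ψ, h1, h2, h3, h4⟩ := exists_model_upCx f hV F hF hfl
  exact ⟨⟨hV, ι, hι, W, hcov, haff, L, ψ, h1, h2, h3, h4⟩⟩

variable (D : Dat f F V) {s : S} (hs : s ∈ V)

/-- The prime of a point. -/
abbrev Dat.idl : Ideal Γ(S, V) := (D.hV.primeIdealOf ⟨s, hs⟩).asIdeal

/-- The residue field of a point as an algebra over the functions on the open. -/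
abbrev kAlg (S : Scheme.{u}) {V : S.Opens} {s : S} (hs : s ∈ V) : Algebra Γ(S, V) (S.residueField s) :=
  (S.evaluation V s hs).hom.toAlgebra

/-- The two residue fields of a point. -/
def Dat.resEquiv :
    letI := kAlg S hs
    (D.idl hs).ResidueField ≃ₐ[Γ(S, V)] S.residueField s :=
  letI := kAlg S hs
  letI : Algebra Γ(S, V) (S.presheaf.stalk s) := (S.presheaf.germ V s hs).hom.toAlgebra
  haveI : IsLocalization.AtPrime (S.presheaf.stalk s) (D.idl hs) := D.hV.isLocalization_stalk ⟨s, hs⟩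
  AlgEquiv.ofRingEquiv
    (f := IsLocalRing.ResidueField.mapEquiv
      (IsLocalization.algEquiv (D.idl hs).primeCompl (Localization.AtPrime (D.idl hs)) (S.presheaf.stalk s)).toRingEquiv)
    fun x => by
      refine (IsLocalRing.ResidueField.map_residue _ _).trans ?_
      exact congrArg (IsLocalRing.residue _) ((IsLocalization.algEquiv (D.idl hs).primeCompl
        (Localization.AtPrime (D.idl hs)) (S.presheaf.stalk s)).commutes x)

theorem Dat.notMem_idl_iff (a : Γ(S, V)) : a ∉ D.idl hs ↔ s ∈ S.basicOpen a := by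
  letI := kAlg S hs
  rw [← Ideal.algebraMap_residueField_eq_zero, ← map_eq_zero_iff _ (D.resEquiv hs).injective, AlgEquiv.commutes]
  show ¬ S.evaluation V s hs a = 0 ↔ _
  rw [Scheme.evaluation_eq_zero_iff_notMem_basicOpen, not_not]

/-- Base change surjects at the point. -/
def Dat.SurjAt (n : ℕ) : Prop := D.L.BCSurj (D.idl hs).ResidueField n

/-- No cohomology at the point. -/
def Dat.VanAt (n : ℕ) : Prop :=
  D.L.zBC (D.idl hs).ResidueField n ≤ D.L.bBC (D.idl hs).ResidueField n

theorem specMap_evaluation_fromSpec (hV : IsAffineOpen V) :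
    Spec.map (S.evaluation V s hs) ≫ hV.fromSpec = S.fromSpecResidueField s :=
  (congrArg (fun k => Spec.map k ≫ hV.fromSpec) (S.germ_residue (U := V) s hs).symm).trans
    ((congrArg (· ≫ hV.fromSpec) (Spec.map_comp _ _)).trans ((Category.assoc _ _ _).trans
      (congrArg (Spec.map (S.residue s) ≫ ·) (hV.fromSpecStalk_eq_fromSpecStalk hs))))

theorem isPullback_fibre (hV : IsAffineOpen V) :
    ∃ v : f.fiber s ⟶ (f ⁻¹ᵁ V : Scheme.{u}), v ≫ (f ⁻¹ᵁ V).ι = f.fiberι s ∧
      IsPullback v (f.fiberToSpecResidueField s) (restOver f hV) (Spec.map (S.evaluation V s hs)) := by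
  have hfac : Spec.map (S.evaluation V s hs) ≫ hV.fromSpec = S.fromSpecResidueField s := by
    rw [← Scheme.germ_residue, Spec.map_comp, Category.assoc]
    exact congrArg (Spec.map (S.residue s) ≫ ·) (hV.fromSpecStalk_eq_fromSpecStalk hs)
  have h0 := isPullback_restOver f hV
  refine ⟨h0.lift (f.fiberι s) (f.fiberToSpecResidueField s ≫ Spec.map (S.evaluation V s hs)) ?_,
    h0.lift_fst _ _ _, ?_⟩
  · rw [Category.assoc, hfac]
    exact f.fiber_fac s
  · refine IsPullback.of_right ?_ (h0.lift_snd _ _ _) h0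
    rw [h0.lift_fst, hfac]
    exact IsPullback.of_hasPullback f (S.fromSpecResidueField s)

variable [IsSeparated f] [QuasiCompact f] [Coh.IsQCoh F]

/-- Classes on the fibre. -/
theorem Dat.exists_evFibre (n : ℕ) :
    letI := kAlg S hs
    ∃ ev : ↥(D.L.zBC (S.residueField s) n) →ₗ[S.residueField s] CohIII.fiberH f F s n,
      Function.Surjective ev ∧ ∀ z, ev z = 0 ↔ z.1 ∈ D.L.bBC (S.residueField s) n := by
  letI := kAlg S hs
  letI := overV f D.hV
  haveI := isQCoh_restrict F (f ⁻¹ᵁ V)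
  letI : (f.fiber s).Over (Spec (CommRingCat.of (S.residueField s))) := ⟨f.fiberToSpecResidueField s⟩
  obtain ⟨v, hv, hc⟩ := isPullback_fibre (f := f) hs D.hV
  haveI : IsSeparated (str Γ(S, V) (f ⁻¹ᵁ V : Scheme.{u})) :=
    MorphismProperty.of_isPullback (P := @IsSeparated) (isPullback_restOver f D.hV) inferInstance
  obtain ⟨ev, hev, hev0⟩ := exists_clBC (R := Γ(S, V)) (R' := S.residueField s) v (S.evaluation V s hs) hc D.W
    (F.restrict (f ⁻¹ᵁ V).ι) D.haff D.hcov n (upCx f D.hV F D.W) (fun _ => LinearEquiv.refl _ _) fun _ _ => rfl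
  let e : (Scheme.Modules.pullback v).obj (F.restrict (f ⁻¹ᵁ V).ι) ≅ CohIII.fiberMod f F s :=
    (Scheme.Modules.pullback v).mapIso ((Scheme.Modules.restrictFunctorIsoPullback (f ⁻¹ᵁ V).ι).app F) ≪≫
      (Scheme.Modules.pullbackComp v (f ⁻¹ᵁ V).ι).app F ≪≫ (Scheme.Modules.pullbackCongr hv).app F
  refine ⟨(hhEquivL (A := S.residueField s) e n).toLinearMap ∘ₗ ev ∘ₗ ((D.ψ.f n).baseChange (S.residueField s)).restrict
    fun z hz => D.ψ.mapsTo_zBC (S.residueField s) n hz, fun x => ?_, fun z => ?_⟩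
  · obtain ⟨x, rfl⟩ := (hhEquivL (A := S.residueField s) e n).surjective x
    obtain ⟨z, rfl⟩ := hev x
    obtain ⟨l, hl, hzl⟩ := (D.ψ.bijBC (S.residueField s) (D.bij _) n).1 z.1 z.2
    refine ⟨⟨l, hl⟩, congrArg (hhEquivL (A := S.residueField s) e n) (Eq.symm (sub_eq_zero.1 ?_))⟩
    rw [LinearMap.comp_apply, ← map_sub]
    exact (hev0 _).2 hzl
  · refine (map_eq_zero_iff _ (hhEquivL (A := S.residueField s) e n).injective).trans ?_
    exact (hev0 _).trans ((D.ψ.bijBC (S.residueField s) (D.bij _) n).2 z.1 z.2)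

theorem Dat.subsingleton_fiberH_iff (n : ℕ) : Subsingleton (CohIII.fiberH f F s n) ↔ D.VanAt hs n := by
  letI := kAlg S hs
  obtain ⟨ev, hev, hev0⟩ := D.exists_evFibre hs n
  refine ⟨fun h => D.L.zBC_le_of_equiv (D.resEquiv hs).symm fun z hz => ?_, fun h => ?_⟩
  · exact (hev0 ⟨z, hz⟩).1 (Subsingleton.elim _ _)
  · refine subsingleton_of_forall_eq 0 fun x => ?_
    obtain ⟨z, rfl⟩ := hev x
    exact (hev0 z).2 (D.L.zBC_le_of_equiv (D.resEquiv hs) h z.2)

theorem Dat.fiberRank_eq (n : ℕ) :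
    CohIII.fiberRank f F n s = FlatCx.kdim (D.L.δ n) (D.idl hs).ResidueField := by
  letI := kAlg S hs
  obtain ⟨ev, hev, hev0⟩ := D.exists_evFibre hs n
  exact (D.L.finrank_eq_kdim (S.residueField s) n ev hev hev0).trans
    (FlatCx.kdim_hom _ _ (D.resEquiv hs).toAlgHom (D.L.δ n))

variable [HasInjectiveResolutions X.Modules] [HasInjectiveResolutions (f.fiber s).Modules]
  {Δ : RDer.DerivedLES (Scheme.Modules.pushforward f)}
  {Δs : RDer.DerivedLES (Scheme.Modules.pushforward (f.fiberToSpecResidueField s))}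
  {E : CohCmp.SectCmp f Δ} {Es : CohCmp.SectCmp (f.fiberToSpecResidueField s) Δs}
  (Bs : CohCmp.GenBC f (S.fromSpecResidueField s) (f.fiberToSpecResidueField s) (f.fiberι s) (f.fiber_fac s) E Es)

omit [IsSeparated f] [QuasiCompact f] [Coh.IsQCoh F] in
include hs in
theorem le_preimage_fromSpecResidueField :
    (⊤ : (Spec (S.residueField s)).Opens) ≤ S.fromSpecResidueField s ⁻¹ᵁ V := fun z _ => by
  show S.fromSpecResidueField s z ∈ V
  rw [Scheme.fromSpecResidueField_apply]
  exact hs

omit [IsSeparated f] [QuasiCompact f] [Coh.IsQCoh F] in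
/-- Sections pulled back to the spectrum of a ring over an affine open. -/
theorem appLE_specMap_fromSpec {Y : Scheme.{u}} {U : Y.Opens} (hU : IsAffineOpen U) {R : CommRingCat.{u}}
    (φ : Γ(Y, U) ⟶ R) (g : Spec R ⟶ Y) (hg : Spec.map φ ≫ hU.fromSpec = g) (e : (⊤ : (Spec R).Opens) ≤ g ⁻¹ᵁ U) :
    g.appLE U ⊤ e = φ ≫ (Scheme.ΓSpecIso R).inv := by
  subst hg
  rw [Scheme.ΓSpecIso_inv_naturality,
    ← Scheme.Hom.appLE_comp_appLE (Spec.map φ) hU.fromSpec U ⊤ ⊤ hU.fromSpec_preimage_self.ge le_top,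
    Scheme.Hom.appTop, Scheme.Hom.app_eq_appLE]
  congr 1
  rw [Scheme.Hom.appLE, hU.fromSpec_app_self, Category.assoc, ← Functor.map_comp]
  rw [show (eqToHom hU.fromSpec_preimage_self).op ≫ (homOfLE hU.fromSpec_preimage_self.ge).op = 𝟙 _ from rfl,
    CategoryTheory.Functor.map_id, Category.comp_id]

omit [IsSeparated f] [QuasiCompact f] [Coh.IsQCoh F] in
theorem appLE_fromSpecResidueField (hV : IsAffineOpen V) :
    (S.fromSpecResidueField s).appLE V ⊤ (le_preimage_fromSpecResidueField hs) =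
      S.evaluation V s hs ≫ (Scheme.ΓSpecIso (S.residueField s)).inv :=
  appLE_specMap_fromSpec hV (S.evaluation V s hs) _ (specMap_evaluation_fromSpec hs hV) _

theorem surjective_top_of_epi {Y : Scheme.{u}} [Unique Y] {M N : Y.Modules} (φ : M ⟶ N) [Epi φ] :
    Function.Surjective (φ.app ⊤) := fun t => by
  obtain ⟨W, hW, hy, w, hw⟩ := CohCmpLib.exists_local_preimage φ ⊤ t (default : Y) trivial
  obtain rfl : W = ⊤ := top_le_iff.1 fun y _ => by rwa [Subsingleton.elim y (default : Y)]
  exact ⟨w, hw.trans (congr($(N.presheaf.map_id _) t))⟩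

theorem epi_of_surjective_top {Y : Scheme.{u}} [Unique Y] {M N : Y.Modules} (φ : M ⟶ N)
    (h : Function.Surjective (φ.app ⊤)) : Epi φ :=
  FibreVanishQC.epi_of_surjective_app φ fun U _ => by
    by_cases hU : (default : Y) ∈ U
    · obtain rfl : U = ⊤ := top_le_iff.1 fun y _ => by rwa [Subsingleton.elim y (default : Y)]
      exact h
    · intro t
      refine ⟨0, TopCat.Presheaf.section_ext ((QCohLib.toAbF Y).obj N) U _ _ fun y hy => ?_⟩
      exact absurd (by rwa [← Subsingleton.elim y (default : Y)]) hU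

include Bs in
/-- The base change map to the fibre is an epimorphism exactly when base change surjects at the point. -/
theorem Dat.epi_iff_surjAt (n : ℕ) : Epi (Bs.bc n F) ↔ D.SurjAt hs n := by
  letI := kAlg S hs
  haveI : Unique (Spec (S.residueField s)) := inferInstance
  haveI := isQCoh_restrict F (f ⁻¹ᵁ V)
  haveI : IsSeparated (f.fiberToSpecResidueField s) :=
    inferInstanceAs (IsSeparated (pullback.snd f (S.fromSpecResidueField s)))
  haveI : QuasiCompact (f.fiberToSpecResidueField s) :=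
    inferInstanceAs (QuasiCompact (pullback.snd f (S.fromSpecResidueField s)))
  haveI : Coh.IsQCoh ((Scheme.Modules.pullback (f.fiberι s)).obj F) := PullbackMod.isQCoh_pullback _ F
  haveI := isQCoh_restrict ((Scheme.Modules.pullback (f.fiberι s)).obj F) (f.fiberToSpecResidueField s ⁻¹ᵁ ⊤)
  have h : IsPullback (f.fiberι s) (f.fiberToSpecResidueField s) f (S.fromSpecResidueField s) :=
    IsPullback.of_hasPullback f (S.fromSpecResidueField s)
  have e := le_preimage_fromSpecResidueField (V := V) hs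
  have key := (bc_app_criterion h Bs F D.hV (isAffineOpen_top (Spec (S.residueField s))) e D.W D.hcov D.haff n).1
  letI := ((S.fromSpecResidueField s).appLE V ⊤ e).hom.toAlgebra
  let θ : S.residueField s ≃ₐ[Γ(S, V)] Γ(Spec (S.residueField s), ⊤) :=
    AlgEquiv.ofRingEquiv (f := (Scheme.ΓSpecIso (S.residueField s)).symm.commRingCatIsoToRingEquiv)
      fun x => (congr($(appLE_fromSpecResidueField hs D.hV) x)).symm
  rw [Dat.SurjAt, D.L.bcSurj_congr (D.resEquiv hs), D.L.bcSurj_congr θ,
    ← D.ψ.bcSurj_iff Γ(Spec (S.residueField s), ⊤) (D.bij _) (D.bij _) n, ← key]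
  exact ⟨fun _ => surjective_top_of_epi _, epi_of_surjective_top _⟩

end Groth.Agent.GenBCLib
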