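import Groth.Agent.PullbackMod.Hom
import Groth.Prelude.Def_CohPull

/-!
# The identification underlying `CohPull.pullOn` on sections
-/

set_option autoImplicit false
set_option backward.isDefEq.respectTransparency false
set_option linter.style.haveILetI false

universe u

open CategoryTheory CategoryTheory.Limits AlgebraicGeometry AlgebraicGeometry.Scheme.Modules TopologicalSpace Opposite
open Groth.Agent.PullbackMod

noncomputable section

namespace Groth.Agent.GenBCLib

variable {X Y Z : Scheme.{u}}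

theorem unit_comp' (f : X ⟶ Y) (g : Y ⟶ Z) (L : Z.Modules) :
    (pullbackPushforwardAdjunction (f ≫ g)).unit.app L =
      (pullbackPushforwardAdjunction g).unit.app L ≫
        (pushforward g).map ((pullbackPushforwardAdjunction f).unit.app ((Scheme.Modules.pullback g).obj L)) ≫
        (pushforwardComp f g).hom.app ((Scheme.Modules.pullback f).obj ((Scheme.Modules.pullback g).obj L)) ≫
        (pushforward (f ≫ g)).map ((pullbackComp f g).hom.app L) := by
  have h := unit_conjugateEquiv ((pullbackPushforwardAdjunction g).comp (pullbackPushforwardAdjunction f))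
    (pullbackPushforwardAdjunction (f ≫ g)) (pullbackComp f g).inv L
  rw [conjugateEquiv_pullbackComp_inv, Adjunction.comp_unit_app] at h
  have h1 := congrArg (· ≫ (pushforward (f ≫ g)).map ((pullbackComp f g).hom.app L)) h
  simp only [Category.assoc] at h1
  refine Eq.trans ?_ h1.symm
  rw [← Functor.map_comp, Iso.inv_hom_id_app]
  exact ((congrArg _ ((pushforward (f ≫ g)).map_id _)).trans (Category.comp_id _)).symm

theorem appRes {M N : X.Modules} (φ : M ⟶ N) {U V : X.Opens} (h : V ≤ U) (m : Γ(M, U)) :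
    φ.app V (M.presheaf.map (homOfLE h).op m) = N.presheaf.map (homOfLE h).op (φ.app U m) :=
  ConcreteCategory.congr_hom (φ.mapPresheaf.naturality (homOfLE h).op) m

theorem pullMap_comp (f : X ⟶ Y) (g : Y ⟶ Z) (M : Z.Modules) {W : Z.Opens} {W' : Y.Opens} {W'' : X.Opens}
    (e₁ : W' ≤ g ⁻¹ᵁ W) (e₂ : W'' ≤ f ⁻¹ᵁ W') (e₃ : W'' ≤ (f ≫ g) ⁻¹ᵁ W) (s : Γ(M, W)) :
    ((pullbackComp f g).hom.app M).app W'' (pullMap f _ e₂ (pullMap g M e₁ s)) = pullMap (f ≫ g) M e₃ s := by
  have h0 : pullMap f ((Scheme.Modules.pullback g).obj M) e₂ (pullMap g M e₁ s) =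
      pullMap f _ (e₂.trans (f.preimage_mono e₁))
        (((pullbackPushforwardAdjunction g).unit.app M).app W s) := by
    refine (pullMap_res f _ (e₂.trans (f.preimage_mono e₁)) e₁ le_rfl e₂ _).symm.trans ?_
    exact Groth.Agent.CohBase.restr_self _ _ _
  rw [h0]
  show _ = ((Scheme.Modules.pullback (f ≫ g)).obj M).presheaf.map (homOfLE e₃).op
    (((pullbackPushforwardAdjunction (f ≫ g)).unit.app M).app W s)
  rw [unit_comp']
  exact appRes _ _ _

theorem pullMap_congr {f g : X ⟶ Y} (h : f = g) (M : Y.Modules) {W : Y.Opens} {W' : X.Opens} (e : W' ≤ f ⁻¹ᵁ W)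
    (e' : W' ≤ g ⁻¹ᵁ W) (s : Γ(M, W)) :
    ((pullbackCongr h).hom.app M).app W' (pullMap f M e s) = pullMap g M e' s := by
  subst h
  rfl

theorem image_le (j : X ⟶ Y) [IsOpenImmersion j] {W : Y.Opens} {W' : X.Opens} (e : W' ≤ j ⁻¹ᵁ W) :
    j ''ᵁ W' ≤ W := (j.image_mono e).trans (j.image_preimage_le W)

theorem restrictIso_pullMap (j : X ⟶ Y) [IsOpenImmersion j] (M : Y.Modules) {W : Y.Opens} {W' : X.Opens}
    (e : W' ≤ j ⁻¹ᵁ W) (s : Γ(M, W)) :
    ((restrictFunctorIsoPullback j).hom.app M).app W'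
      (show Γ((restrictFunctor j).obj M, W') from M.presheaf.map (homOfLE (image_le j e)).op s) =
      pullMap j M e s := by
  have h := Adjunction.unit_leftAdjointUniq_hom_app (restrictAdjunction j) (pullbackPushforwardAdjunction j) M
  show _ = ((Scheme.Modules.pullback j).obj M).presheaf.map (homOfLE e).op
    (((pullbackPushforwardAdjunction j).unit.app M).app W s)
  rw [← h]
  show _ = ((Scheme.Modules.pullback j).obj M).presheaf.map (homOfLE e).op
    (((restrictFunctorIsoPullback j).hom.app M).app (j ⁻¹ᵁ W) (((restrictAdjunction j).unit.app M).app W s))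
  refine Eq.trans ?_ (appRes ((restrictFunctorIsoPullback j).hom.app M) e _)
  refine congrArg _ ?_
  show _ = ((restrictFunctor j).obj M).presheaf.map (homOfLE e).op (((restrictAdjunction j).unit.app M).app W s)
  rw [restrictAdjunction_unit_app_app]
  exact (Groth.Agent.CohBase.restr_trans M (j.image_preimage_le W) (j.image_mono e) s).symm

theorem pullOn_le (g : X ⟶ Y) (U : Y.Opens) (U' : X.Opens) (h : U' ≤ g ⁻¹ᵁ U) {W : U.toScheme.Opens}
    {W' : U'.toScheme.Opens} (e : W' ≤ g.resLE U U' h ⁻¹ᵁ W) : U'.ι ''ᵁ W' ≤ g ⁻¹ᵁ (U.ι ''ᵁ W) := by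
  rintro _ ⟨x, hx, rfl⟩
  exact ⟨g.resLE U U' h x, e hx, by
    show (g.resLE U U' h ≫ U.ι) x = (U'.ι ≫ g) x; rw [Scheme.Hom.resLE_comp_ι]⟩

/-- `pullOnIso` sends inverse images of sections to inverse images of sections. -/
theorem pullOnIso_pullMap (g : X ⟶ Y) (U : Y.Opens) (U' : X.Opens) (h : U' ≤ g ⁻¹ᵁ U) (F : Y.Modules)
    {W : U.toScheme.Opens} {W' : U'.toScheme.Opens} (e : W' ≤ g.resLE U U' h ⁻¹ᵁ W)
    (s : Γ(F, U.ι ''ᵁ W)) :
    (CohPull.pullOnIso g U U' h F).hom.app W'
      (pullMap (g.resLE U U' h) (F.restrict U.ι) e (show Γ(F.restrict U.ι, W) from s)) =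
      pullMap g F (pullOn_le g U U' h e) s := by
  have hW : W ≤ U.ι ⁻¹ᵁ (U.ι ''ᵁ W) := le_of_eq (U.ι.preimage_image_eq W).symm
  have hW' : W' ≤ U'.ι ⁻¹ᵁ (g ⁻¹ᵁ (U.ι ''ᵁ W)) := fun x hx => pullOn_le g U U' h e ⟨x, hx, rfl⟩
  have h1 : ((Scheme.Modules.pullback (g.resLE U U' h)).map ((restrictFunctorIsoPullback U.ι).hom.app F)).app W'
      (pullMap (g.resLE U U' h) (F.restrict U.ι) e (show Γ(F.restrict U.ι, W) from s)) =
        pullMap (g.resLE U U' h) _ e (pullMap U.ι F hW s) := by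
    rw [pullMap_natural]
    refine congrArg _ ?_
    rw [← restrictIso_pullMap U.ι F hW s]
    exact congrArg _ (Groth.Agent.CohBase.restr_self F _ s).symm
  have h4 : ((pullbackComp U'.ι g).inv.app F).app W' (pullMap (U'.ι ≫ g) F hW' s) =
      pullMap U'.ι _ hW' (pullMap g F (le_refl (g ⁻¹ᵁ (U.ι ''ᵁ W))) s) := by
    rw [← pullMap_comp U'.ι g F (le_refl (g ⁻¹ᵁ (U.ι ''ᵁ W))) hW' hW' s]
    exact congr($((pullbackComp U'.ι g).hom_inv_id_app F).app W' _)
  simp only [CohPull.pullOnIso, Iso.trans_hom, Functor.mapIso_hom, Iso.symm_hom, Iso.app_hom, Iso.app_inv,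
    Scheme.Modules.Hom.comp_app, ConcreteCategory.comp_apply]
  erw [h1, pullMap_comp _ _ F hW e (e.trans ((g.resLE U U' h).preimage_mono hW)) s,
    pullMap_congr (Scheme.Hom.resLE_comp_ι g h) F _ hW' s, h4]
  rw [← restrictIso_pullMap U'.ι ((Scheme.Modules.pullback g).obj F) hW']
  refine (congr($((restrictFunctorIsoPullback U'.ι).hom_inv_id_app ((Scheme.Modules.pullback g).obj F)).app W' _)).trans ?_
  exact pullMap_res g F le_rfl le_rfl _ (pullOn_le g U U' h e) s |>.trans (congrArg _ (Groth.Agent.CohBase.restr_self F _ s))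

theorem pullMap_id (M : X.Modules) {W : X.Opens} {W' : X.Opens} (e : W' ≤ (𝟙 X : X ⟶ X) ⁻¹ᵁ W) (h : W' ≤ W)
    (s : Γ(M, W)) :
    ((pullbackId X).hom.app M).app W' (pullMap (𝟙 X) M e s) = M.presheaf.map (homOfLE h).op s := by
  have hu := unit_conjugateEquiv (Adjunction.id (C := X.Modules)) (pullbackPushforwardAdjunction (𝟙 X))
    (pullbackId X).hom M
  rw [conjugateEquiv_pullbackId_hom] at hu
  show ((pullbackId X).hom.app M).app W' (((Scheme.Modules.pullback (𝟙 X)).obj M).presheaf.map (homOfLE e).op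
    (((pullbackPushforwardAdjunction (𝟙 X)).unit.app M).app W s)) = _
  rw [appRes]
  refine congrArg (M.presheaf.map (homOfLE h).op) ?_
  exact (congrArg (fun k : M ⟶ _ => k.app W s) hu).symm

end Groth.Agent.GenBCLib
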