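import Groth.Agent.QCohLib.FPSections
import Groth.Agent.TildePerf.Mod
import Groth.Agent.DCohLib.Restrict
import Groth.Agent.S12451
import Groth.Agent.ZClosLib.Colim

/-!
# Local freeness and vanishing of a quasi-coherent module from its sections over an affine open
-/

set_option autoImplicit false
set_option backward.isDefEq.respectTransparency false
set_option backward.defeqAttrib.useBackward true
set_option linter.style.haveILetI false

universe u

open CategoryTheory CategoryTheory.Limits AlgebraicGeometry TopologicalSpace Opposite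

noncomputable section

namespace Groth.Agent.GenBCLib

variable {S : Scheme.{u}} (M : S.Modules) [Coh.IsQCoh M] {D : S.Opens} (hD : IsAffineOpen D)

/-- The restriction to an affine open from the restriction to its spectrum. -/
def restrictιIso : M.restrict D.ι ≅
    (Scheme.Modules.restrictFunctor hD.isoSpec.hom).obj (M.restrict hD.fromSpec) :=
  (Scheme.Modules.restrictFunctorCongr (g := hD.isoSpec.hom ≫ hD.fromSpec)
    (show D.ι = hD.isoSpec.hom ≫ hD.fromSpec by simp [IsAffineOpen.isoSpec_hom])).app M ≪≫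
    (Scheme.Modules.restrictFunctorComp hD.isoSpec.hom hD.fromSpec).app M

include hD in
theorem nonempty_restrict_tilde_iso :
    ∃ N : ModuleCat.{u} Γ(S, D), Nonempty (N ≃ₗ[Γ(S, D)] Γ(M, D)) ∧
      Nonempty (M.restrict hD.fromSpec ≅ tilde N) := by
  haveI : IsIso (M.restrict hD.fromSpec).fromTildeΓ :=
    (isIso_fromTildeΓ_iff_isLocalizing _).mpr (CohBase.isLocalizing_restrict M hD)
  exact ⟨moduleSpecΓFunctor.obj (M.restrict hD.fromSpec), ⟨QCohLib.topEquiv M hD⟩,
    ⟨(asIso (M.restrict hD.fromSpec).fromTildeΓ).symm⟩⟩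

include hD in
theorem isFinLocFree_of_sections [Module.Finite Γ(S, D) Γ(M, D)] [Module.Projective Γ(S, D) Γ(M, D)] :
    FlatMod.IsFinLocFree (M.restrict D.ι) := by
  obtain ⟨N, ⟨e⟩, ⟨i⟩⟩ := nonempty_restrict_tilde_iso M hD
  haveI : Module.Finite Γ(S, D) N := Module.Finite.equiv e.symm
  haveI : Module.Projective Γ(S, D) N := Module.Projective.of_equiv e.symm
  exact DCohLib.isFinLocFree_iso (restrictιIso M hD).symm
    (DCohLib.isFinLocFree_restrict _ (DCohLib.isFinLocFree_iso i.symm (TildePerf.isFinLocFree_tilde N)))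

include hD in
theorem finite_projective_sections {U : S.Opens} (h : FlatMod.IsFinLocFree (M.restrict U.ι)) (hDU : D ≤ U) :
    Module.Finite Γ(S, D) Γ(M, D) ∧ Module.Projective Γ(S, D) Γ(M, D) := by
  obtain ⟨N, ⟨e⟩, ⟨i⟩⟩ := nonempty_restrict_tilde_iso M hD
  let v : Spec Γ(S, D) ⟶ (U : Scheme.{u}) := hD.isoSpec.inv ≫ S.homOfLE hDU
  let j : (Scheme.Modules.restrictFunctor v).obj (M.restrict U.ι) ≅ M.restrict hD.fromSpec :=
    ((Scheme.Modules.restrictFunctorComp v U.ι).symm ≪≫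
      Scheme.Modules.restrictFunctorCongr (g := hD.fromSpec)
        (show v ≫ U.ι = hD.fromSpec by simp [v, IsAffineOpen.isoSpec_inv_ι])).app M
  obtain ⟨h1, h2⟩ := (Groth.Agent.S12451.result N).1
    (DCohLib.isFinLocFree_iso (j ≪≫ i) (DCohLib.isFinLocFree_restrict v h))
  haveI := h1; haveI := h2
  exact ⟨Module.Finite.equiv e, Module.Projective.of_equiv e⟩

/-- Vanishing on sections over small affine opens. -/
theorem isZero_of_small {Y : Scheme.{u}} (N : Y.Modules)
    (h : ∀ y : Y, ∃ U : Y.Opens, y ∈ U ∧ ∀ W : Y.Opens, IsAffineOpen W → W ≤ U → Subsingleton Γ(N, W)) : IsZero N := by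
  refine (IsZero.iff_id_eq_zero N).2 (Scheme.Modules.hom_ext _ _ fun W => AddCommGrpCat.hom_ext
    (AddMonoidHom.ext fun t => ?_))
  refine TopCat.Presheaf.section_ext ((QCohLib.toAbF Y).obj N) W _ _ fun y hy => ?_
  obtain ⟨U, hyU, hU⟩ := h y
  obtain ⟨_, ⟨W', hW', rfl⟩, hyW', hle⟩ :=
    Y.isBasis_affineOpens.exists_subset_of_mem_open (show y ∈ (W ⊓ U : Y.Opens) from ⟨hy, hyU⟩) (W ⊓ U).2
  change Y.Opens at W'
  have hle' : W' ≤ W ⊓ U := hle
  haveI := hU W' hW' (hle'.trans inf_le_right)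
  show N.presheaf.germ W y hy t = N.presheaf.germ W y hy (0 : Γ(N, W))
  rw [← ZClosLib.germ_res' N (hle'.trans inf_le_left) y hyW' t,
    ← ZClosLib.germ_res' N (hle'.trans inf_le_left) y hyW' (0 : Γ(N, W))]
  exact congrArg _ (Subsingleton.elim _ _)

include hD in
theorem isZero_of_sections [Subsingleton Γ(M, D)] : IsZero (M.restrict D.ι) := by
  obtain ⟨N, ⟨e⟩, ⟨i⟩⟩ := nonempty_restrict_tilde_iso M hD
  haveI : Subsingleton N := e.toEquiv.subsingleton
  refine IsZero.of_iso (Functor.map_isZero _ (IsZero.of_iso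
    ((tilde.functor Γ(S, D)).map_isZero (ModuleCat.isZero_of_subsingleton N)) i)) (restrictιIso M hD)

omit [Coh.IsQCoh M] in
/-- Local freeness is local. -/
theorem isFinLocFree_of_nhds (h : ∀ x : S, ∃ U : S.Opens, x ∈ U ∧ FlatMod.IsFinLocFree (M.restrict U.ι)) :
    FlatMod.IsFinLocFree M := fun x => by
  obtain ⟨U, hxU, hU⟩ := h x
  obtain ⟨W, n, hxW, ⟨i⟩⟩ := hU ⟨x, hxU⟩
  refine ⟨U.ι ''ᵁ W, n, ⟨⟨x, hxU⟩, hxW, rfl⟩, ⟨?_⟩⟩
  exact (Scheme.Modules.restrictFunctorCongr (g := ((U.ι.isoImage W).inv ≫ W.ι) ≫ U.ι)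
      (show (U.ι ''ᵁ W).ι = ((U.ι.isoImage W).inv ≫ W.ι) ≫ U.ι by
        rw [Category.assoc, Scheme.Hom.isoImage_inv_ι])).app M ≪≫
    (Scheme.Modules.restrictFunctorComp ((U.ι.isoImage W).inv ≫ W.ι) U.ι).app M ≪≫
    (Scheme.Modules.restrictFunctorComp (U.ι.isoImage W).inv W.ι).app _ ≪≫
    (Scheme.Modules.restrictFunctor (U.ι.isoImage W).inv).mapIso i ≪≫ DCohLib.restrictFreeMod _ n

end Groth.Agent.GenBCLib
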