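import Groth.Agent.GenBCLib.RankPoint
import Groth.Agent.FactorGlue.Main
import Groth.Agent.FittStratum.FP
import Groth.Agent.TildeFinLib.Basic

/-!
# The subscheme over which the direct image is locally free of given rank and commutes with base change
-/

set_option autoImplicit false
set_option backward.isDefEq.respectTransparency false
set_option backward.defeqAttrib.useBackward true
set_option linter.style.haveILetI false
set_option linter.unusedSectionVars false
set_option maxHeartbeats 1000000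

universe u

open CategoryTheory CategoryTheory.Limits AlgebraicGeometry TopologicalSpace Opposite TensorProduct
open Groth.Agent.BCLib Groth.Agent.PullbackMod

noncomputable section

namespace Groth.Agent.GenBCLib

variable {X S : Scheme.{u}} {f : X ⟶ S} {F : X.Modules} {V : S.Opens} (D : Dat f F V) (r : ℕ)

theorem Dat.cond_comp {T' T : Scheme.{u}} (a : T' ⟶ T) (u : T ⟶ S) (t : T') (ht : u (a t) ∈ V)
    (h : D.Cond r u (a t) ht) : D.Cond r (a ≫ u) t ht := by
  letI : Algebra Γ(S, V) (T.presheaf.stalk (a t)) := (S.presheaf.germ V (u (a t)) ht ≫ u.stalkMap (a t)).hom.toAlgebra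
  letI : Algebra Γ(S, V) (T'.presheaf.stalk t) :=
    (S.presheaf.germ V ((a ≫ u) t) ht ≫ (a ≫ u).stalkMap t).hom.toAlgebra
  letI : Algebra (T.presheaf.stalk (a t)) (T'.presheaf.stalk t) := (a.stalkMap t).hom.toAlgebra
  haveI : IsScalarTower Γ(S, V) (T.presheaf.stalk (a t)) (T'.presheaf.stalk t) := .of_algebraMap_eq fun x => by
    show (a ≫ u).stalkMap t _ = a.stalkMap t (u.stalkMap (a t) _)
    rw [Scheme.Hom.stalkMap_comp]
    rfl
  exact FreeRk.mono h

theorem Dat.cond_open_iff {T' T : Scheme.{u}} (a : T' ⟶ T) [IsOpenImmersion a] (u : T ⟶ S) (t : T')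
    (ht : u (a t) ∈ V) : D.Cond r (a ≫ u) t ht ↔ D.Cond r u (a t) ht := by
  refine ⟨fun h => ?_, D.cond_comp r a u t ht⟩
  letI : Algebra Γ(S, V) (T.presheaf.stalk (a t)) := (S.presheaf.germ V (u (a t)) ht ≫ u.stalkMap (a t)).hom.toAlgebra
  letI : Algebra Γ(S, V) (T'.presheaf.stalk t) :=
    (S.presheaf.germ V ((a ≫ u) t) ht ≫ (a ≫ u).stalkMap t).hom.toAlgebra
  letI : Algebra (T.presheaf.stalk (a t)) (T'.presheaf.stalk t) := (a.stalkMap t).hom.toAlgebra
  haveI : IsScalarTower Γ(S, V) (T.presheaf.stalk (a t)) (T'.presheaf.stalk t) := .of_algebraMap_eq fun x => by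
    show (a ≫ u).stalkMap t _ = a.stalkMap t (u.stalkMap (a t) _)
    rw [Scheme.Hom.stalkMap_comp]
    rfl
  exact (freeRk_iff_of_bijective (ConcreteCategory.bijective_of_isIso (a.stalkMap t))).2 h

theorem algebraMap_stalk_fromSpec {S : Scheme.{u}} {V : S.Opens} (hV : IsAffineOpen V)
    (p : Spec Γ(S, V)) (hp : hV.fromSpec p ∈ V) (a : Γ(S, V)) :
    hV.fromSpec.stalkMap p (S.presheaf.germ V (hV.fromSpec p) hp a) =
      (Spec Γ(S, V)).presheaf.germ ⊤ p trivial ((Scheme.ΓSpecIso Γ(S, V)).inv a) := by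
  rw [Scheme.Hom.germ_stalkMap_apply, hV.fromSpec_app_self]
  exact TopCat.Presheaf.germ_res_apply _ _ _ _ _

/-- Freeness of the pullback of the associated sheaf at a point. -/
theorem freeAt_pullback_tilde_iff {A : CommRingCat.{u}} (M : ModuleCat.{u} A) [Module.FinitePresentation A M]
    {T : Scheme.{u}} (w : T ⟶ Spec A) (t : T) (n : ℕ) :
    letI : Algebra A (T.presheaf.stalk t) :=
      ((Scheme.ΓSpecIso A).inv ≫ (Spec A).presheaf.germ ⊤ (w t) trivial ≫ w.stalkMap t).hom.toAlgebra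
    FreeAt n ((Scheme.Modules.pullback w).obj (tilde M)) t ↔ FreeRk A M (T.presheaf.stalk t) n := by
  haveI : Coh.IsQCoh (tilde M) := inferInstanceAs ((tilde M).IsQuasicoherent)
  let p : PrimeSpectrum A := w t
  let O := (Spec A).presheaf.stalk (w t)
  let N := (tilde M).presheaf.stalk (w t)
  let O' := T.presheaf.stalk t
  let N' := ((Scheme.Modules.pullback w).obj (tilde M)).presheaf.stalk t
  letI : Algebra A O' :=
    ((Scheme.ΓSpecIso A).inv ≫ (Spec A).presheaf.germ ⊤ (w t) trivial ≫ w.stalkMap t).hom.toAlgebra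
  letI : Algebra A O := StructureSheaf.stalkAlgebra A p
  haveI : IsLocalization.AtPrime O p.asIdeal := StructureSheaf.IsLocalization.to_stalk A p
  letI : Module A N := inferInstanceAs (Module A ((tilde M).presheaf.stalk (p : PrimeSpectrum.Top A)))
  haveI : IsScalarTower A O N :=
    inferInstanceAs (IsScalarTower A ((structurePresheafInCommRingCat A).stalk p)
      ↑(TopCat.Presheaf.stalk (moduleStructurePresheaf A M).presheaf p))
  haveI : IsLocalizedModule p.asIdeal.primeCompl (tilde.toStalk M p).hom := inferInstance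
  let e1 : O ⊗[A] M ≃ₗ[O] N := (IsLocalizedModule.isBaseChange p.asIdeal.primeCompl O (tilde.toStalk M p).hom).equiv
  letI : Algebra O O' := (w.stalkMap t).hom.toAlgebra
  letI := Module.compHom N' (w.stalkMap t).hom
  haveI : IsScalarTower O O' N' := .of_algebraMap_smul fun _ _ => rfl
  haveI : IsScalarTower A O O' := .of_algebraMap_eq fun a => rfl
  let e2 : O' ⊗[O] N ≃ₗ[O'] N' := (isBaseChange_pullStalkL w (tilde M) t).equiv
  let j : O' ⊗[A] M ≃ₗ[O'] N' :=
    (TensorProduct.AlgebraTensorModule.cancelBaseChange A O O' O' M).symm ≪≫ₗ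
      LinearEquiv.baseChange O O' _ _ e1 ≪≫ₗ e2
  exact ⟨fun h => ⟨j ≪≫ₗ h.some⟩, fun h => ⟨j.symm ≪≫ₗ h.some⟩⟩

/-- The condition through the spectrum of the functions on the open. -/
theorem Dat.cond_fromSpec_iff {T : Scheme.{u}} (u : T ⟶ S) (w : T ⟶ Spec Γ(S, V)) (hw : u = w ≫ D.hV.fromSpec)
    (t : T) (ht : u t ∈ V) :
    letI : Algebra Γ(S, V) (T.presheaf.stalk t) :=
      ((Scheme.ΓSpecIso Γ(S, V)).inv ≫ (Spec Γ(S, V)).presheaf.germ ⊤ (w t) trivial ≫ w.stalkMap t).hom.toAlgebra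
    FreeRk Γ(S, V) D.RkMod (T.presheaf.stalk t) (r + D.rkN) ↔ D.Cond r u t ht := by
  subst hw
  have h : ((Scheme.ΓSpecIso Γ(S, V)).inv ≫ (Spec Γ(S, V)).presheaf.germ ⊤ (w t) trivial ≫ w.stalkMap t) =
      S.presheaf.germ V ((w ≫ D.hV.fromSpec) t) ht ≫ (w ≫ D.hV.fromSpec).stalkMap t := by
    refine CommRingCat.hom_ext (RingHom.ext fun a => ?_)
    show (w.stalkMap t) ((Spec Γ(S, V)).presheaf.germ ⊤ (w t) trivial ((Scheme.ΓSpecIso Γ(S, V)).inv a)) =
      (w ≫ D.hV.fromSpec).stalkMap t (S.presheaf.germ V (D.hV.fromSpec (w t)) ht a)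
    rw [Scheme.Hom.stalkMap_comp, ← algebraMap_stalk_fromSpec D.hV (w t) ht]
    rfl
  dsimp only [Dat.Cond]
  rw [h]

/-- The stratum over an affine open. -/
theorem Dat.exists_stratum :
    ∃ (Z : Scheme.{u}) (e : Z ⟶ (V : Scheme.{u})), IsImmersion e ∧ LocallyOfFinitePresentation e ∧ QuasiCompact e ∧
      ∀ (T : Scheme.{u}) (v : T ⟶ (V : Scheme.{u})), (∃ v' : T ⟶ Z, v' ≫ e = v) ↔
        ∀ t : T, D.Cond r (v ≫ V.ι) t (v t).2 := by
  let A := Γ(S, V)
  let M : ModuleCat.{u} A := ModuleCat.of A D.RkMod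
  haveI : Module.FinitePresentation A M := inferInstanceAs (Module.FinitePresentation A D.RkMod)
  haveI : Coh.IsQCoh (tilde M) := inferInstanceAs ((tilde M).IsQuasicoherent)
  have hfp : CohB1.IsFP (tilde M) := (TildeFinLib.isFP_tilde_iff M).2 inferInstance
  obtain ⟨Z, i, hi, hi', hi'', huniv⟩ := FittStratum.exists_immersion_fp (tilde M) hfp (r + D.rkN)
  haveI := hi; haveI := hi'; haveI := hi''
  refine ⟨Z, i ≫ D.hV.isoSpec.inv, inferInstance, inferInstance, inferInstance, fun T v => ?_⟩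
  let w := v ≫ D.hV.isoSpec.hom
  have h1 : (∃ v' : T ⟶ Z, v' ≫ i ≫ D.hV.isoSpec.inv = v) ↔ ∃ v' : T ⟶ Z, v' ≫ i = w := by
    refine exists_congr fun v' => ?_
    simp only [w, ← Category.assoc, Iso.comp_inv_eq]
  haveI : Coh.IsQCoh ((Scheme.Modules.pullback w).obj (tilde M)) := isQCoh_pullback _ _
  rw [h1, huniv, isFinLocFreeOfRank_iff_freeAt _ (isFP_pullback w (tilde M) hfp)]
  exact forall_congr' fun t => (freeAt_pullback_tilde_iff M w t _).trans
    (D.cond_fromSpec_iff r (v ≫ V.ι) w (by simp [w, IsAffineOpen.isoSpec_hom]) t (v t).2)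

variable (f F) in
/-- The direct image and its base change are good everywhere, in every cartesian square. -/
def AllGood {T : Scheme.{u}} (u : T ⟶ S) : Prop :=
  ∀ ⦃XT : Scheme.{u}⦄ (fT : XT ⟶ T) (gT : XT ⟶ X), IsPullback gT fT f u →
    ∀ t : T, PtGood fT ((Scheme.Modules.pullback gT).obj F) r t

variable [IsProper f] [LocallyOfFinitePresentation f] [Coh.IsQCoh F] (hF : CohB1.IsFP F)
  (hfl : FlatMod.IsFlatOver f F)

theorem Dat.allGood_iff {T : Scheme.{u}} (u : T ⟶ S) (hu : ∀ t : T, u t ∈ V) :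
    AllGood f F r u ↔ ∀ t : T, D.Cond r u t (hu t) :=
  ⟨fun h t => (D.ptGood_iff_cond r (IsPullback.of_hasPullback f u) t (hu t)).1
    (h _ _ (IsPullback.of_hasPullback f u) t),
    fun h _ _ _ sq t => (D.ptGood_iff_cond r sq t (hu t)).2 (h t)⟩

include hF hfl in
theorem allGood_comp {T' T : Scheme.{u}} (a : T' ⟶ T) (u : T ⟶ S) (h : AllGood f F r u) :
    AllGood f F r (a ≫ u) := by
  intro XT fT gT sq t
  obtain ⟨V, D, hV⟩ := exists_dat_at hF hfl (u (a t))
  exact (D.ptGood_iff_cond r sq t hV).2 (D.cond_comp r a u t hV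
    ((D.ptGood_iff_cond r (IsPullback.of_hasPullback f u) (a t) hV).1 (h _ _ (IsPullback.of_hasPullback f u) (a t))))

include hF hfl in
theorem allGood_local {T : Scheme.{u}} (u : T ⟶ S)
    (h : ∀ t : T, ∃ W : T.Opens, t ∈ W ∧ AllGood f F r (W.ι ≫ u)) : AllGood f F r u := by
  intro XT fT gT sq t
  obtain ⟨W, htW, hW⟩ := h t
  obtain ⟨V, D, hV⟩ := exists_dat_at hF hfl (u t)
  refine (D.ptGood_iff_cond r sq t hV).2 ?_
  exact (D.cond_open_iff r W.ι u ⟨t, htW⟩ hV).1 ((D.ptGood_iff_cond r (IsPullback.of_hasPullback f (W.ι ≫ u))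
    ⟨t, htW⟩ hV).1 (hW _ _ (IsPullback.of_hasPullback f (W.ι ≫ u)) ⟨t, htW⟩))

include hF hfl in
/-- The subscheme. -/
theorem exists_stratum : ∃ (Z : Scheme.{u}) (ι : Z ⟶ S), IsImmersion ι ∧ LocallyOfFinitePresentation ι ∧
    QuasiCompact ι ∧ ∀ (T : Scheme.{u}) (u : T ⟶ S), (∃ u' : T ⟶ Z, u' ≫ ι = u) ↔ AllGood f F r u := by
  let D : ∀ V : S.affineOpens, Dat f F V.1 := fun V => (nonempty_dat (f := f) hF hfl V.2).some
  choose Z e he he' he'' huniv using fun V : S.affineOpens => (D V).exists_stratum r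
  haveI := he
  have huniv' : ∀ (V : S.affineOpens) (T : Scheme.{u}) (v : T ⟶ (V.1 : Scheme.{u})),
      (∃ v' : T ⟶ Z V, v' ≫ e V = v) ↔ AllGood f F r (v ≫ V.1.ι) := fun V T v =>
    (huniv V T v).trans ((D V).allGood_iff r (v ≫ V.1.ι) fun t => (v t).2).symm
  obtain ⟨Y, i, hi, hpb, hu⟩ := FactorGlue.exists_glued (fun T u => AllGood f F r u)
    (fun _ _ a u => allGood_comp r hF hfl a u) (fun _ u h => allGood_local r hF hfl u h) Z e
    (fun V => inferInstance) huniv'
  exact ⟨Y, i, FactorGlue.of_pieces Z e @IsImmersion i hpb he, FactorGlue.of_pieces Z e @LocallyOfFinitePresentation i hpb he',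
    FactorGlue.of_pieces Z e @QuasiCompact i hpb he'', hu⟩

end Groth.Agent.GenBCLib
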