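import Groth.Agent.GenBCLib.Main
import Groth.Prelude.Def_PerfAux

/-!
# Semicontinuity of the dimensions and constancy of the Euler characteristic of the fibres
-/

set_option autoImplicit false
set_option backward.isDefEq.respectTransparency false
set_option linter.style.haveILetI false
set_option linter.unusedSectionVars false

universe u

open CategoryTheory CategoryTheory.Limits AlgebraicGeometry TopologicalSpace Opposite TensorProduct
open Groth.Agent.BCLib

noncomputable section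

namespace Groth.Agent.BCLib.Cx

variable {A : Type u} [CommRing A] (L : Cx A) [∀ n, Module.Finite A (L.X n)] [∀ n, Module.Projective A (L.X n)]

theorem eventually_kdim_le (n : ℕ) (x : PrimeSpectrum A) :
    ∀ᶠ y in nhds x, FlatCx.kdim (L.δ n) y.asIdeal.ResidueField ≤ FlatCx.kdim (L.δ n) x.asIdeal.ResidueField := by
  haveI : Module.FinitePresentation A (L.X (n + 1)) := Module.finitePresentation_of_projective A _
  obtain ⟨U, hU, hxU, h1⟩ := FlatCx.exists_nhd_fdim_le (L.X n ⧸ L.bd n) x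
  obtain ⟨W, hW, hxW, h2⟩ := FlatCx.exists_nhd_fdim_le (L.X (n + 1) ⧸ L.bd (n + 1)) x
  have h3 := (IsLocallyConstant.iff_eventually_eq _).1 (FlatCx.fdim_isLocallyConstant (A := A) (L.X (n + 1))) x
  filter_upwards [hU.mem_nhds hxU, hW.mem_nhds hxW, h3] with y hyU hyW e3
  have a1 := L.kdim_δ_add inferInstance n x
  have a2 := L.kdim_δ_add inferInstance n y
  have i1 := h1 y hyU
  have i2 := h2 y hyW
  omega

theorem sum_kdim_eq (x : PrimeSpectrum A) (M : ℕ) :
    ∑ i ∈ Finset.range M, (-1 : ℤ) ^ i * (FlatCx.kdim (L.δ i) x.asIdeal.ResidueField : ℤ) =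
      ∑ i ∈ Finset.range M, (-1 : ℤ) ^ i * (FlatCx.fdim (L.X i) x : ℤ) +
        (-1 : ℤ) ^ M * ((FlatCx.fdim (L.X M) x : ℤ) - (FlatCx.fdim (L.X M ⧸ L.bd M) x : ℤ)) := by
  have h0 : FlatCx.fdim (L.X 0 ⧸ L.bd 0) x = FlatCx.fdim (L.X 0) x :=
    (LinearEquiv.baseChange A x.asIdeal.ResidueField _ _ (Submodule.quotEquivOfEqBot (L.bd 0) rfl)).finrank_eq
  induction M with
  | zero => simp [h0]
  | succ M ih =>
    have a1 := L.kdim_δ_add inferInstance M x
    rw [Finset.sum_range_succ, Finset.sum_range_succ, ih]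
    have a2 : (FlatCx.kdim (L.δ M) x.asIdeal.ResidueField : ℤ) + (FlatCx.fdim (L.X (M + 1)) x : ℤ) =
        (FlatCx.fdim (L.X M ⧸ L.bd M) x : ℤ) + (FlatCx.fdim (L.X (M + 1) ⧸ L.bd (M + 1)) x : ℤ) := by
      exact_mod_cast a1
    rw [pow_succ]
    linear_combination (-1 : ℤ) ^ M * a2

theorem finsum_kdim_eq (N : ℕ) (hN : ∀ n, N < n → Subsingleton (L.X n)) (x : PrimeSpectrum A) :
    (finsum fun i : ℕ => (-1 : ℤ) ^ i * (FlatCx.kdim (L.δ i) x.asIdeal.ResidueField : ℤ)) =
      ∑ i ∈ Finset.range (N + 1), (-1 : ℤ) ^ i * (FlatCx.fdim (L.X i) x : ℤ) := by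
  have hz : ∀ n, N < n → FlatCx.fdim (L.X n) x = 0 ∧ FlatCx.fdim (L.X n ⧸ L.bd n) x = 0 := fun n hn => by
    haveI := hN n hn
    exact ⟨Module.finrank_zero_of_subsingleton, Module.finrank_zero_of_subsingleton⟩
  have hk : ∀ n, N < n → FlatCx.kdim (L.δ n) x.asIdeal.ResidueField = 0 := fun n hn => by
    have a1 := L.kdim_δ_add inferInstance n x
    have := hz n hn
    have := hz (n + 1) (by omega)
    omega
  rw [finsum_eq_sum_of_support_subset _ (s := Finset.range (N + 1)) (by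
    intro i hi
    simp only [Finset.coe_range, Set.mem_Iio]
    by_contra hle
    exact hi (by simp only []; rw [hk i (by omega), Nat.cast_zero, mul_zero]))]
  rw [L.sum_kdim_eq x (N + 1), (hz (N + 1) (by omega)).1, (hz (N + 1) (by omega)).2]
  simp

end Groth.Agent.BCLib.Cx

namespace Groth.Agent.GenBCLib

variable {X S : Scheme.{u}} {f : X ⟶ S} {F : X.Modules}

theorem betti_eq (s : S) (i : ℕ) : PerfAux.betti f F s i = CohIII.fiberRank f F i s := rfl

theorem Dat.eventually_primeIdealOf [IsSeparated f] [QuasiCompact f] [Coh.IsQCoh F] {V : S.Opens} (D : Dat f F V) {s : S} (hs : s ∈ V)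
    {P : PrimeSpectrum Γ(S, V) → Prop} (h : ∀ᶠ y in nhds (D.hV.primeIdealOf ⟨s, hs⟩), P y) :
    ∀ᶠ v in nhds s, ∃ hv : v ∈ V, P (D.hV.primeIdealOf ⟨v, hv⟩) := by
  have h2 := (D.continuous_prime.tendsto ⟨s, hs⟩).eventually h
  rw [← V.2.nhdsWithin_eq hs, eventually_nhdsWithin_iff]
  have h3 := (eventually_nhds_subtype_iff (V : Set S) ⟨s, hs⟩
    (fun v => ∀ hv : v ∈ V, P (D.hV.primeIdealOf ⟨v, hv⟩))).1 (h2.mono fun v hv _ => hv)
  rw [nhdsWithin, Filter.eventually_inf_principal] at h3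
  exact h3.mono fun v hv hvV => ⟨hvV, hv hvV hvV⟩

variable [IsProper f] [LocallyOfFinitePresentation f] (hF : CohB1.IsFP F) (hfl : FlatMod.IsFlatOver f F)

include hF hfl in
theorem isOpen_fiberRank_lt [Coh.IsQCoh F] (i n : ℕ) : IsOpen {s : S | CohIII.fiberRank f F i s < n} := by
  refine isOpen_iff_eventually.2 fun s hn => ?_
  obtain ⟨V, D, hs⟩ := exists_dat_at hF hfl s
  refine (D.eventually_primeIdealOf hs (D.L.eventually_kdim_le i (D.hV.primeIdealOf ⟨s, hs⟩))).mono ?_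
  rintro v ⟨hv, h⟩
  show CohIII.fiberRank f F i v < n
  change CohIII.fiberRank f F i s < n at hn
  rw [D.fiberRank_eq hv i]
  rw [D.fiberRank_eq hs i] at hn
  exact lt_of_le_of_lt h hn

include hF hfl in
theorem isLocallyConstant_euler [Coh.IsQCoh F] :
    IsLocallyConstant fun s : S => finsum fun i : ℕ => (-1 : ℤ) ^ i * (CohIII.fiberRank f F i s : ℤ) := by
  refine (IsLocallyConstant.iff_eventually_eq _).2 fun s => ?_
  obtain ⟨V, D, hs⟩ := exists_dat_at hF hfl s
  obtain ⟨N, hN⟩ := D.bdd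
  have h : ∀ᶠ y in nhds (D.hV.primeIdealOf ⟨s, hs⟩), ∀ i ∈ Finset.range (N + 1),
      FlatCx.fdim (D.L.X i) y = FlatCx.fdim (D.L.X i) (D.hV.primeIdealOf ⟨s, hs⟩) :=
    (Filter.eventually_all_finset _).2 fun i _ => by
      haveI : Module.FinitePresentation Γ(S, V) (D.L.X i) := Module.finitePresentation_of_projective _ _
      exact (IsLocallyConstant.iff_eventually_eq _).1 (FlatCx.fdim_isLocallyConstant (A := Γ(S, V)) (D.L.X i)) _
  refine (D.eventually_primeIdealOf hs h).mono ?_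
  rintro v ⟨hv, h⟩
  show (finsum fun i : ℕ => (-1 : ℤ) ^ i * (CohIII.fiberRank f F i v : ℤ)) = finsum _
  simp only [D.fiberRank_eq hv, D.fiberRank_eq hs]
  rw [D.L.finsum_kdim_eq N hN, D.L.finsum_kdim_eq N hN]
  exact Finset.sum_congr rfl fun i hi => by rw [h i hi]

end Groth.Agent.GenBCLib
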