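import Groth.Agent.EtAlgEasy.FibreDimBound

/-!
# A local bound for the dimension of the fibres
-/

set_option autoImplicit false

universe u

open CategoryTheory AlgebraicGeometry TopologicalSpace

namespace Groth.Agent.GenBCLib

theorem exists_nhd_fibre_dim_le {X S : Scheme.{u}} (f : X ⟶ S) [LocallyOfFiniteType f] [QuasiCompact f] (s : S) :
    ∃ (V : S.Opens) (n : ℕ), s ∈ V ∧ ∀ y ∈ V, topologicalKrullDim ↥(f.fiber y) ≤ n := by
  obtain ⟨_, ⟨V, hV, rfl⟩, hsV, -⟩ :=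
    S.isBasis_affineOpens.exists_subset_of_mem_open (Set.mem_univ s) isOpen_univ
  have hc : IsCompact ((f ⁻¹ᵁ V : X.Opens) : Set X) := f.isCompact_preimage hV.isCompact
  have hU : ∀ x : (f ⁻¹ᵁ V : X.Opens), ∃ U : X.Opens, IsAffineOpen U ∧ x.1 ∈ U ∧ U ≤ f ⁻¹ᵁ V := fun x => by
    obtain ⟨_, ⟨U, hU, rfl⟩, hx, hle⟩ := X.isBasis_affineOpens.exists_subset_of_mem_open x.2 (f ⁻¹ᵁ V).2
    exact ⟨U, hU, hx, hle⟩
  choose U hUa hxU hUle using hU
  obtain ⟨t, ht⟩ := hc.elim_finite_subcover (fun x => (U x : Set X)) (fun x => (U x).2)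
    fun x hx => Set.mem_iUnion.2 ⟨⟨x, hx⟩, hxU _⟩
  choose n hn using fun x => EtAlgEasy.FibreDimBound.piece f hV (hUa x) (hUle x)
  refine ⟨V, t.sup n, hsV, fun y hy => EtAlgEasy.FibreDimBound.topologicalKrullDim_le_of_cover fun a => ?_⟩
  have ha : f.fiberι y a ∈ (f ⁻¹ᵁ V : X.Opens) := by
    have h : f.fiberι y a ∈ Set.range (f.fiberι y) := ⟨a, rfl⟩
    rw [f.range_fiberι y] at h
    show f (f.fiberι y a) ∈ V
    rw [show f (f.fiberι y a) = y from h]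
    exact hy
  obtain ⟨x, hxt, hax⟩ := Set.mem_iUnion₂.1 (ht ha)
  exact ⟨_, (U x).2.preimage (f.fiberι y).continuous, hax,
    (hn x y).trans (by exact_mod_cast Finset.le_sup hxt)⟩

end Groth.Agent.GenBCLib
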