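import Groth.Agent.HilbLib.Multi
import Groth.Agent.DCohLib.FTLocal
import Groth.Agent.PullbackMod.Props
import Groth.Agent.AmpleLib.Rel
import Groth.Agent.TwistFlatLib.Flat
import Groth.Agent.FibreDepth.Loci
import Groth.Agent.BCLib.TensorQCoh

/-!
# Finite presentation, flatness and pullback of twists by invertible modules
-/

set_option autoImplicit false
set_option backward.isDefEq.respectTransparency false
set_option linter.style.haveILetI false

universe u

open CategoryTheory AlgebraicGeometry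

noncomputable section

namespace Groth.Agent.GenBCLib

variable {X S : Scheme.{u}}

theorem isFP_tensor_invertible {M L : X.Modules} (hM : CohB1.IsFP M) (hL : PicF.IsInvertible L) :
    CohB1.IsFP (CohB1.tensorMod M L) := by
  haveI : Coh.IsQCoh M := FibreDepth.isQCoh_of_isFP M hM
  refine DCohLib.isFP_of_local fun x => ?_
  obtain ⟨U, hx, ⟨e⟩⟩ := hL x
  refine ⟨U.toScheme, U.ι, inferInstance, ⟨x, hx⟩, rfl, ?_⟩
  exact DCohLib.isFP_iso
    (AmpleLib.restrictTensor U.ι M L ≪≫ AmpleLib.tIso (AmpleLib.restrictIso U.ι M) e ≪≫ AmpleLib.unitR _).symm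
    (PullbackMod.isFP_pullback U.ι M hM)

theorem tensorPows_fp_flat (f : X ⟶ S) {M : X.Modules} (hM : CohB1.IsFP M) (hfl : FlatMod.IsFlatOver f M) :
    ∀ (t : ℕ) (L : Fin t → X.Modules), (∀ i, PicF.IsInvertible (L i)) → ∀ n : Fin t → ℕ,
      CohB1.IsFP (Curv2.tensorPows M t L n) ∧ FlatMod.IsFlatOver f (Curv2.tensorPows M t L n) := by
  intro t
  induction t with
  | zero => exact fun L _ n => ⟨hM, hfl⟩
  | succ t ih =>
    intro L hL n
    obtain ⟨h1, h2⟩ := ih (fun i => L i.castSucc) (fun i => hL _) fun i => n i.castSucc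
    have hP := AmpleLib.isInvertible_tensorPow (hL (Fin.last t)) (n (Fin.last t))
    have h3 := isFP_tensor_invertible h1 hP
    refine ⟨h3, ?_⟩
    haveI : Coh.IsQCoh (Curv2.tensorPows M t (fun i => L i.castSucc) fun i => n i.castSucc) :=
      FibreDepth.isQCoh_of_isFP _ h1
    haveI : Coh.IsQCoh (DCohLib.tmod (Curv2.tensorPows M t (fun i => L i.castSucc) fun i => n i.castSucc)
        (CohB1.tensorPow (L (Fin.last t)) (n (Fin.last t)))) := FibreDepth.isQCoh_of_isFP _ h3
    exact TwistFlat.isFlatOver_tensor f hP h2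

theorem pull_tensorPows {Y : Scheme.{u}} (g : Y ⟶ X) (M : X.Modules) :
    ∀ (t : ℕ) (L : Fin t → X.Modules) (n : Fin t → ℕ),
      Nonempty ((Scheme.Modules.pullback g).obj (Curv2.tensorPows M t L n) ≅
        Curv2.tensorPows ((Scheme.Modules.pullback g).obj M) t (fun i => (Scheme.Modules.pullback g).obj (L i)) n) := by
  intro t
  induction t with
  | zero => exact fun L n => ⟨Iso.refl _⟩
  | succ t ih =>
    intro L n
    obtain ⟨e⟩ := ih (fun i => L i.castSucc) fun i => n i.castSucc
    exact ⟨AmpleLib.pullTensor g _ _ ≪≫ AmpleLib.tIso e (AmpleLib.pullPow g _ _)⟩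

end Groth.Agent.GenBCLib
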