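import Groth.Agent.GenBCLib.RankStratum

/-!
# Local freeness of rank `r` with base change, and the points of the stratum
-/

set_option autoImplicit false
set_option backward.isDefEq.respectTransparency false
set_option backward.defeqAttrib.useBackward true
set_option linter.style.haveILetI false
set_option linter.unusedSectionVars false
set_option maxHeartbeats 1000000

universe u

open CategoryTheory CategoryTheory.Limits AlgebraicGeometry TopologicalSpace Opposite TensorProduct
open Groth.Agent.BCLib Groth.Agent.PullbackMod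

noncomputable section

namespace Groth.Agent.GenBCLib

variable {X S : Scheme.{u}} {f : X ⟶ S} {F : X.Modules} {V : S.Opens}

theorem Dat.isFinLocFree_restrict_of_good (D : Dat f F V) [IsSeparated f] [QuasiCompact f] [Coh.IsQCoh F]
    {a : Γ(S, V)} (hg : D.L.Good a 0) :
    FlatMod.IsFinLocFree (((Scheme.Modules.pushforward f).obj F).restrict (S.basicOpen a).ι) := by
  let M := (Scheme.Modules.pushforward f).obj F
  haveI : Coh.IsQCoh M := QCohLib.isQCoh_pushforward F f
  let B := Γ(S, S.basicOpen a)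
  letI : Algebra Γ(S, V) B := (S.presheaf.map (homOfLE (S.basicOpen_le a)).op).hom.toAlgebra
  letI := Module.compHom Γ(M, S.basicOpen a) (S.presheaf.map (homOfLE (S.basicOpen_le a)).op).hom
  haveI : IsScalarTower Γ(S, V) B Γ(M, S.basicOpen a) := .of_algebraMap_smul fun _ _ => rfl
  haveI : IsLocalization.Away a B := D.hV.isLocalization_basicOpen a
  obtain ⟨ρ, hρ⟩ := QCohLib.exists_isLocalizedModule_res M D.hV a
  haveI := hρ
  let j := (IsLocalizedModule.isBaseChange (Submonoid.powers a) B ρ).equiv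
  obtain ⟨e, he⟩ := D.L.exists_ker_proj hg
  obtain ⟨h1, h2⟩ := finite_projective_of_retract B (LinearMap.ker (D.L.d 0)).subtype e a (S.toRingedSpace.isUnit_res_basicOpen a) he
  haveI := h1; haveI := h2
  let j' : B ⊗[Γ(S, V)] ↥(LinearMap.ker (D.L.d 0)) ≃ₗ[B] Γ(M, S.basicOpen a) :=
    LinearEquiv.baseChange Γ(S, V) B _ _ D.sec0 ≪≫ₗ j
  haveI : Module.Finite B Γ(M, S.basicOpen a) := Module.Finite.equiv j'
  haveI : Module.Projective B Γ(M, S.basicOpen a) := Module.Projective.of_equiv j'
  exact isFinLocFree_of_sections M (D.hV.basicOpen a)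

theorem isFinLocFreeOfRank_of_ptGood [IsSeparated f] [QuasiCompact f] [Coh.IsQCoh F] (r : ℕ)
    (h : ∀ s : S, PtGood f F r s) : FlatMod.IsFinLocFreeOfRank r ((Scheme.Modules.pushforward f).obj F) := by
  haveI : Coh.IsQCoh ((Scheme.Modules.pushforward f).obj F) := QCohLib.isQCoh_pushforward F f
  have hlf : FlatMod.IsFinLocFree ((Scheme.Modules.pushforward f).obj F) := isFinLocFree_of_nhds _ fun s => by
    obtain ⟨⟨V, D, a, ha, hg⟩, -⟩ := h s
    exact ⟨S.basicOpen a, ha, D.isFinLocFree_restrict_of_good hg⟩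
  exact (isFinLocFreeOfRank_iff_freeAt _ (isQCoh_and_isFP_of_isFinLocFree _ hlf).2 r).2 fun s => (h s).2

variable [IsProper f] [LocallyOfFinitePresentation f] [Coh.IsQCoh F] (hF : CohB1.IsFP F)
  (hfl : FlatMod.IsFlatOver f F) (r : ℕ)

include hF hfl in
/-- In one cartesian square: good everywhere exactly when locally free of rank `r` with base change. -/
theorem allGood_iff_goal {T XT : Scheme.{u}} {u : T ⟶ S} {fT : XT ⟶ T} {gT : XT ⟶ X} (sq : IsPullback gT fT f u) :
    AllGood f F r u ↔
      (FlatMod.IsFinLocFreeOfRank r ((Scheme.Modules.pushforward fT).obj ((Scheme.Modules.pullback gT).obj F)) ∧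
        ∀ ⦃X'' T' : Scheme.{u}⦄ (v' : X'' ⟶ XT) (f'' : X'' ⟶ T') (u' : T' ⟶ T) (h : IsPullback v' f'' fT u'),
          IsIso (CohBC.bc0 fT u' f'' v' h.w ((Scheme.Modules.pullback gT).obj F))) := by
  haveI : IsProper fT := MorphismProperty.of_isPullback (P := @IsProper) sq inferInstance
  let G := (Scheme.Modules.pullback gT).obj F
  haveI : Coh.IsQCoh G := isQCoh_pullback _ F
  constructor
  · intro h
    refine ⟨isFinLocFreeOfRank_of_ptGood r fun t => h fT gT sq t, fun X'' T' v' f'' u' hsq => ?_⟩
    haveI : IsSeparated f'' := MorphismProperty.of_isPullback (P := @IsSeparated) hsq inferInstance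
    haveI : QuasiCompact f'' := MorphismProperty.of_isPullback (P := @QuasiCompact) hsq inferInstance
    haveI : Coh.IsQCoh ((Scheme.Modules.pullback v').obj G) := isQCoh_pullback _ G
    exact isIso_bc0 hsq G fun z => (h fT gT sq (u' z)).1
  · rintro ⟨hlf, hbc⟩ XT' fT' gT' sq' t
    obtain ⟨V, D, hV⟩ := exists_dat_at hF hfl (u t)
    refine (D.ptGood_iff_cond r sq' t hV).2 ((D.ptGood_iff_cond r sq t hV).1 ⟨?_, ?_⟩)
    · obtain ⟨_, ⟨W : T.Opens, (hW : IsAffineOpen W), rfl⟩, htW, hWV⟩ :=
        T.isBasis_affineOpens.exists_subset_of_mem_open (a := t) (u := ↑(u ⁻¹ᵁ V)) hV (u ⁻¹ᵁ V).2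
      let D' := D.baseChange sq hW hWV
      haveI : IsIso (CohBC.bc0 fT (T.fromSpecResidueField t) (fT.fiberToSpecResidueField t) (fT.fiberι t)
          (fT.fiber_fac t) G) :=
        hbc _ _ _ (IsPullback.of_hasPullback fT (T.fromSpecResidueField t))
      obtain ⟨a, ha, hga⟩ := D'.exists_good htW ((D'.epi_bc0_iff_surjAt htW).1 inferInstance)
      exact ⟨W, D', a, ha, hga⟩
    · obtain ⟨U, htU, ⟨i⟩⟩ := hlf t
      haveI : Coh.IsQCoh ((Scheme.Modules.pushforward fT).obj G) := QCohLib.isQCoh_pushforward G fT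
      exact freeAt_of_restrict_iso _ i htU

include hF hfl in
/-- The points of the stratum. -/
theorem range_eq {Z : Scheme.{u}} (ι : Z ⟶ S)
    (huniv : ∀ (T : Scheme.{u}) (u : T ⟶ S), (∃ u' : T ⟶ Z, u' ≫ ι = u) ↔ AllGood f F r u) :
    Set.range ι = {s : S | CohIII.fiberRank f F 0 s = r} := by
  ext s
  obtain ⟨V, D, hs⟩ := exists_dat_at hF hfl s
  letI := kAlg S hs
  constructor
  · rintro ⟨z, rfl⟩
    have hc := (D.ptGood_iff_cond r (IsPullback.of_hasPullback f ι) z hs).1
      ((huniv Z ι).1 ⟨𝟙 _, Category.id_comp _⟩ _ _ (IsPullback.of_hasPullback f ι) z)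
    letI : Algebra Γ(S, V) (Z.presheaf.stalk z) := (S.presheaf.germ V (ι z) hs ≫ ι.stalkMap z).hom.toAlgebra
    letI : Algebra Γ(S, V) (Z.residueField z) :=
      ((algebraMap (Z.presheaf.stalk z) (IsLocalRing.ResidueField (Z.presheaf.stalk z))).comp
        (algebraMap Γ(S, V) (Z.presheaf.stalk z))).toAlgebra
    haveI : IsScalarTower Γ(S, V) (Z.presheaf.stalk z) (IsLocalRing.ResidueField (Z.presheaf.stalk z)) :=
      .of_algebraMap_eq fun a => rfl
    have h1 := (FreeRk.mono (C := IsLocalRing.ResidueField (Z.presheaf.stalk z)) hc).finrank_eq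
    refine (D.fiberRank_eq_iff r hs).2 ⟨(Module.finBasisOfFinrankEq (S.residueField (ι z)) _ ?_).equivFun⟩
    refine Eq.trans (Eq.symm (FlatCx.finrank_hom (S.residueField (ι z)) (IsLocalRing.ResidueField (Z.presheaf.stalk z))
      { (ι.residueFieldMap z).hom with commutes' := fun a => ?_ } D.RkMod)) h1
    rfl
  · intro hr
    have h1 := (D.fiberRank_eq_iff r hs).1 hr
    have hg : AllGood f F r (S.fromSpecResidueField s) := by
      refine (D.allGood_iff r (S.fromSpecResidueField s) (fun t => le_preimage_fromSpecResidueField hs trivial)).2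
        fun t => ?_
      let Y := Spec (S.residueField s)
      have ht : S.fromSpecResidueField s t ∈ V := le_preimage_fromSpecResidueField hs trivial
      letI : Algebra Γ(S, V) (Y.presheaf.stalk t) :=
        (S.presheaf.germ V (S.fromSpecResidueField s t) ht ≫ (S.fromSpecResidueField s).stalkMap t).hom.toAlgebra
      letI : Algebra (S.residueField s) (Y.presheaf.stalk t) :=
        ((Scheme.ΓSpecIso (S.residueField s)).inv ≫ Y.presheaf.germ ⊤ t trivial).hom.toAlgebra
      haveI : IsScalarTower Γ(S, V) (S.residueField s) (Y.presheaf.stalk t) := .of_algebraMap_eq fun a => by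
        show ((S.fromSpecResidueField s).stalkMap t) (S.presheaf.germ V _ ht a) =
          Y.presheaf.germ ⊤ t trivial ((Scheme.ΓSpecIso (S.residueField s)).inv (S.evaluation V s hs a))
        rw [Scheme.Hom.germ_stalkMap_apply, ← CategoryTheory.comp_apply (S.evaluation V s hs),
          ← appLE_fromSpecResidueField hs D.hV]
        exact (TopCat.Presheaf.germ_res_apply Y.presheaf
          (homOfLE (le_preimage_fromSpecResidueField hs)) t trivial _).symm
      exact FreeRk.mono h1
    obtain ⟨u', hu'⟩ := (huniv _ _).2 hg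
    let p : Spec (S.residueField s) := (⟨⊥, Ideal.isPrime_bot⟩ : PrimeSpectrum (S.residueField s))
    refine ⟨u' p, ?_⟩
    rw [← Scheme.Hom.comp_apply, hu']
    exact S.fromSpecResidueField_apply s p

end Groth.Agent.GenBCLib
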