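import Groth.Agent.GenBCLib.FCmp
import Groth.Agent.BCLib.BaseChange

/-!
# Pullback of classes along a map over a morphism, in terms of cocycles
-/

set_option autoImplicit false
set_option backward.isDefEq.respectTransparency false
set_option backward.defeqAttrib.useBackward true
set_option linter.style.haveILetI false

universe u

open CategoryTheory CategoryTheory.Limits AlgebraicGeometry TopologicalSpace Opposite
open Groth.Agent.CohBase Groth.Agent.ProjCoh Groth.Agent.FormalLib

noncomputable section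

namespace Groth.Agent.GenBCLib

variable {A A' : Type u} [CommRing A] [CommRing A'] {X X' : Scheme.{u}} [X.Over (Spec (CommRingCat.of A))]
  [X'.Over (Spec (CommRingCat.of A'))] (g : X' ⟶ X) {ι : Type u} (V : ι → X.Opens) (V' : ι → X'.Opens)
  (hV : ∀ a, V' a ≤ g ⁻¹ᵁ V a) (N : X.Modules) (N' : X'.Modules)
  (ψ : Coh.toAb N ⟶ (CohTop.push g.base).obj (Coh.toAb N'))

theorem dL_fc (q : ℕ) (c : Coch (str A X) N V q) :
    dL (str A' X') N' V' q (fc g.base V V' hV ψ q c : Coch (str A' X') N' V' q) =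
      (fc g.base V V' hV ψ (q + 1) (dL (str A X) N V q c) : Coch (str A' X') N' V' (q + 1)) := by
  rw [dL_eq, dL_eq]
  exact fc_cdiff g.base V V' hV ψ q c

variable (hcov : (⊤ : X.Opens) ≤ iSup V) (haff : ∀ (m : ℕ) (i : Fin (m + 1) → ι), IsAffineOpen (inter V i))
  (hcov' : (⊤ : X'.Opens) ≤ iSup V') (haff' : ∀ (m : ℕ) (i : Fin (m + 1) → ι), IsAffineOpen (inter V' i))
  [Coh.IsQCoh N] [Coh.IsQCoh N']

/-- The pullback of a class is the class of the pulled back cocycle. -/
theorem pullH_cls (q : ℕ) (z : ↥(LinearMap.ker (dL (str A X) N V q)))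
    (z' : ↥(LinearMap.ker (dL (str A' X') N' V' q))) (h : z'.1 = fc g.base V V' hV ψ q z.1) :
    pullH g.base ψ q (cls V hcov haff N q z) = cls V' hcov' haff' N' q z' := by
  apply (HHEquiv N' q).injective
  refine Eq.trans ?_ ((HHEquiv N' q).apply_symm_apply _).symm
  refine Eq.trans ?_ (pullU_cmp g.base V V' hV hcov hcov' ψ (acyclic_of_affine N V haff)
    (acyclic_of_affine N' V' haff') ⟨z.1, (dL_eq (str A X) N V q z.1).symm.trans z.2⟩
    ⟨z'.1, (dL_eq (str A' X') N' V' q z'.1).symm.trans z'.2⟩ h).symm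
  rfl

end Groth.Agent.GenBCLib
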