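import Groth.Agent.GenBCLib.Eps
import Groth.Agent.GenBCLib.Cls
import Groth.Agent.BCLib.AffBase

/-!
# The scalars on cochains over the preimage of an affine open
-/

set_option autoImplicit false
set_option backward.isDefEq.respectTransparency false
set_option backward.defeqAttrib.useBackward true
set_option linter.style.haveILetI false

universe u

open CategoryTheory CategoryTheory.Limits AlgebraicGeometry TopologicalSpace Opposite
open Groth.Agent.CohBase Groth.Agent.ProjCoh Groth.Agent.FormalLib Groth.Agent.BCLib Groth.Agent.RpushLib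

noncomputable section

namespace Groth.Agent.GenBCLib

variable {X S : Scheme.{u}} (f : X ⟶ S) {V : S.Opens} (hV : IsAffineOpen V)

/-- `f⁻¹V` over the functions on `V`. -/
abbrev overV : (f ⁻¹ᵁ V : Scheme.{u}).Over (Spec (CommRingCat.of Γ(S, V))) := ⟨restOver f hV⟩

theorem toGlobal_overV :
    letI := overV f hV
    Coh.toGlobal (str Γ(S, V) (f ⁻¹ᵁ V : Scheme.{u})) = preTop f V :=
  RpushLib.toGlobal_eq f hV

theorem φV_overV (O : (f ⁻¹ᵁ V : Scheme.{u}).Opens) (le : (f ⁻¹ᵁ V).ι ''ᵁ O ≤ f ⁻¹ᵁ V) (a : Γ(S, V)) :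
    letI := overV f hV
    (φV (cst Γ(S, V) (f ⁻¹ᵁ V : Scheme.{u})) O a : Γ(X, (f ⁻¹ᵁ V).ι ''ᵁ O)) =
      X.presheaf.map (homOfLE le).op (f.app V a) := by
  letI := overV f hV
  have h : cst Γ(S, V) (f ⁻¹ᵁ V : Scheme.{u}) = preTop f V := toGlobal_overV f hV
  show ((f ⁻¹ᵁ V).toScheme.presheaf.map (homOfLE (le_top : O ≤ ⊤)).op) (cst Γ(S, V) (f ⁻¹ᵁ V : Scheme.{u}) a) = _
  rw [h]
  show X.presheaf.map ((f ⁻¹ᵁ V).ι.opensFunctor.map (homOfLE (le_top : O ≤ ⊤))).op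
    (X.presheaf.map (eqToHom (f ⁻¹ᵁ V).ι_image_top).op (f.app V a)) = _
  rw [← ConcreteCategory.comp_apply, ← Functor.map_comp]
  rfl

theorem sec_smul_overV (F : X.Modules) (O : (f ⁻¹ᵁ V : Scheme.{u}).Opens)
    (le : (f ⁻¹ᵁ V).ι ''ᵁ O ≤ f ⁻¹ᵁ V) (a : Γ(S, V)) (x : Γ(F, (f ⁻¹ᵁ V).ι ''ᵁ O)) :
    letI := overV f hV
    (show Γ(F, (f ⁻¹ᵁ V).ι ''ᵁ O) from
      a • (show Sec (cst Γ(S, V) (f ⁻¹ᵁ V : Scheme.{u})) (F.restrict (f ⁻¹ᵁ V).ι) O from x)) =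
      sc (f.app V a) le x := by
  letI := overV f hV
  rw [sc_apply, ← φV_overV f hV O le a]
  show ((f ⁻¹ᵁ V).ι.appIso O).inv (φV (cst Γ(S, V) (f ⁻¹ᵁ V : Scheme.{u})) O a) • x = _
  rw [Scheme.Opens.ι_appIso]
  rfl

/-- The classes of cocycles are linear for the action of the functions on the base. -/
theorem cls_smul_overV (F : X.Modules) [Coh.IsQCoh F] {ι : Type u}
    (W : ι → (f ⁻¹ᵁ V : Scheme.{u}).Opens) (hcov : (⊤ : (f ⁻¹ᵁ V : Scheme.{u}).Opens) ≤ iSup W)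
    (haff : ∀ (m : ℕ) (i : Fin (m + 1) → ι), IsAffineOpen (inter W i))
    [Coh.IsQCoh (F.restrict (f ⁻¹ᵁ V).ι)] (p : ℕ) (a : Γ(S, V)) :
    letI := overV f hV
    ∀ z : ↥(LinearMap.ker (dL (str Γ(S, V) (f ⁻¹ᵁ V : Scheme.{u})) (F.restrict (f ⁻¹ᵁ V).ι) W p)),
      cls W hcov haff (F.restrict (f ⁻¹ᵁ V).ι) p (a • z) =
        Sheaf.H.map (Coh.smulAb (F.restrict (f ⁻¹ᵁ V).ι) (preTop f V a)) p
          (cls W hcov haff (F.restrict (f ⁻¹ᵁ V).ι) p z) := by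
  letI := overV f hV
  intro z
  rw [map_smul, ← toGlobal_overV f hV]
  rfl

theorem isQCoh_restrict (F : X.Modules) [Coh.IsQCoh F] (U : X.Opens) : Coh.IsQCoh (F.restrict U.ι) :=
  haveI : F.IsQuasicoherent := inferInstance
  Scheme.Modules.isQuasicoherent_restrictFunctor _ _

end Groth.Agent.GenBCLib
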