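import Groth.Agent.GenBCLib.Helpers
import Groth.Prelude.Def_CohBC2

/-!
# Degree zero: the direct image itself
-/

set_option autoImplicit false
set_option backward.isDefEq.respectTransparency false
set_option backward.defeqAttrib.useBackward true
set_option linter.style.haveILetI false
set_option linter.unusedSectionVars false

universe u

open CategoryTheory CategoryTheory.Limits AlgebraicGeometry TopologicalSpace Opposite TensorProduct
open Groth.Agent.CohBase Groth.Agent.ProjCoh Groth.Agent.FormalLib Groth.Agent.BCLib Groth.Agent.RpushLib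
open Groth.Agent.PullbackMod

noncomputable section

namespace Groth.Agent.GenBCLib

variable {X S : Scheme.{u}} {f : X ⟶ S} {F : X.Modules} {V : S.Opens}

theorem inter_image_le {U : X.Opens} {ι : Type u} (W : ι → U.toScheme.Opens) {n : ℕ} (i : Fin n → ι) :
    U.ι ''ᵁ inter W i ≤ U := by
  rintro _ ⟨x, -, rfl⟩
  exact x.2

/-- Restrictions of a section of the direct image to the pieces of a covering. -/
def augL (hV : IsAffineOpen V) (F : X.Modules) {ι : Type u} (W : ι → (f ⁻¹ᵁ V : Scheme.{u}).Opens) :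
    Γ((Scheme.Modules.pushforward f).obj F, V) →ₗ[Γ(S, V)] (upCx f hV F W).X 0 :=
  letI := overV f hV
  { toFun := fun s i => F.presheaf.map (homOfLE (inter_image_le W i)).op (show Γ(F, f ⁻¹ᵁ V) from s)
    map_add' := fun s t => funext fun i => map_add _ _ _
    map_smul' := fun a s => funext fun i => by
      refine Eq.trans ?_ (sec_smul_overV f hV F _ (inter_image_le W i) a _).symm
      exact F.val.map_smul (homOfLE (inter_image_le W i)).op (f.app V a) s }

theorem augL_apply (hV : IsAffineOpen V) (F : X.Modules) {ι : Type u} (W : ι → (f ⁻¹ᵁ V : Scheme.{u}).Opens)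
    (s : Γ(F, f ⁻¹ᵁ V)) (i : Fin 1 → ι) :
    augL hV F W s i = F.presheaf.map (homOfLE (inter_image_le W i)).op s := rfl

theorem toAb_restrict_res (F : X.Modules) {U : X.Opens} {O O' : U.toScheme.Opens} (h : O ≤ O') (x : Γ(F, U.ι ''ᵁ O')) :
    res (Coh.toAb (F.restrict U.ι)).obj h x = F.presheaf.map (homOfLE (U.ι.image_mono h)).op x := rfl

theorem augL_eq_aug (hV : IsAffineOpen V) (F : X.Modules) {ι : Type u} (W : ι → (f ⁻¹ᵁ V : Scheme.{u}).Opens)
    (s : Γ(F, f ⁻¹ᵁ V)) :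
    aug W (Coh.toAb (F.restrict (f ⁻¹ᵁ V).ι)).obj (fun _ => le_top)
        (F.presheaf.map (homOfLE ((f ⁻¹ᵁ V).ι_image_top).le).op s) = augL hV F W s := by
  funext i
  exact (toAb_restrict_res F (le_top : inter W i ≤ ⊤) _).trans (restr_trans F _ _ s)

theorem augL_injective (hV : IsAffineOpen V) (F : X.Modules) {ι : Type u} (W : ι → (f ⁻¹ᵁ V : Scheme.{u}).Opens)
    (hcov : (⊤ : (f ⁻¹ᵁ V : Scheme.{u}).Opens) ≤ iSup W) : Function.Injective (augL hV F W) := fun s t h => by
  rw [← augL_eq_aug hV F W s, ← augL_eq_aug hV F W t] at h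
  have h1 := aug_injective (Coh.toAb (F.restrict (f ⁻¹ᵁ V).ι)) (fun _ => le_top) hcov h
  have h2 := congrArg (F.presheaf.map (homOfLE ((f ⁻¹ᵁ V).ι_image_top).ge).op) h1
  rwa [restr_trans, restr_trans, restr_self, restr_self] at h2

theorem range_augL (hV : IsAffineOpen V) (F : X.Modules) {ι : Type u} (W : ι → (f ⁻¹ᵁ V : Scheme.{u}).Opens)
    (hcov : (⊤ : (f ⁻¹ᵁ V : Scheme.{u}).Opens) ≤ iSup W) :
    LinearMap.range (augL hV F W) = LinearMap.ker ((upCx f hV F W).d 0) := by
  letI := overV f hV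
  refine le_antisymm ?_ fun c hc => ?_
  · rintro _ ⟨s, rfl⟩
    refine LinearMap.mem_ker.2 ((dL_eq (str Γ(S, V) (f ⁻¹ᵁ V : Scheme.{u})) (F.restrict (f ⁻¹ᵁ V).ι) W 0 _).trans ?_)
    rw [← augL_eq_aug]
    exact cdiff_aug _ _ _
  · obtain ⟨t, ht⟩ := aug_exact (Coh.toAb (F.restrict (f ⁻¹ᵁ V).ι)) (fun _ => le_top) hcov c
      ((dL_eq (str Γ(S, V) (f ⁻¹ᵁ V : Scheme.{u})) (F.restrict (f ⁻¹ᵁ V).ι) W 0 c).symm.trans (LinearMap.mem_ker.1 hc))
    refine ⟨F.presheaf.map (homOfLE ((f ⁻¹ᵁ V).ι_image_top).ge).op t, ?_⟩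
    rw [← augL_eq_aug, restr_trans, restr_self]
    exact ht

/-- Cocycles in degree zero are sections. -/
def ev0 (hV : IsAffineOpen V) (F : X.Modules) {ι : Type u} (W : ι → (f ⁻¹ᵁ V : Scheme.{u}).Opens)
    (hcov : (⊤ : (f ⁻¹ᵁ V : Scheme.{u}).Opens) ≤ iSup W) :
    ↥(LinearMap.ker ((upCx f hV F W).d 0)) ≃ₗ[Γ(S, V)] Γ((Scheme.Modules.pushforward f).obj F, V) :=
  ((LinearEquiv.ofInjective (augL hV F W) (augL_injective hV F W hcov)).trans
    (LinearEquiv.ofEq _ _ (range_augL hV F W hcov))).symm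

theorem augL_ev0 (hV : IsAffineOpen V) (F : X.Modules) {ι : Type u} (W : ι → (f ⁻¹ᵁ V : Scheme.{u}).Opens)
    (hcov : (⊤ : (f ⁻¹ᵁ V : Scheme.{u}).Opens) ≤ iSup W) (z : ↥(LinearMap.ker ((upCx f hV F W).d 0))) :
    augL hV F W (ev0 hV F W hcov z) = z.1 :=
  congrArg Subtype.val (LinearEquiv.apply_symm_apply
    ((LinearEquiv.ofInjective (augL hV F W) (augL_injective hV F W hcov)).trans
      (LinearEquiv.ofEq _ _ (range_augL hV F W hcov))) z)

variable {X' S' : Scheme.{u}} {g : S' ⟶ S} {f' : X' ⟶ S'} {g' : X' ⟶ X}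

/-- The degree zero base change map on sections. -/
theorem bc0_pullMap (w : g' ≫ f = f' ≫ g) (F : X.Modules) {V' : S'.Opens} (e : V' ≤ g ⁻¹ᵁ V)
    (le : f' ⁻¹ᵁ V' ≤ g' ⁻¹ᵁ (f ⁻¹ᵁ V)) (s : Γ(F, f ⁻¹ᵁ V)) :
    (CohBC.bc0 f g f' g' w F).app V' (pullMap g ((Scheme.Modules.pushforward f).obj F) e s) =
      pullMap g' F le s := by
  let G := (Scheme.Modules.pullback g').obj F
  let N := (Scheme.Modules.pushforward f').obj G
  refine (transpose_pullMap' g (CohBC.bc0Adj f g f' g' w F) e s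
    (show Γ(N, g ⁻¹ᵁ V) from pullMap g' F (CohCmp.sqLE f g f' g' w V) s) ?_).trans ?_
  · simp only [CohBC.bc0Adj, Scheme.Modules.Hom.comp_app, ConcreteCategory.comp_apply]
    rfl
  · exact restr_trans G _ _ _

variable (h : IsPullback g' f' f g) (hV : IsAffineOpen V) {V' : S'.Opens} (hV' : IsAffineOpen V')
  (e : V' ≤ g ⁻¹ᵁ V) {ι : Type u} (W : ι → (f ⁻¹ᵁ V : Scheme.{u}).Opens)

theorem upPull_augL (F : X.Modules) [Coh.IsQCoh F] (le : f' ⁻¹ᵁ V' ≤ g' ⁻¹ᵁ (f ⁻¹ᵁ V)) (s : Γ(F, f ⁻¹ᵁ V)) :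
    upPull h hV hV' e F W 0 (augL hV F W s) =
      augL hV' ((Scheme.Modules.pullback g').obj F) (sqCov h e W) (pullMap g' F le s) := by
  funext i
  refine (fsec_onAb g' (f ⁻¹ᵁ V) (f' ⁻¹ᵁ V') (sq_le h e) F (ProperFin.inter_preCov (sqMor h e) W i).ge _).trans ?_
  refine (pullOnIso_pullMap g' (f ⁻¹ᵁ V) (f' ⁻¹ᵁ V') (sq_le h e) F (ProperFin.inter_preCov (sqMor h e) W i).ge _).trans ?_
  exact (pullMap_res g' F le (inter_image_le W i) (inter_image_le (sqCov h e W) i) _ s).symm

variable [Finite ι] [IsSeparated f] [QuasiCompact f] [IsSeparated f'] [QuasiCompact f']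
  (F : X.Modules) [Coh.IsQCoh F] [Coh.IsQCoh (F.restrict (f ⁻¹ᵁ V).ι)]
  [Coh.IsQCoh ((Scheme.Modules.pullback g').obj F)]
  [Coh.IsQCoh (((Scheme.Modules.pullback g').obj F).restrict (f' ⁻¹ᵁ V').ι)]
  (hcov : (⊤ : (f ⁻¹ᵁ V : Scheme.{u}).Opens) ≤ iSup W)
  (haff : ∀ (m : ℕ) (i : Fin (m + 1) → ι), IsAffineOpen (inter W i))

include h hV hV' hcov haff in
/-- The degree zero base change map on sections over affine opens in terms of the Čech complex. -/
theorem bc0_app_criterion :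
    letI := (g.appLE V V' e).hom.toAlgebra
    (Function.Surjective ((CohBC.bc0 f g f' g' h.w F).app V') ↔ (upCx f hV F W).BCSurj Γ(S', V') 0) ∧
      (Function.Injective ((CohBC.bc0 f g f' g' h.w F).app V') ↔ (upCx f hV F W).BCInj Γ(S', V') 0) := by
  letI := (g.appLE V V' e).hom.toAlgebra
  letI := overV f hV
  letI := overV f' hV'
  let M := (Scheme.Modules.pushforward f).obj F
  haveI : Coh.IsQCoh M := QCohLib.isQCoh_pushforward F f
  letI := Module.compHom Γ((Scheme.Modules.pullback g).obj M, V') (g.appLE V V' e).hom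
  haveI : IsScalarTower Γ(S, V) Γ(S', V') Γ((Scheme.Modules.pullback g).obj M, V') :=
    .of_algebraMap_smul fun _ _ => rfl
  let G := (Scheme.Modules.pullback g').obj F
  let W' := sqCov h e W
  let E' := ev0 hV' G W' (sqCov_cov h e W hcov)
  let evB : ↥((upCx f hV F W).zBC Γ(S', V') 0) →ₗ[Γ(S', V')] Γ((Scheme.Modules.pushforward f').obj G, V') :=
    E'.toLinearMap.comp (upCoc h F hV hV' e W haff 0)
  refine Cx.bc_criterion (K := upCx f hV F W) (ev := (ev0 hV F W hcov).toLinearMap) (evB := evB)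
    (e := (isBaseChange_pullMapL g M hV hV' e).equiv)
    (β := QCohLib.appLinear (CohBC.bc0 f g f' g' h.w F) V')
    (ev0 hV F W hcov).surjective (fun z => ?_) (fun t => ?_) (fun z => ?_) fun z hz => ?_
  · rw [show ((ev0 hV F W hcov).toLinearMap z = 0) = (ev0 hV F W hcov z = 0) from rfl, LinearEquiv.map_eq_zero_iff]
    exact ⟨fun hz => by rw [hz]; exact zero_mem _, fun hz => Subtype.ext ((Submodule.mem_bot _).1 hz)⟩
  · obtain ⟨⟨c, hc⟩, rfl⟩ := E'.surjective t
    obtain ⟨z, rfl⟩ := (upTheta h hV hV' e F W haff 0).surjective c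
    exact ⟨⟨z, LinearMap.mem_ker.2 ((upTheta h hV hV' e F W haff 1).injective
      ((dL_upTheta h hV hV' e F W haff 0 z).symm.trans ((LinearMap.mem_ker.1 hc).trans (map_zero _).symm)))⟩, rfl⟩
  · refine (map_eq_zero_iff _ E'.injective).trans ?_
    constructor
    · intro h0
      refine (Submodule.mem_bot _).2 ((upTheta h hV hV' e F W haff 0).injective ((congrArg Subtype.val h0).trans ?_))
      exact (map_zero _).symm
    · intro h0
      refine Subtype.ext ?_
      show upTheta h hV hV' e F W haff 0 z.1 = 0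
      rw [(Submodule.mem_bot _).1 h0, map_zero]
  · rw [IsBaseChange.equiv_tmul, one_smul]
    refine (bc0_pullMap h.w F e (sq_le h e) _).trans ?_
    apply augL_injective hV' G W' (sqCov_cov h e W hcov)
    refine Eq.trans ?_ (augL_ev0 hV' G W' (sqCov_cov h e W hcov) _).symm
    refine Eq.trans ?_ (upTheta_one_tmul h hV hV' e F W haff 0 z.1).symm
    refine (upPull_augL h hV hV' e W F (sq_le h e) _).symm.trans ?_
    exact congrArg (upPull h hV hV' e F W 0) (augL_ev0 hV F W hcov z)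

omit [Coh.IsQCoh (F.restrict (f ⁻¹ᵁ V).ι)] [Coh.IsQCoh (((Scheme.Modules.pullback g').obj F).restrict (f' ⁻¹ᵁ V').ι)] in
include h in
/-- The degree zero base change map is an isomorphism over the locus of good points. -/
theorem isIso_bc0 (hU : ∀ z : S', GoodNear f F 0 (g z)) : IsIso (CohBC.bc0 f g f' g' h.w F) := by
  refine S12131.isIso_of_bijective_small _ fun z => ?_
  obtain ⟨V, D, a, hza, hg⟩ := hU z
  refine ⟨g ⁻¹ᵁ S.basicOpen a, hza, fun V' hV' hle => ?_⟩
  have e : V' ≤ g ⁻¹ᵁ V := hle.trans (g.preimage_mono (S.basicOpen_le a))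
  haveI := isQCoh_restrict F (f ⁻¹ᵁ V)
  haveI := isQCoh_restrict ((Scheme.Modules.pullback g').obj F) (f' ⁻¹ᵁ V')
  obtain ⟨k1, k2⟩ := bc0_app_criterion h D.hV hV' e D.W F D.hcov D.haff
  letI := (g.appLE V V' e).hom.toAlgebra
  obtain ⟨b1, b2⟩ := (D.ψ.bcBij_iff Γ(S', V') (D.bij _) (D.bij _) 0).2
    (hg.bcBij Γ(S', V') (isUnit_appLE g a hle e))
  exact ⟨k2.2 b2, k1.2 b1⟩

end Groth.Agent.GenBCLib

namespace Groth.Agent.GenBCLib

variable {X S : Scheme.{u}} {f : X ⟶ S} {F : X.Modules} {V : S.Opens} (D : Dat f F V) {s : S} (hs : s ∈ V)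
  [IsSeparated f] [QuasiCompact f] [Coh.IsQCoh F]

/-- The residue field as the functions on its spectrum, over the functions on the open. -/
theorem Dat.surjAt_iff_top (n : ℕ) :
    letI := ((S.fromSpecResidueField s).appLE V ⊤ (le_preimage_fromSpecResidueField hs)).hom.toAlgebra
    D.SurjAt hs n ↔ (upCx f D.hV F D.W).BCSurj Γ(Spec (S.residueField s), ⊤) n := by
  letI := kAlg S hs
  letI := ((S.fromSpecResidueField s).appLE V ⊤ (le_preimage_fromSpecResidueField hs)).hom.toAlgebra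
  let θ : S.residueField s ≃ₐ[Γ(S, V)] Γ(Spec (S.residueField s), ⊤) :=
    AlgEquiv.ofRingEquiv (f := (Scheme.ΓSpecIso (S.residueField s)).symm.commRingCatIsoToRingEquiv)
      fun x => (congr($(appLE_fromSpecResidueField hs D.hV) x)).symm
  rw [Dat.SurjAt, D.L.bcSurj_congr (D.resEquiv hs), D.L.bcSurj_congr θ,
    ← D.ψ.bcSurj_iff Γ(Spec (S.residueField s), ⊤) (D.bij _) (D.bij _) n]

/-- The degree zero map to the fibre is an epimorphism exactly when base change surjects at the point. -/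
theorem Dat.epi_bc0_iff_surjAt :
    Epi (CohBC.bc0 f (S.fromSpecResidueField s) (f.fiberToSpecResidueField s) (f.fiberι s) (f.fiber_fac s) F) ↔
      D.SurjAt hs 0 := by
  haveI : Unique (Spec (S.residueField s)) := inferInstance
  haveI := isQCoh_restrict F (f ⁻¹ᵁ V)
  haveI : IsSeparated (f.fiberToSpecResidueField s) :=
    inferInstanceAs (IsSeparated (pullback.snd f (S.fromSpecResidueField s)))
  haveI : QuasiCompact (f.fiberToSpecResidueField s) :=
    inferInstanceAs (QuasiCompact (pullback.snd f (S.fromSpecResidueField s)))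
  haveI : Coh.IsQCoh ((Scheme.Modules.pullback (f.fiberι s)).obj F) := PullbackMod.isQCoh_pullback _ F
  haveI := isQCoh_restrict ((Scheme.Modules.pullback (f.fiberι s)).obj F) (f.fiberToSpecResidueField s ⁻¹ᵁ ⊤)
  have h : IsPullback (f.fiberι s) (f.fiberToSpecResidueField s) f (S.fromSpecResidueField s) :=
    IsPullback.of_hasPullback f (S.fromSpecResidueField s)
  have key := (bc0_app_criterion h D.hV (isAffineOpen_top (Spec (S.residueField s)))
    (le_preimage_fromSpecResidueField hs) D.W F D.hcov D.haff).1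
  rw [D.surjAt_iff_top hs 0, ← key]
  exact ⟨fun _ => surjective_top_of_epi _, epi_of_surjective_top _⟩

end Groth.Agent.GenBCLib
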