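import Groth.Agent.FlatStage.Main
import Groth.Agent.NApproxLib.ProperModel
import Groth.Agent.FPModelLib.ZSys
import Groth.Agent.LimHom.Quot

/-!
# Descent of a flat family of modules on a proper scheme to a Noetherian base
-/

set_option autoImplicit false
set_option backward.isDefEq.respectTransparency false
set_option backward.defeqAttrib.useBackward true
set_option linter.style.haveILetI false

universe u

open CategoryTheory CategoryTheory.Limits AlgebraicGeometry Opposite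
open Groth.Agent

noncomputable section

namespace Groth.Agent.GenBCLib

variable {I : Type u} [SmallCategory I] [IsCofiltered I] (D : I ⥤ Scheme.{u}) (c : Cone D) (hc : IsLimit c)
  [∀ {i j} (a : i ⟶ j), IsAffineHom (D.map a)]

include hc in
/-- A proper finitely presented family over the limit comes from a flat family over some stage. -/
theorem exists_flat_stage [∀ i, IsLocallyNoetherian (D.obj i)] [∀ i, CompactSpace (D.obj i)] [∀ i, QuasiSeparatedSpace (D.obj i)]
    [CompactSpace c.pt] [QuasiSeparatedSpace c.pt] {X : Scheme.{u}} (f : X ⟶ c.pt) [IsProper f]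
    [LocallyOfFinitePresentation f] (F : X.Modules) [Coh.IsQCoh F] (hF : CohB1.IsFP F)
    (hfl : FlatMod.IsFlatOver f F) :
    ∃ (i : I) (X₀ : Scheme.{u}) (f₀ : X₀ ⟶ D.obj i) (q : X ⟶ X₀) (F₀ : X₀.Modules),
      IsProper f₀ ∧ IsPullback q f f₀ (c.π.app i) ∧ Coh.IsQCoh F₀ ∧ CohB1.IsFP F₀ ∧
      FlatMod.IsFlatOver f₀ F₀ ∧ Nonempty ((Scheme.Modules.pullback q).obj F₀ ≅ F) := by
  obtain ⟨i, G, g₀, q, hGc, hGqs, hg₀, hsq⟩ := NApproxLib.exists_proper_stage_model D c hc f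
  haveI := hGc; haveI := hGqs; haveI := hg₀
  obtain ⟨hX⟩ := FlatStage.nonempty_isLimit_vCone D c i g₀ hsq hc
  let o : Over i := Over.mk (𝟙 i)
  haveI : CompactSpace ((AffLim.baseChange D i g₀).obj o) :=
    QuasiCompact.compactSpace_of_compactSpace (pullback.fst g₀ (D.map o.hom))
  haveI : ∀ (a b : Over i) (φ : a ⟶ b), IsAffineHom ((AffLim.baseChange D i g₀).map φ) := fun _ _ _ => inferInstance
  haveI : Coh.IsQCoh (show (FlatStage.vCone D c i g₀ hsq).pt.Modules from F) := ‹_›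
  obtain ⟨k, -, F₁, hq₁, hfp₁, ⟨e₁⟩⟩ := LimHom.exists_stage_module (AffLim.baseChange D i g₀)
    (FlatStage.vCone D c i g₀ hsq) hX o F hF
  haveI := hq₁
  let g₁ : (AffLim.baseChange D i g₀).obj k ⟶ D.obj k.left := pullback.snd g₀ (D.map k.hom)
  let q₁ : X ⟶ (AffLim.baseChange D i g₀).obj k := FlatStage.vMap D c i g₀ hsq k
  haveI : IsProper g₁ := MorphismProperty.pullback_snd _ _ hg₀
  haveI : CompactSpace ((AffLim.baseChange D i g₀).obj k) := QuasiCompact.compactSpace_of_compactSpace g₁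
  haveI : LocallyOfFinitePresentation g₁ :=
    MorphismProperty.pullback_snd (P := @LocallyOfFinitePresentation) _ _ inferInstance
  have hsq₁ : IsPullback q₁ f g₁ (c.π.app k.left) :=
    IsPullback.of_right (by rw [FlatStage.vMap_fst, c.w]; exact hsq) (FlatStage.vMap_snd D c i g₀ hsq k)
      (IsPullback.of_hasPullback g₀ (D.map k.hom))
  have hfl₁ : FlatMod.IsFlatOver f ((Scheme.Modules.pullback q₁).obj F₁) := fun x =>
    PullbackMod.isFlatOverAt_of_iso e₁.symm f x (hfl x)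
  obtain ⟨l, hl⟩ := FlatStage.exists_isFlatOver D c k.left g₁ (𝟙 _) (IsPullback.id_vert (c.π.app k.left)) hsq₁ hc
    F₁ hfp₁ hfl₁
  let b : pullback (g₁ ≫ 𝟙 _) (D.map l.hom) ⟶ pullback (𝟙 (D.obj k.left)) (D.map l.hom) :=
    (AffLim.baseChangeMap D k.left g₁ (𝟙 _)).app l
  let g₂ : pullback (g₁ ≫ 𝟙 _) (D.map l.hom) ⟶ D.obj l.left := b ≫ pullback.snd (𝟙 _) (D.map l.hom)
  let p₂ := pullback.fst (g₁ ≫ 𝟙 _) (D.map l.hom)
  let F₂ := (Scheme.Modules.pullback p₂).obj F₁
  haveI : Coh.IsQCoh F₂ := PullbackMod.isQCoh_pullback p₂ F₁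
  have hsq₂ : IsPullback (𝟙 _) g₂ b (inv (pullback.snd (𝟙 (D.obj k.left)) (D.map l.hom))) :=
    IsPullback.of_horiz_isIso ⟨by simp [g₂]⟩
  have hfl₂ : FlatMod.IsFlatOver g₂ F₂ := fun x =>
    PullbackMod.isFlatOverAt_of_iso ((Scheme.Modules.pullbackId _).app F₂) g₂ x
      (PullbackMod.isFlatOverAt_baseChange hsq₂ F₂ x (hl _))
  let q₂ : X ⟶ pullback (g₁ ≫ 𝟙 _) (D.map l.hom) := pullback.lift q₁ (f ≫ c.π.app l.left)
    (by rw [Category.comp_id, Category.assoc, c.w]; exact hsq₁.w)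
  have hs : g₂ = pullback.snd (g₁ ≫ 𝟙 _) (D.map l.hom) := by simp [g₂, b, AffLim.baseChangeMap]
  have hsq₂' : IsPullback q₂ f g₂ (c.π.app l.left) := by
    rw [hs]
    refine IsPullback.of_right ?_ (pullback.lift_snd _ _ _) (IsPullback.of_hasPullback (g₁ ≫ 𝟙 _) (D.map l.hom))
    rw [pullback.lift_fst, c.w, Category.comp_id]
    exact hsq₁
  haveI : IsProper g₂ := by
    rw [hs]
    exact MorphismProperty.pullback_snd _ _ (by rw [Category.comp_id]; infer_instance)
  exact ⟨l.left, _, g₂, q₂, F₂, inferInstance, hsq₂', inferInstance, PullbackMod.isFP_pullback p₂ F₁ hfp₁, hfl₂,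
    ⟨(Scheme.Modules.pullbackComp q₂ p₂).app F₁ ≪≫
      (Scheme.Modules.pullbackCongr (pullback.lift_fst q₁ _ _)).app F₁ ≪≫ e₁⟩⟩

/-- A flat family over an affine base comes from one over a Noetherian affine base. -/
theorem exists_noetherian_family {A : CommRingCat.{u}} {X : Scheme.{u}} (f : X ⟶ Spec A) [IsProper f]
    [LocallyOfFinitePresentation f] (F : X.Modules) [Coh.IsQCoh F] (hF : CohB1.IsFP F)
    (hfl : FlatMod.IsFlatOver f F) :
    ∃ (R : CommRingCat.{u}) (φ : R ⟶ A) (X₀ : Scheme.{u}) (f₀ : X₀ ⟶ Spec R) (q : X ⟶ X₀) (F₀ : X₀.Modules),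
      IsNoetherianRing R ∧ IsProper f₀ ∧ IsPullback q f f₀ (Spec.map φ) ∧ Coh.IsQCoh F₀ ∧ CohB1.IsFP F₀ ∧
      FlatMod.IsFlatOver f₀ F₀ ∧ Nonempty ((Scheme.Modules.pullback q).obj F₀ ≅ F) := by
  haveI : CompactSpace (FPModelLib.zCone A).pt := inferInstanceAs (CompactSpace (Spec A))
  haveI : QuasiSeparatedSpace (FPModelLib.zCone A).pt := inferInstanceAs (QuasiSeparatedSpace (Spec A))
  obtain ⟨i, X₀, f₀, q, F₀, h⟩ := exists_flat_stage (FPModelLib.zSys A) (FPModelLib.zCone A)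
    (FPModelLib.isLimitZCone A) (X := X) f F hF hfl
  haveI := FPModelLib.finiteType_zSys A i
  exact ⟨CommRingCat.of i.unop.1, (FPModelLib.zCocone A).ι.app i.unop, X₀, f₀, q, F₀,
    Algebra.FiniteType.isNoetherianRing ℤ _, h⟩

end Groth.Agent.GenBCLib
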