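import Groth.Agent.GenBCLib.Main
import Groth.Agent.FibreVanishQC.Main

/-!
# Restriction to smaller opens, and vanishing above the dimension of the fibres
-/

set_option autoImplicit false
set_option backward.isDefEq.respectTransparency false
set_option backward.defeqAttrib.useBackward true
set_option linter.style.haveILetI false

universe u

open CategoryTheory CategoryTheory.Limits AlgebraicGeometry TopologicalSpace Opposite
open Groth.Agent.CohBase Groth.Agent.ProjCoh Groth.Agent.RpushLib

noncomputable section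

namespace Groth.Agent.GenBCLib

/-- Restriction to a smaller open. -/
def restrictLEIso {S : Scheme.{u}} (M : S.Modules) {W U : S.Opens} (h : W ≤ U) :
    M.restrict W.ι ≅ (Scheme.Modules.restrictFunctor (S.homOfLE h)).obj (M.restrict U.ι) :=
  (Scheme.Modules.restrictFunctorCongr (g := S.homOfLE h ≫ U.ι) (Scheme.homOfLE_ι S h).symm).app M ≪≫
    (Scheme.Modules.restrictFunctorComp (S.homOfLE h) U.ι).app M

theorem isZero_restrict_le {S : Scheme.{u}} {M : S.Modules} {W U : S.Opens} (h : W ≤ U)
    (hM : IsZero (M.restrict U.ι)) : IsZero (M.restrict W.ι) :=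
  IsZero.of_iso (Functor.map_isZero _ hM) (restrictLEIso M h)

theorem isFinLocFree_restrict_le {S : Scheme.{u}} {M : S.Modules} {W U : S.Opens} (h : W ≤ U)
    (hM : FlatMod.IsFinLocFree (M.restrict U.ι)) : FlatMod.IsFinLocFree (M.restrict W.ι) :=
  DCohLib.isFinLocFree_iso (restrictLEIso M h).symm (DCohLib.isFinLocFree_restrict _ hM)

/-- Local freeness over an open, seen from another open. -/
theorem isFinLocFree_restrict_preimage {T S : Scheme.{u}} (j : T ⟶ S) [IsOpenImmersion j] (U : S.Opens)
    {M : S.Modules} (h : FlatMod.IsFinLocFree (M.restrict U.ι)) :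
    FlatMod.IsFinLocFree ((M.restrict j).restrict (j ⁻¹ᵁ U).ι) :=
  DCohLib.isFinLocFree_iso
    (((Scheme.Modules.restrictFunctorComp (j ∣_ U) U.ι).symm ≪≫
      Scheme.Modules.restrictFunctorCongr (g := (j ⁻¹ᵁ U).ι ≫ j) (morphismRestrict_ι j U) ≪≫
      Scheme.Modules.restrictFunctorComp (j ⁻¹ᵁ U).ι j).app M)
    (DCohLib.isFinLocFree_restrict (j ∣_ U) h)

theorem isFinLocFree_push_of_rpush {X S : Scheme.{u}} (f : X ⟶ S) [HasInjectiveResolutions X.Modules]
    (F : X.Modules) {U : S.Opens} (h : FlatMod.IsFinLocFree (((Coh.Rpush f 0).obj F).restrict U.ι)) :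
    FlatMod.IsFinLocFree (((Scheme.Modules.pushforward f).obj F).restrict U.ι) :=
  DCohLib.isFinLocFree_iso ((Scheme.Modules.restrictFunctor U.ι).mapIso
    (((Scheme.Modules.pushforward f).rightDerivedZeroIsoSelf).app F)) h

theorem subsingleton_of_isZero_restrict {S : Scheme.{u}} {M : S.Modules} {W U : S.Opens} (h : W ≤ U)
    (hM : IsZero (M.restrict U.ι)) : Subsingleton Γ(M, W) := by
  have h1 := AddCommGrpCat.subsingleton_of_isZero
    (Functor.map_isZero ((SheafOfModules.toSheaf _ ⋙ sheafToPresheaf _ _) ⋙ (evaluation _ _).obj (op ⊤))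
      (isZero_restrict_le h hM))
  change Subsingleton Γ(M, W.ι ''ᵁ ⊤) at h1
  rwa [Scheme.Opens.ι_image_top] at h1

theorem isZero_of_nhds {S : Scheme.{u}} (M : S.Modules)
    (h : ∀ x : S, ∃ U : S.Opens, x ∈ U ∧ IsZero (M.restrict U.ι)) : IsZero M := by
  refine isZero_of_small M fun x => ?_
  obtain ⟨U, hxU, hU⟩ := h x
  exact ⟨U, hxU, fun W _ hWU => subsingleton_of_isZero_restrict hWU hU⟩

/-- No cohomology on the fibres above their dimension. -/
theorem subsingleton_fiberH_of_dim {X S : Scheme.{u}} (f : X ⟶ S) [IsProper f] (F : X.Modules) [Coh.IsQCoh F]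
    (d : ℕ) (s : S) (hd : topologicalKrullDim (f.fiber s) ≤ d) {i : ℕ} (hi : d < i) :
    Subsingleton (CohIII.fiberH f F s i) := by
  have h : IsPullback (f.fiberι s) (f.fiberToSpecResidueField s) f (S.fromSpecResidueField s) :=
    IsPullback.of_hasPullback f (S.fromSpecResidueField s)
  haveI : IsProper (f.fiberToSpecResidueField s) := MorphismProperty.of_isPullback h inferInstance
  haveI : Coh.IsQCoh (CohIII.fiberMod f F s) := PullbackMod.isQCoh_pullback _ F
  obtain ⟨p, rfl⟩ : ∃ p, i = p + 1 := ⟨i - 1, by omega⟩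
  refine subsingleton_HH _ _ (FibreVanishQC.subsingleton_HU_affine (f.fiberToSpecResidueField s) d
    (fun z => ?_) _ p (by omega))
  rw [Groth.Agent.S9777.result f _ _ _ h z, Scheme.fromSpecResidueField_apply]
  exact hd

end Groth.Agent.GenBCLib
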