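import Groth.Agent.GenBCLib.Point
import Groth.Agent.GenBCLib.SecLocFree
import Groth.Agent.BCLib.RpushSec

/-!
# Higher direct images near a point from the finite projective complex
-/

set_option autoImplicit false
set_option backward.isDefEq.respectTransparency false
set_option backward.defeqAttrib.useBackward true
set_option linter.style.haveILetI false
set_option linter.unusedSectionVars false

universe u

open CategoryTheory CategoryTheory.Limits AlgebraicGeometry TopologicalSpace Opposite TensorProduct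
open Groth.Agent.CohBase Groth.Agent.ProjCoh Groth.Agent.FormalLib Groth.Agent.BCLib Groth.Agent.RpushLib

noncomputable section

namespace Groth.Agent.GenBCLib

/-- A retract up to a unit of `B` of a finite projective module gives a finite projective base change. -/
theorem finite_projective_of_retract {A : Type u} [CommRing A] (B : Type u) [CommRing B] [Algebra A B]
    {H N : Type u} [AddCommGroup H] [Module A H] [AddCommGroup N] [Module A N] [Module.Projective A N]
    [Module.Finite A N] (i : H →ₗ[A] N) (p : N →ₗ[A] H) (c : A) (hc : IsUnit (algebraMap A B c))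
    (h : ∀ y, p (i y) = c • y) : Module.Finite B (B ⊗[A] H) ∧ Module.Projective B (B ⊗[A] H) := by
  obtain ⟨u, hu⟩ := hc
  have key : ∀ x, p.baseChange B ((↑u⁻¹ : B) • i.baseChange B x) = x := fun x => by
    rw [map_smul, ← LinearMap.comp_apply, ← LinearMap.baseChange_comp,
      show p ∘ₗ i = c • LinearMap.id from LinearMap.ext h, LinearMap.baseChange_smul, LinearMap.baseChange_id,
      LinearMap.smul_apply, LinearMap.id_apply, ← algebraMap_smul B c x, smul_smul, ← hu, Units.inv_mul, one_smul]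
  exact ⟨Module.Finite.of_surjective (p.baseChange B) fun x => ⟨_, key x⟩,
    Module.Projective.of_split ((↑u⁻¹ : B) • i.baseChange B) (p.baseChange B) (LinearMap.ext key)⟩

variable {X S : Scheme.{u}} {f : X ⟶ S} {F : X.Modules} {V : S.Opens} (D : Dat f F V)
  [IsSeparated f] [QuasiCompact f] [Coh.IsQCoh F] [HasInjectiveResolutions X.Modules]

theorem cls_smul_str {A : Type u} [CommRing A] {Y : Scheme.{u}} [Y.Over (Spec (CommRingCat.of A))] {ι : Type u}
    [Finite ι] (W : ι → Y.Opens) (hcov : (⊤ : Y.Opens) ≤ iSup W)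
    (haff : ∀ (m : ℕ) (i : Fin (m + 1) → ι), IsAffineOpen (inter W i)) (N : Y.Modules) [Coh.IsQCoh N] (p : ℕ)
    {N' : Y.Modules} (e : N ≅ N') (a : A) (z : ↥(LinearMap.ker (dL (str A Y) N W p))) :
    hhEquivL (A := A) e p (cls W hcov haff N p (a • z)) = a • hhEquivL (A := A) e p (cls W hcov haff N p z) := by
  rw [map_smul, map_smul]

/-- The classes of the finite complex. -/
theorem Dat.exists_evDown (n : ℕ) :
    ∃ ev : ↥(LinearMap.ker (D.L.d n)) →ₗ[Γ(S, V)] Γ((Coh.Rpush f n).obj F, V),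
      Function.Surjective ev ∧ ∀ z, ev z = 0 ↔ z.1 ∈ D.L.bd n := by
  letI := overV f D.hV
  haveI := isQCoh_restrict F (f ⁻¹ᵁ V)
  obtain ⟨e⟩ := nonempty_rpush_sections f (M := F) n D.hV
  let i := hhEquivL (A := Γ(S, V)) ((Scheme.Modules.restrictFunctorIsoPullback (f ⁻¹ᵁ V).ι).app F) n
  let c : ↥(LinearMap.ker ((upCx f D.hV F D.W).d n)) →ₗ[Γ(S, V)]
      Coh.HH (f ⁻¹ᵁ V).toScheme (F.restrict (f ⁻¹ᵁ V).ι) n :=
    cls (A := Γ(S, V)) D.W D.hcov D.haff (F.restrict (f ⁻¹ᵁ V).ι) n
  have hA := D.bij Γ(S, V)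
  have hck : ∀ z, c z = 0 ↔ z.1 ∈ (upCx f D.hV F D.W).bd n := fun z =>
    (cls_eq_zero_iff (A := Γ(S, V)) D.W D.hcov D.haff _ n z).trans (by rw [bdry_one_eq])
  refine ⟨e.symm.toLinearMap ∘ₗ i.toLinearMap ∘ₗ c ∘ₗ D.ψ.zMap₀ n, fun y => ?_, fun z => ?_⟩
  · obtain ⟨z, hz⟩ := cls_surjective (A := Γ(S, V)) D.W D.hcov D.haff (F.restrict (f ⁻¹ᵁ V).ι) n (i.symm (e y))
    obtain ⟨l, hl⟩ := D.ψ.cohom_surj hA n z
    refine ⟨l, e.injective (i.symm.injective ?_)⟩
    rw [← hz]
    show i.symm (e (e.symm (i (c (D.ψ.zMap₀ n l))))) = c z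
    rw [e.apply_symm_apply, i.symm_apply_apply, eq_comm, ← sub_eq_zero, ← map_sub]
    exact (hck _).2 hl
  · show e.symm (i (c (D.ψ.zMap₀ n z))) = 0 ↔ _
    rw [map_eq_zero_iff _ e.symm.injective, map_eq_zero_iff _ i.injective, hck]
    exact ⟨D.ψ.cohom_inj hA n z, fun h => D.ψ.mapsTo_bd n h⟩

include D in
theorem Dat.exists_baseChange_res (n : ℕ) (a : Γ(S, V)) :
    letI := (S.presheaf.map (homOfLE (S.basicOpen_le a)).op).hom.toAlgebra
    Nonempty (Γ(S, S.basicOpen a) ⊗[Γ(S, V)] Γ((Coh.Rpush f n).obj F, V) ≃ₗ[Γ(S, S.basicOpen a)]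
      Γ((Coh.Rpush f n).obj F, S.basicOpen a)) := by
  let M := (Coh.Rpush f n).obj F
  haveI : Coh.IsQCoh M := isQCoh_rpush f n
  letI := (S.presheaf.map (homOfLE (S.basicOpen_le a)).op).hom.toAlgebra
  letI := Module.compHom Γ(M, S.basicOpen a) (S.presheaf.map (homOfLE (S.basicOpen_le a)).op).hom
  haveI : IsScalarTower Γ(S, V) Γ(S, S.basicOpen a) Γ(M, S.basicOpen a) := .of_algebraMap_smul fun _ _ => rfl
  haveI : IsLocalization.Away a Γ(S, S.basicOpen a) := D.hV.isLocalization_basicOpen a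
  obtain ⟨r, hr⟩ := QCohLib.exists_isLocalizedModule_res M D.hV a
  haveI := hr
  exact ⟨(IsLocalizedModule.isBaseChange (Submonoid.powers a) Γ(S, S.basicOpen a) r).equiv⟩

theorem Dat.isUnit_res (a : Γ(S, V)) :
    letI := (S.presheaf.map (homOfLE (S.basicOpen_le a)).op).hom.toAlgebra
    IsUnit (algebraMap Γ(S, V) Γ(S, S.basicOpen a) a) :=
  S.toRingedSpace.isUnit_res_basicOpen a

theorem Dat.finite_projective_basicOpen {a : Γ(S, V)} {n : ℕ} (hg : D.L.Good a n) (hs : D.L.Split a n) :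
    Module.Finite Γ(S, S.basicOpen a) Γ((Coh.Rpush f n).obj F, S.basicOpen a) ∧
      Module.Projective Γ(S, S.basicOpen a) Γ((Coh.Rpush f n).obj F, S.basicOpen a) := by
  letI := (S.presheaf.map (homOfLE (S.basicOpen_le a)).op).hom.toAlgebra
  obtain ⟨ev, hev, hev0⟩ := D.exists_evDown n
  obtain ⟨i, p, hip⟩ := D.L.exists_retract_cohom hev hev0 hg hs
  obtain ⟨e⟩ := D.exists_baseChange_res n a
  obtain ⟨h1, h2⟩ := finite_projective_of_retract Γ(S, S.basicOpen a) i p (a * a)
    (by rw [map_mul]; exact (Dat.isUnit_res a).mul (Dat.isUnit_res a)) hip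
  haveI := h1; haveI := h2
  exact ⟨Module.Finite.equiv e, Module.Projective.of_equiv e⟩

/-- Good in two neighbouring degrees: the higher direct image is locally free near the point. -/
theorem Dat.isFinLocFree_basicOpen {a : Γ(S, V)} {n : ℕ} (hg : D.L.Good a n) (hs : D.L.Split a n) :
    FlatMod.IsFinLocFree (((Coh.Rpush f n).obj F).restrict (S.basicOpen a).ι) := by
  haveI : Coh.IsQCoh ((Coh.Rpush f n).obj F) := isQCoh_rpush f n
  obtain ⟨h1, h2⟩ := D.finite_projective_basicOpen hg hs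
  haveI := h1; haveI := h2
  exact isFinLocFree_of_sections _ (D.hV.basicOpen a)

/-- Cocycles killed to coboundaries: the higher direct image vanishes near the point. -/
theorem Dat.isZero_basicOpen {a b : Γ(S, V)} {n : ℕ} (hb : S.basicOpen a ≤ S.basicOpen b)
    (hk : ∀ x : ↥(LinearMap.ker (D.L.d n)), b • x.1 ∈ D.L.bd n) :
    IsZero (((Coh.Rpush f n).obj F).restrict (S.basicOpen a).ι) := by
  haveI : Coh.IsQCoh ((Coh.Rpush f n).obj F) := isQCoh_rpush f n
  letI := (S.presheaf.map (homOfLE (S.basicOpen_le a)).op).hom.toAlgebra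
  obtain ⟨ev, hev, hev0⟩ := D.exists_evDown n
  obtain ⟨e⟩ := D.exists_baseChange_res n a
  have hu : IsUnit (algebraMap Γ(S, V) Γ(S, S.basicOpen a) b) := by
    have h1 := S.toRingedSpace.isUnit_res_basicOpen b
    have h2 := (S.presheaf.map (homOfLE hb).op).hom.isUnit_map h1
    exact (congr($(((S.presheaf.map_comp (homOfLE (S.basicOpen_le b)).op (homOfLE hb).op))) b)).symm ▸ h2
  haveI : Subsingleton (Γ(S, S.basicOpen a) ⊗[Γ(S, V)] Γ((Coh.Rpush f n).obj F, V)) := by
    refine subsingleton_of_forall_eq 0 fun y => ?_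
    induction y using TensorProduct.induction_on with
    | zero => rfl
    | tmul c m =>
      obtain ⟨z, rfl⟩ := hev m
      obtain ⟨u, hu⟩ := hu
      have h1 : b • ev z = 0 := by
        rw [← map_smul]
        exact (hev0 _).2 (hk z)
      have : c ⊗ₜ[Γ(S, V)] ev z = (c * ↑u⁻¹) ⊗ₜ[Γ(S, V)] (b • ev z) := by
        rw [← TensorProduct.smul_tmul, Algebra.smul_def, ← hu, mul_left_comm, Units.mul_inv, mul_one]
      rw [this, h1, TensorProduct.tmul_zero]
    | add x y hx hy => rw [hx, hy, add_zero]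
  haveI : Subsingleton Γ((Coh.Rpush f n).obj F, S.basicOpen a) := e.symm.toEquiv.subsingleton
  exact isZero_of_sections _ (D.hV.basicOpen a)

/-- A locally free higher direct image in a good degree gives a splitting. -/
theorem Dat.exists_split_of_isFinLocFree {a : Γ(S, V)} {n : ℕ} (hg : D.L.Good a n) {U : S.Opens}
    (hU : FlatMod.IsFinLocFree (((Coh.Rpush f n).obj F).restrict U.ι)) {s : S} (hsU : s ∈ U)
    (hsa : s ∈ S.basicOpen a) :
    ∃ c : Γ(S, V), s ∈ S.basicOpen c ∧ D.L.Good c n ∧ D.L.Split c n := by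
  haveI : Coh.IsQCoh ((Coh.Rpush f n).obj F) := isQCoh_rpush f n
  obtain ⟨b, hbU, hsb⟩ := D.hV.exists_basicOpen_le ⟨s, hsU⟩ (S.basicOpen_le a hsa)
  let c := a * b
  have hle : S.basicOpen c ≤ U := by rw [show S.basicOpen c = _ from S.basicOpen_mul a b]; exact inf_le_right.trans hbU
  have hsc : s ∈ S.basicOpen c := by rw [show S.basicOpen c = _ from S.basicOpen_mul a b]; exact ⟨hsa, hsb⟩
  obtain ⟨h1, h2⟩ := finite_projective_sections _ (D.hV.basicOpen c) hU hle
  haveI := h1; haveI := h2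
  letI := (S.presheaf.map (homOfLE (S.basicOpen_le c)).op).hom.toAlgebra
  haveI : IsLocalization.Away c Γ(S, S.basicOpen c) := D.hV.isLocalization_basicOpen c
  obtain ⟨ev, hev, hev0⟩ := D.exists_evDown n
  obtain ⟨e⟩ := D.exists_baseChange_res n c
  let θ : Γ(S, S.basicOpen c) ≃ₐ[Γ(S, V)] Localization.Away c :=
    IsLocalization.algEquiv (Submonoid.powers c) _ _
  letI := θ.toRingHom.toAlgebra
  haveI : IsScalarTower Γ(S, V) Γ(S, S.basicOpen c) (Localization.Away c) :=
    .of_algebraMap_eq fun x => (θ.commutes x).symm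
  haveI : Module.Projective Γ(S, S.basicOpen c)
      (Γ(S, S.basicOpen c) ⊗[Γ(S, V)] Γ((Coh.Rpush f n).obj F, V)) := Module.Projective.of_equiv e.symm
  haveI : Module.Projective (Localization.Away c) (Localization.Away c ⊗[Γ(S, V)] Γ((Coh.Rpush f n).obj F, V)) :=
    Module.Projective.of_equiv
      (TensorProduct.AlgebraTensorModule.cancelBaseChange Γ(S, V) Γ(S, S.basicOpen c) (Localization.Away c)
        (Localization.Away c) Γ((Coh.Rpush f n).obj F, V))
  obtain ⟨k, hk⟩ := D.L.exists_split_of_projective_cohom hev hev0 (a := c) (hg.mul_right b)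
  refine ⟨c ^ (k + 1), ?_, ?_, ?_⟩
  · rwa [S.basicOpen_pow c (k.succ_pos)]
  · rw [pow_succ]; exact (hg.mul_right b).mul_left _
  · rw [pow_succ]; exact hk.mul_right _

end Groth.Agent.GenBCLib
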