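import Groth.Agent.GenBCLib.FCmp
import Groth.Agent.BCLib.BaseChange

/-!
# Pullback of cohomology classes of modules in terms of Čech cocycles
-/

set_option autoImplicit false
set_option backward.isDefEq.respectTransparency false
set_option backward.defeqAttrib.useBackward true
set_option linter.style.haveILetI false

universe u

open CategoryTheory CategoryTheory.Limits AlgebraicGeometry TopologicalSpace Opposite
open Groth.Agent.CohBase Groth.Agent.ProjCoh Groth.Agent.FormalLib Groth.Agent.PullbackMod

noncomputable section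

namespace Groth.Agent.GenBCLib

variable {A A' : Type u} [CommRing A] [CommRing A'] {X X' : Scheme.{u}} [X.Over (Spec (CommRingCat.of A))]
  [X'.Over (Spec (CommRingCat.of A'))] (g : X' ⟶ X) {ι : Type u} (V : ι → X.Opens) (V' : ι → X'.Opens)
  (hV : ∀ a, V' a ≤ g ⁻¹ᵁ V a) (N : X.Modules)

include hV in
theorem inter_le_preimage {n : ℕ} (i : Fin n → ι) : inter V' i ≤ g ⁻¹ᵁ inter V i :=
  inter_le_map g.base V V' hV i

/-- The adjoint map defining `CohPull.pullMod`. -/
abbrev unitAb : Coh.toAb N ⟶ (CohTop.push g.base).obj (Coh.toAb ((Scheme.Modules.pullback g).obj N)) :=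
  (SheafOfModules.toSheaf X.ringCatSheaf).map ((Scheme.Modules.pullbackPushforwardAdjunction g).unit.app N)

/-- Inverse image of Čech cochains of a module. -/
def pullC (q : ℕ) : Coch (str A X) N V q →+ Coch (str A' X') ((Scheme.Modules.pullback g).obj N) V' q where
  toFun c i := pullMap g N (inter_le_preimage g V V' hV i) (c i)
  map_zero' := funext fun i => map_zero (pullMap g N (inter_le_preimage g V V' hV i))
  map_add' a b := funext fun i => map_add (pullMap g N (inter_le_preimage g V V' hV i)) (a i) (b i)

theorem pullC_eq_fc (q : ℕ) (c : Coch (str A X) N V q) :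
    pullC (A := A) (A' := A') g V V' hV N q c = fc g.base V V' hV (unitAb g N) q c := rfl

theorem dL_pullC (q : ℕ) (c : Coch (str A X) N V q) :
    dL (str A' X') _ V' q (pullC (A := A) (A' := A') g V V' hV N q c) =
      pullC (A := A) (A' := A') g V V' hV N (q + 1) (dL (str A X) N V q c) := by
  rw [dL_eq, dL_eq]
  exact fc_cdiff g.base V V' hV (unitAb g N) q c

variable (hcov : (⊤ : X.Opens) ≤ iSup V) (haff : ∀ (m : ℕ) (i : Fin (m + 1) → ι), IsAffineOpen (inter V i))
  (hcov' : (⊤ : X'.Opens) ≤ iSup V') (haff' : ∀ (m : ℕ) (i : Fin (m + 1) → ι), IsAffineOpen (inter V' i))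
  [Coh.IsQCoh N] [Coh.IsQCoh ((Scheme.Modules.pullback g).obj N)]

/-- Pullback of classes is pullback of cocycles. -/
theorem pullMod_cls (q : ℕ) (z : ↥(LinearMap.ker (dL (str A X) N V q))) :
    CohPull.pullMod g N q (cls V hcov haff N q z) =
      cls V' hcov' haff' ((Scheme.Modules.pullback g).obj N) q
        ⟨pullC (A := A) (A' := A') g V V' hV N q z.1, by
          rw [LinearMap.mem_ker, dL_pullC, LinearMap.mem_ker.1 z.2, map_zero]⟩ := by
  apply (HHEquiv ((Scheme.Modules.pullback g).obj N) q).injective
  refine Eq.trans ?_ ((HHEquiv ((Scheme.Modules.pullback g).obj N) q).apply_symm_apply _).symm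
  refine Eq.trans ?_ (pullU_cmp g.base V V' hV hcov hcov' (unitAb g N) (acyclic_of_affine N V haff)
    (acyclic_of_affine _ V' haff') ⟨z.1, (dL_eq (str A X) N V q z.1).symm.trans z.2⟩ _ rfl).symm
  rfl

end Groth.Agent.GenBCLib
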