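import Groth.Agent.GenBCLib.EdgeBij
import Groth.Agent.GenBCLib.PullCls
import Groth.Agent.CohCmpLib.Inj
import Groth.Agent.RDerLib.Horseshoe

/-!
# The edge map for O-modules
-/

set_option autoImplicit false
set_option backward.isDefEq.respectTransparency false
set_option backward.isDefEq.respectTransparency.types false
set_option linter.style.haveILetI false
set_option linter.unusedSectionVars false

universe u

open CategoryTheory CategoryTheory.Limits Opposite TopologicalSpace AlgebraicGeometry
open Groth.Agent.CohBase Groth.Agent.CohCmpLib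

noncomputable section

namespace Groth.Agent.GenBCLib

theorem pushEdge_eq {X Y : Scheme.{u}} (f : X ⟶ Y) (G : X.Modules) (p : ℕ)
    (x : Coh.HH Y ((Scheme.Modules.pushforward f).obj G) p) :
    CohPull.pushEdge f G p x = edgeH f.base (Coh.toAb G) p x := by
  refine (pullH_map f.base (unitAb f ((Scheme.Modules.pushforward f).obj G))
    ((SheafOfModules.toSheaf X.ringCatSheaf).map
      ((Scheme.Modules.pullbackPushforwardAdjunction f).counit.app G)) p x).trans ?_
  refine congrArg (fun k => pullH f.base k p x) ?_
  exact ((SheafOfModules.toSheaf Y.ringCatSheaf).map_comp _ _).symm.trans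
    ((congrArg (SheafOfModules.toSheaf Y.ringCatSheaf).map
      ((Scheme.Modules.pullbackPushforwardAdjunction f).right_triangle_components G)).trans
      ((SheafOfModules.toSheaf Y.ringCatSheaf).map_id _))

theorem subsingleton_H_push_injective {X Y : Scheme.{u}} (f : X ⟶ Y) (I : X.Modules) [Injective I] (n : ℕ) :
    Subsingleton (Sheaf.H.{u} ((CohTop.push f.base).obj (Coh.toAb I)) (n + 1)) :=
  haveI : TopCat.Sheaf.IsFlasque ((CohTop.push f.base).obj (Coh.toAb I)) :=
    LocZLib.isFlasque_of_surjective _ fun h => RpushLib.surjective_rM_injective I (f.preimage_mono h)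
  CohTopEasy.subsingleton_H_flasque _ n

theorem subsingleton_H_injective {X : Scheme.{u}} (I : X.Modules) [Injective I] (n : ℕ) :
    Subsingleton (Sheaf.H.{u} (Coh.toAb I) (n + 1)) :=
  haveI : TopCat.Sheaf.IsFlasque (Coh.toAb I) :=
    LocZLib.isFlasque_of_surjective _ fun h => RpushLib.surjective_rM_injective I h
  CohTopEasy.subsingleton_H_flasque _ n

variable {X Y : Scheme.{u}} (f : X ⟶ Y) [HasInjectiveResolutions X.Modules]

/-- The edge map is bijective when the higher direct images vanish. -/
theorem bijective_edgeH_isZero (Δ : RDer.DerivedLES (Scheme.Modules.pushforward f)) : ∀ (p : ℕ) (G : X.Modules),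
    (∀ q, 0 < q → IsZero ((Coh.Rpush f q).obj G)) → Function.Bijective (edgeH f.base (Coh.toAb G) p)
  | 0, G, _ => bijective_edgeH_zero f.base _
  | n + 1, G, hG => by
    let P := Scheme.Modules.pushforward f
    let T := embSeq G
    have hT : T.ShortExact := shortExact_embSeq G
    haveI : Injective T.X₂ := inferInstanceAs (Injective (Injective.under G))
    haveI : PreservesFiniteLimits P := preservesFiniteLimits_pushforward' f
    haveI : Mono T.f := hT.mono_f
    haveI : Epi T.g := hT.epi_g
    have hT' : (T.map P).ShortExact := by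
      haveI : Mono (T.map P).f := inferInstanceAs (Mono (P.map T.f))
      haveI : Epi ((Coh.Rpush f 0).map T.g) :=
        (Δ.exact₃ T hT 0 1 rfl).epi_f ((hG 1 one_pos).eq_of_tgt _ _)
      haveI : Epi (T.map P).g := by
        show Epi (P.map T.g)
        have e : P.map T.g = P.toRightDerivedZero.app T.X₂ ≫ (Coh.Rpush f 0).map T.g ≫
            inv (P.toRightDerivedZero.app T.X₃) := by
          rw [← Category.assoc, IsIso.eq_comp_inv]
          exact P.toRightDerivedZero.naturality T.g
        rw [e]
        infer_instance
      exact ShortComplex.ShortExact.mk' (ShortComplex.exact_of_f_is_kernel _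
        (isLimitForkMapOfIsLimit' P T.zero hT.fIsKernel)) inferInstance inferInstance
    have hQ : ∀ q, 0 < q → IsZero ((Coh.Rpush f q).obj T.X₃) := fun q hq => by
      obtain ⟨m, rfl⟩ : ∃ m, q = m + 1 := ⟨q - 1, by omega⟩
      exact (Δ.exact₃ T hT (m + 1) (m + 1 + 1) rfl).isZero_of_both_zeros
        ((Functor.isZero_rightDerived_obj_injective_succ _ m T.X₂).eq_of_src _ _)
        ((hG (m + 1 + 1) (by omega)).eq_of_tgt _ _)
    exact bijective_edgeH_shift f.base (S := T.map (QCohLib.toAbF X)) (QCohLib.toAb_shortExact hT)
      (QCohLib.toAb_shortExact hT') (fun m => subsingleton_H_injective T.X₂ m)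
      (fun m => subsingleton_H_push_injective f T.X₂ m) n (bijective_edgeH_isZero Δ n T.X₃ hQ)

end Groth.Agent.GenBCLib
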