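import Groth.Agent.CohCmpLib.Inj
import Groth.Agent.RDerLib.Horseshoe

/-!
# Existence of the comparison maps into higher direct images
-/

set_option autoImplicit false
set_option linter.style.haveILetI false
set_option backward.isDefEq.respectTransparency false
set_option backward.isDefEq.respectTransparency.types false

universe u

open CategoryTheory CategoryTheory.Limits AlgebraicGeometry TopologicalSpace Opposite
open Groth.Agent.CohCmpLib

noncomputable section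

namespace Groth.Agent.GenBCLib

variable {X S : Scheme.{u}} (f : X ⟶ S) [HasInjectiveResolutions X.Modules]
  (Δ : RDer.DerivedLES (Scheme.Modules.pushforward f)) (V : S.Opens)

instance injective_embSeq₂ (F : X.Modules) : Injective (embSeq F).X₂ :=
  inferInstanceAs (Injective (Injective.under F))

/-- A morphism of modules, extended to the chosen embeddings. -/
def embHom {T : ShortComplex X.Modules} (hT : T.ShortExact) {G : X.Modules} (a : T.X₁ ⟶ G) : T ⟶ embSeq G :=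
  haveI := hT.mono_f
  haveI := hT.epi_g
  let b : T.X₂ ⟶ Injective.under G := Injective.factorThru (a ≫ Injective.ι G) T.f
  have hb : T.f ≫ b = a ≫ Injective.ι G := Injective.comp_factorThru _ _
  { τ₁ := a
    τ₂ := b
    τ₃ := hT.exact.desc (b ≫ cokernel.π (Injective.ι G))
      (by rw [← Category.assoc, hb, Category.assoc, cokernel.condition, comp_zero])
    comm₁₂ := hb.symm
    comm₂₃ := (hT.exact.g_desc _ _).symm }

/-- Naturality of the connecting map on classes. -/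
theorem cMap_cDelta {T T' : ShortComplex X.Modules} (hT : T.ShortExact) (hT' : T'.ShortExact) (φ : T ⟶ T')
    (U : X.Opens) (n : ℕ) (w : cH T.X₃ U n) :
    cMap φ.τ₁ U (n + 1) (cDelta hT U n w) = cDelta hT' U n (cMap φ.τ₃ U n w) := by
  show Abelian.Ext.comp (Abelian.Ext.comp _ (shortExact_toAbOn hT U).extClass rfl)
      (Abelian.Ext.mk₀ ((CohCmp.toAbOn X U).map φ.τ₁)) (add_zero (n + 1)) =
    Abelian.Ext.comp (Abelian.Ext.comp _ (Abelian.Ext.mk₀ ((CohCmp.toAbOn X U).map φ.τ₃)) (add_zero n))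
      (shortExact_toAbOn hT' U).extClass rfl
  refine (Abelian.Ext.comp_assoc_of_third_deg_zero _ _ _ _).trans ?_
  refine Eq.trans ?_ (Abelian.Ext.comp_assoc_of_second_deg_zero _ _ _ _).symm
  exact congrArg (fun t => Abelian.Ext.comp _ t _) (ShortComplex.ShortExact.extClass_naturality
    (shortExact_toAbOn hT U) (shortExact_toAbOn hT' U) ((CohCmp.toAbOn X U).mapShortComplex.map φ))

/-- Candidates for the comparison in one degree. -/
structure CmpAt (n : ℕ) where
  /-- the map -/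
  ev : ∀ F : X.Modules, cH F (f ⁻¹ᵁ V) n →+ ((Coh.Rpush f n).obj F).presheaf.obj (op V)
  natural : ∀ {F G : X.Modules} (ψ : F ⟶ G) (x : cH F (f ⁻¹ᵁ V) n),
    ev G (cMap ψ (f ⁻¹ᵁ V) n x) = ((Coh.Rpush f n).map ψ).app V (ev F x)

theorem cDelta_eq_zero_imp {F : X.Modules} (n : ℕ) (w : cH (embSeq F).X₃ (f ⁻¹ᵁ V) n)
    (hw : cDelta (shortExact_embSeq F) (f ⁻¹ᵁ V) n w = 0) :
    ∃ z, cMap (embSeq F).g (f ⁻¹ᵁ V) n z = w :=
  Abelian.Ext.covariant_sequence_exact₃ _ (shortExact_toAbOn (shortExact_embSeq F) (f ⁻¹ᵁ V)) w rfl hw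

theorem rpush_δ_natural {T T' : ShortComplex X.Modules} (hT : T.ShortExact) (hT' : T'.ShortExact) (φ : T ⟶ T')
    (n : ℕ) (y : ((Coh.Rpush f n).obj T.X₃).presheaf.obj (op V)) :
    ((Coh.Rpush f (n + 1)).map φ.τ₁).app V ((Δ.δ T hT n (n + 1) rfl).app V y) =
      (Δ.δ T' hT' n (n + 1) rfl).app V (((Coh.Rpush f n).map φ.τ₃).app V y) :=
  (congr($(Δ.δ_natural hT hT' φ n (n + 1) rfl) |>.app V y)).symm

theorem rpush_comp_δ {T : ShortComplex X.Modules} (hT : T.ShortExact) (n : ℕ)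
    (y : ((Coh.Rpush f n).obj T.X₂).presheaf.obj (op V)) :
    (Δ.δ T hT n (n + 1) rfl).app V (((Coh.Rpush f n).map T.g).app V y) = 0 :=
  congr($(Δ.comp_δ T hT n (n + 1) rfl) |>.app V y)

variable {f V} in
/-- The comparison in the next degree. -/
theorem exists_next {n : ℕ} (c : CmpAt f V n) :
    ∃ c' : CmpAt f V (n + 1), ∀ (T : ShortComplex X.Modules) (hT : T.ShortExact) (w : cH T.X₃ (f ⁻¹ᵁ V) n),
      c'.ev T.X₁ (cDelta hT (f ⁻¹ᵁ V) n w) = (Δ.δ T hT n (n + 1) rfl).app V (c.ev T.X₃ w) := by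
  have hex : ∀ F : X.Modules, ∃ e : cH F (f ⁻¹ᵁ V) (n + 1) →+ ((Coh.Rpush f (n + 1)).obj F).presheaf.obj (op V),
      ∀ w, e (cDelta (shortExact_embSeq F) (f ⁻¹ᵁ V) n w) =
        (Δ.δ (embSeq F) (shortExact_embSeq F) n (n + 1) rfl).app V (c.ev (embSeq F).X₃ w) := fun F => by
    let d : cH (embSeq F).X₃ (f ⁻¹ᵁ V) n →+ cH F (f ⁻¹ᵁ V) (n + 1) := cDelta (shortExact_embSeq F) (f ⁻¹ᵁ V) n
    have hd : Function.Surjective d := fun x => exists_cDelta_eq (shortExact_embSeq F) (f ⁻¹ᵁ V) n x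
    let t : cH (embSeq F).X₃ (f ⁻¹ᵁ V) n →+ ((Coh.Rpush f (n + 1)).obj F).presheaf.obj (op V) :=
      ((Δ.δ (embSeq F) (shortExact_embSeq F) n (n + 1) rfl).app V).hom.comp (c.ev (embSeq F).X₃)
    have hk : d.ker ≤ t.ker := fun w hw => by
      obtain ⟨z, rfl⟩ := cDelta_eq_zero_imp f V n w hw
      show (Δ.δ (embSeq F) _ n (n + 1) rfl).app V (c.ev _ _) = 0
      rw [c.natural]
      exact rpush_comp_δ f Δ V _ n _
    exact ⟨d.liftOfSurjective hd ⟨t, hk⟩, fun w =>
      AddMonoidHom.liftOfRightInverse_comp_apply d _ (Function.rightInverse_surjInv hd) ⟨t, hk⟩ w⟩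
  choose e he using hex
  have key : ∀ (T : ShortComplex X.Modules) (hT : T.ShortExact) {G : X.Modules} (a : T.X₁ ⟶ G)
      (w : cH T.X₃ (f ⁻¹ᵁ V) n), e G (cMap a (f ⁻¹ᵁ V) (n + 1) (cDelta hT (f ⁻¹ᵁ V) n w)) =
        ((Coh.Rpush f (n + 1)).map a).app V ((Δ.δ T hT n (n + 1) rfl).app V (c.ev T.X₃ w)) := fun T hT G a w => by
    refine (congrArg (e G) (cMap_cDelta hT (shortExact_embSeq G) (embHom hT a) (f ⁻¹ᵁ V) n w)).trans ?_
    rw [he, c.natural]
    exact (rpush_δ_natural f Δ V hT (shortExact_embSeq G) (embHom hT a) n _).symm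
  refine ⟨⟨e, fun {F G} ψ x => ?_⟩, fun T hT w => ?_⟩
  · obtain ⟨w, rfl⟩ := exists_cDelta_eq (shortExact_embSeq F) (f ⁻¹ᵁ V) n x
    rw [he]
    exact key (embSeq F) (shortExact_embSeq F) ψ w
  · have h := key T hT (𝟙 T.X₁) w
    rw [CategoryTheory.Functor.map_id] at h
    refine Eq.trans (congrArg (e T.X₁) ?_) h
    exact (Abelian.Ext.comp_mk₀_id _).symm.trans
      (congrArg (fun k => Abelian.Ext.comp _ (Abelian.Ext.mk₀ k) (add_zero (n + 1)))
        ((CohCmp.toAbOn X (f ⁻¹ᵁ V)).map_id T.X₁).symm)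

/-- The comparison in degree zero. -/
def cmpZero : CmpAt f V 0 where
  ev F := (((Scheme.Modules.pushforward f).toRightDerivedZero.app F).app V).hom.comp
    (cSect F (f ⁻¹ᵁ V)).symm.toAddMonoidHom
  natural {F G} ψ x := by
    obtain ⟨s, rfl⟩ := (cSect F (f ⁻¹ᵁ V)).surjective x
    show ((Scheme.Modules.pushforward f).toRightDerivedZero.app G).app V
        ((cSect G (f ⁻¹ᵁ V)).symm (cMap ψ (f ⁻¹ᵁ V) 0 (cSect F (f ⁻¹ᵁ V) s))) = _
    rw [show cMap ψ (f ⁻¹ᵁ V) 0 (cSect F (f ⁻¹ᵁ V) s) = cSect G (f ⁻¹ᵁ V) (ψ.app (f ⁻¹ᵁ V) s) from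
      sectH0_mapH ψ s, AddEquiv.symm_apply_apply]
    show _ = ((Coh.Rpush f 0).map ψ).app V (((Scheme.Modules.pushforward f).toRightDerivedZero.app F).app V
      ((cSect F (f ⁻¹ᵁ V)).symm (cSect F (f ⁻¹ᵁ V) s)))
    rw [AddEquiv.symm_apply_apply]
    exact congr($((Scheme.Modules.pushforward f).toRightDerivedZero.naturality ψ) |>.app V s)

/-- The comparison in all degrees. -/
def cmp : ∀ n, CmpAt f V n
  | 0 => cmpZero f V
  | n + 1 => (exists_next Δ (cmp n)).choose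

/-- The comparison maps. -/
def sectCmp : CohCmp.SectCmp f Δ where
  ε V F p := (cmp f Δ V p).ev F
  zero V F s := congrArg (((Scheme.Modules.pushforward f).toRightDerivedZero.app F).app V)
    ((cSect F (f ⁻¹ᵁ V)).symm_apply_apply s)
  natural V {F G} ψ p x := (cmp f Δ V p).natural ψ x
  delta V T hT hA p x := (exists_next Δ (cmp f Δ V p)).choose_spec T hT x

theorem exists_sectCmp :
    ∃ (Δ : RDer.DerivedLES (Scheme.Modules.pushforward f)), Nonempty (CohCmp.SectCmp f Δ) :=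
  haveI : EnoughInjectives X.Modules := enoughInjectives_of_resolutions
  ⟨(RDerLib.nonempty_derivedLES _).some, ⟨sectCmp f _⟩⟩

end Groth.Agent.GenBCLib
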