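import Groth.Agent.GenBCLib.EdgeGen
import Groth.Agent.GenBCLib.SectExists
import Groth.Agent.GenBCLib.BCMain
import Groth.Agent.PullbackMod.Hom

/-!
# The flat base change map agrees with the pullback of classes
-/

set_option autoImplicit false
set_option backward.isDefEq.respectTransparency false
set_option backward.defeqAttrib.useBackward true
set_option linter.style.haveILetI false
set_option linter.unusedSectionVars false

universe u

open CategoryTheory CategoryTheory.Limits AlgebraicGeometry TopologicalSpace Opposite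
open Groth.Agent.CohBase Groth.Agent.CohCmpLib Groth.Agent.PullbackMod

noncomputable section

namespace Groth.Agent.GenBCLib

section OnAb

variable {X Y : Scheme.{u}} (g : X ⟶ Y) (U : Y.Opens) (U' : X.Opens) (h : U' ≤ g ⁻¹ᵁ U)

theorem onAb_natural {M N : Y.Modules} (φ : M ⟶ N) :
    (CohCmp.toAbOn Y U).map φ ≫ onAb g U U' h N =
      onAb g U U' h M ≫
        (CohTop.push (g.resLE U U' h).base).map ((CohCmp.toAbOn X U').map ((Scheme.Modules.pullback g).map φ)) := by
  let k := g.resLE U U' h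
  let R := Scheme.Modules.pushforward k
  let adj := Scheme.Modules.pullbackPushforwardAdjunction k
  have e : (Scheme.Modules.restrictFunctor U.ι).map φ ≫ adj.unit.app (N.restrict U.ι) ≫
        R.map (CohPull.pullOnIso g U U' h N).hom =
      (adj.unit.app (M.restrict U.ι) ≫ R.map (CohPull.pullOnIso g U U' h M).hom) ≫
        R.map ((Scheme.Modules.restrictFunctor U'.ι).map ((Scheme.Modules.pullback g).map φ)) := by
    rw [Category.assoc, ← R.map_comp, ← pullOnIso_natural g U U' h φ, R.map_comp, ← Category.assoc, ← Category.assoc]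
    exact congrArg (· ≫ R.map (CohPull.pullOnIso g U U' h N).hom)
      (adj.unit.naturality ((Scheme.Modules.restrictFunctor U.ι).map φ))
  have e' := congrArg (SheafOfModules.toSheaf U.toScheme.ringCatSheaf).map e
  simp only [Functor.map_comp] at e'
  exact e'

theorem pullOn_sectH0 (F : Y.Modules) (s : Γ(F, U)) :
    CohPull.pullOn g U U' h F 0 (CohPull.sectH0 F U s) =
      CohPull.sectH0 ((Scheme.Modules.pullback g).obj F) U' (pullMap g F h s) := by
  rw [pullOn_eq]
  apply (Sheaf.H.equiv₀ _ isTerminalTop).injective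
  refine (equiv₀_pullH _ _ _).trans ?_
  refine ((congrArg ((onAb g U U' h F).hom.app (op ⊤)) (sectH0_eq F U s)).trans
    (onAb_app g U U' h F ⊤ _)).trans ?_
  refine Eq.trans ?_ (sectH0_eq _ U' _).symm
  show ((Scheme.Modules.pullback g).obj F).presheaf.map _
      (((Scheme.Modules.pullbackPushforwardAdjunction g).unit.app F).app _ (F.presheaf.map _ s)) =
    ((Scheme.Modules.pullback g).obj F).presheaf.map _ (((Scheme.Modules.pullback g).obj F).presheaf.map _
      (((Scheme.Modules.pullbackPushforwardAdjunction g).unit.app F).app U s))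
  refine Eq.trans ?_ (restr_trans _ _ _ _).symm
  refine (congrArg _ (NatTrans.naturality_apply
    ((Scheme.Modules.pullbackPushforwardAdjunction g).unit.app F).mapPresheaf _ s)).trans ?_
  exact restr_trans _ _ _ _

theorem pullOn_cDelta [PreservesFiniteLimits (Scheme.Modules.pullback g)] {T : ShortComplex Y.Modules}
    (hT : T.ShortExact) (hT' : (T.map (Scheme.Modules.pullback g)).ShortExact) (p : ℕ) (w : cH T.X₃ U p) :
    CohPull.pullOn g U U' h T.X₁ (p + 1) (cDelta hT U p w) =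
      cDelta hT' U' p (CohPull.pullOn g U U' h T.X₃ p w) := by
  rw [pullOn_eq, pullOn_eq]
  exact pullH_delta (g.resLE U U' h).base (shortExact_toAbOn hT U) (shortExact_toAbOn hT' U')
    (onAb g U U' h T.X₁) (onAb g U U' h T.X₂) (onAb g U U' h T.X₃) (onAb_natural g U U' h T.f).symm
    (onAb_natural g U U' h T.g).symm p w

end OnAb

variable {X S X' S' : Scheme.{u}} (f : X ⟶ S) (g : S' ⟶ S) (f' : X' ⟶ S') (g' : X' ⟶ X) (w : g' ≫ f = f' ≫ g)
  [HasInjectiveResolutions X.Modules] [HasInjectiveResolutions X'.Modules]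
  [PreservesFiniteLimits (Scheme.Modules.pullback g')]

theorem shortExact_pullback {T : ShortComplex X.Modules} (hT : T.ShortExact) :
    (T.map (Scheme.Modules.pullback g')).ShortExact := by
  haveI : PreservesFiniteColimits (Scheme.Modules.pullback g') := by
    haveI : PreservesColimitsOfSize.{0, 0} (Scheme.Modules.pullback g') :=
      (Scheme.Modules.pullbackPushforwardAdjunction g').leftAdjoint_preservesColimits
    infer_instance
  exact hT.map_of_exact _

/-- The unit on a sequence. -/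
def unitSeq (T : ShortComplex X.Modules) :
    T ⟶ (T.map (Scheme.Modules.pullback g')).map (Scheme.Modules.pushforward g') where
  τ₁ := (Scheme.Modules.pullbackPushforwardAdjunction g').unit.app T.X₁
  τ₂ := (Scheme.Modules.pullbackPushforwardAdjunction g').unit.app T.X₂
  τ₃ := (Scheme.Modules.pullbackPushforwardAdjunction g').unit.app T.X₃
  comm₁₂ := ((Scheme.Modules.pullbackPushforwardAdjunction g').unit.naturality T.f).symm
  comm₂₃ := ((Scheme.Modules.pullbackPushforwardAdjunction g').unit.naturality T.g).symm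

/-- The identification of the two composite direct images. -/
abbrev sqIso : Scheme.Modules.pushforward g' ⋙ Scheme.Modules.pushforward f ≅
    Scheme.Modules.pushforward f' ⋙ Scheme.Modules.pushforward g :=
  Scheme.Modules.pushforwardComp g' f ≪≫ Scheme.Modules.pushforwardCongr w ≪≫
    (Scheme.Modules.pushforwardComp f' g).symm

theorem bcQAdj_eq (p : ℕ) (F : X.Modules) :
    CohBC.bcQAdj f g f' g' w p F =
      bcG (Scheme.Modules.pushforward g') (Scheme.Modules.pushforward f) (Scheme.Modules.pushforward f')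
        (Scheme.Modules.pushforward g) (sqIso f g f' g' w)
        ((Scheme.Modules.pullbackPushforwardAdjunction g').unit.app F) p := rfl

theorem bc0Adj_app (F : X.Modules) (V : S.Opens) (s : Γ(F, f ⁻¹ᵁ V)) :
    (CohBC.bc0Adj f g f' g' w F).app V s =
      pullMap g' F (CohCmp.sqLE f g f' g' w V) s := by
  rw [CohBC.bc0Adj, Scheme.Modules.Hom.comp_app, Scheme.Modules.Hom.comp_app, Scheme.Modules.Hom.comp_app]
  rfl

variable {Δ : RDer.DerivedLES (Scheme.Modules.pushforward f)} {Δ' : RDer.DerivedLES (Scheme.Modules.pushforward f')}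
  (E : CohCmp.SectCmp f Δ) (E' : CohCmp.SectCmp f' Δ')

theorem bcQAdj_δ {T : ShortComplex X.Modules} (hT : T.ShortExact) (p : ℕ) :
    CohBC.bcQAdj f g f' g' w p T.X₃ ≫
        (Scheme.Modules.pushforward g).map (Δ'.δ _ (shortExact_pullback g' hT) p (p + 1) rfl) =
      Δ.δ T hT p (p + 1) rfl ≫ CohBC.bcQAdj f g f' g' w (p + 1) T.X₁ := by
  rw [bcQAdj_eq, bcQAdj_eq]
  exact bcG_δ _ _ _ _ (sqIso f g f' g' w) Δ Δ' hT (shortExact_pullback g' hT) (unitSeq g' T) p

include E E' in
theorem bcQAdj_eps_zero (F : X.Modules) (V : S.Opens) (s : Γ(F, f ⁻¹ᵁ V)) :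
    (CohBC.bcQAdj f g f' g' w 0 F).app V (E.ε V F 0 (CohPull.sectH0 F (f ⁻¹ᵁ V) s)) =
      E'.ε (g ⁻¹ᵁ V) ((Scheme.Modules.pullback g').obj F) 0
        (CohPull.pullOn g' (f ⁻¹ᵁ V) (f' ⁻¹ᵁ (g ⁻¹ᵁ V)) (CohCmp.sqLE f g f' g' w V) F 0
          (CohPull.sectH0 F (f ⁻¹ᵁ V) s)) := by
  rw [E.zero, pullOn_sectH0, E'.zero, ← bc0Adj_app f g f' g' w F V s]
  exact congr($(CohBC.toRightDerivedZero_bcQAdj f g f' g' w F) |>.app V s)

theorem push_map_app {M N : S'.Modules} (φ : M ⟶ N) (V : S.Opens) (m : Γ(M, g ⁻¹ᵁ V)) :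
    ((Scheme.Modules.pushforward g).map φ).app V m = φ.app (g ⁻¹ᵁ V) m := rfl

include E' in
theorem bcQAdj_δ_app {T : ShortComplex X.Modules} (hT : T.ShortExact) (p : ℕ) (V : S.Opens)
    (y : Γ((Coh.Rpush f p).obj T.X₃, V)) :
    (CohBC.bcQAdj f g f' g' w (p + 1) T.X₁).app V ((Δ.δ T hT p (p + 1) rfl).app V y) =
      (Δ'.δ _ (shortExact_pullback g' hT) p (p + 1) rfl).app (g ⁻¹ᵁ V)
        ((CohBC.bcQAdj f g f' g' w p T.X₃).app V y) :=
  (congr($(bcQAdj_δ f g f' g' w (Δ := Δ) (Δ' := Δ') hT p) |>.app V y)).symm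

include E E' in
theorem bcQAdj_eps_step {T : ShortComplex X.Modules} (hT : T.ShortExact) (p : ℕ) (V : S.Opens)
    (z : cH T.X₃ (f ⁻¹ᵁ V) p)
    (ih : (CohBC.bcQAdj f g f' g' w p T.X₃).app V (E.ε V T.X₃ p z) =
      E'.ε (g ⁻¹ᵁ V) ((Scheme.Modules.pullback g').obj T.X₃) p
        (CohPull.pullOn g' (f ⁻¹ᵁ V) (f' ⁻¹ᵁ (g ⁻¹ᵁ V)) (CohCmp.sqLE f g f' g' w V) T.X₃ p z)) :
    (CohBC.bcQAdj f g f' g' w (p + 1) T.X₁).app V (E.ε V T.X₁ (p + 1) (cDelta hT (f ⁻¹ᵁ V) p z)) =
      E'.ε (g ⁻¹ᵁ V) ((Scheme.Modules.pullback g').obj T.X₁) (p + 1)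
        (CohPull.pullOn g' (f ⁻¹ᵁ V) (f' ⁻¹ᵁ (g ⁻¹ᵁ V)) (CohCmp.sqLE f g f' g' w V) T.X₁ (p + 1)
          (cDelta hT (f ⁻¹ᵁ V) p z)) :=
  ((congrArg ((CohBC.bcQAdj f g f' g' w (p + 1) T.X₁).app V) (cEps_cDelta f E hT V p z)).trans
    ((bcQAdj_δ_app f g f' g' w E' hT p V _).trans
      (congrArg ((Δ'.δ _ (shortExact_pullback g' hT) p (p + 1) rfl).app (g ⁻¹ᵁ V)) ih))).trans
    ((congrArg (E'.ε (g ⁻¹ᵁ V) _ (p + 1)) (pullOn_cDelta g' _ _ _ hT (shortExact_pullback g' hT) p z)).trans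
      (cEps_cDelta f' E' (shortExact_pullback g' hT) (g ⁻¹ᵁ V) p _)).symm

include E E' in
theorem bcQAdj_eps (p : ℕ) : ∀ (F : X.Modules) (V : S.Opens) (x : cH F (f ⁻¹ᵁ V) p),
    (CohBC.bcQAdj f g f' g' w p F).app V (E.ε V F p x) =
      E'.ε (g ⁻¹ᵁ V) ((Scheme.Modules.pullback g').obj F) p
        (CohPull.pullOn g' (f ⁻¹ᵁ V) (f' ⁻¹ᵁ (g ⁻¹ᵁ V)) (CohCmp.sqLE f g f' g' w V) F p x) := by
  induction p with
  | zero =>
    intro F V x
    obtain ⟨s, rfl⟩ := (cSect F (f ⁻¹ᵁ V)).surjective x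
    exact bcQAdj_eps_zero f g f' g' w E E' F V s
  | succ p ih =>
    intro F V x
    haveI : Injective (embSeq F).X₂ := inferInstanceAs (Injective (Injective.under F))
    obtain ⟨z, rfl⟩ := exists_cDelta_eq (shortExact_embSeq F) (f ⁻¹ᵁ V) p x
    exact bcQAdj_eps_step f g f' g' w E E' (shortExact_embSeq F) p V z (ih _ V z)

end Groth.Agent.GenBCLib
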