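import Groth.Agent.CohCmpLib.Inj
import Groth.Agent.RpushLib.Main

/-!
# The comparison is bijective on affine opens: the quasi-separated case
-/

set_option autoImplicit false
set_option linter.style.haveILetI false
set_option backward.isDefEq.respectTransparency false
set_option backward.isDefEq.respectTransparency.types false

universe u

open CategoryTheory CategoryTheory.Limits AlgebraicGeometry TopologicalSpace Opposite
open Groth.Agent.CohCmpLib Groth.Agent.RpushLib

noncomputable section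

namespace Groth.Agent.GenBCLib

variable {X S : Scheme.{u}} (f : X ⟶ S) [HasInjectiveResolutions X.Modules]
  {Δ : RDer.DerivedLES (Scheme.Modules.pushforward f)} (E : CohCmp.SectCmp f Δ)

theorem bijective_cMap {F G : X.Modules} (i : F ≅ G) (U : X.Opens) (p : ℕ) :
    Function.Bijective (cMap i.hom U p) := by
  have h : ∀ {F G : X.Modules} (i : F ≅ G) (x : cH F U p), cMap i.inv U p (cMap i.hom U p x) = x :=
    fun {F G} i x => by
      show Abelian.Ext.comp (Abelian.Ext.comp _ (Abelian.Ext.mk₀ ((CohCmp.toAbOn X U).map i.hom)) (add_zero p))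
        (Abelian.Ext.mk₀ ((CohCmp.toAbOn X U).map i.inv)) (add_zero p) = _
      rw [Abelian.Ext.comp_assoc_of_third_deg_zero, Abelian.Ext.mk₀_comp_mk₀, ← Functor.map_comp,
        Iso.hom_inv_id, CategoryTheory.Functor.map_id, Abelian.Ext.comp_mk₀_id]
  exact ⟨Function.LeftInverse.injective (h i), Function.RightInverse.surjective (h i.symm)⟩

theorem bijective_app_of_isIso {M N : S.Modules} (φ : M ⟶ N) [IsIso φ] (V : S.Opens) :
    Function.Bijective (φ.app V) :=
  ConcreteCategory.bijective_of_isIso _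

variable {f}

/-- Dimension shifting for the comparison. -/
theorem bijective_cEps_succ {T : ShortComplex X.Modules} (hT : T.ShortExact) [Injective T.X₂] (V : S.Opens)
    (m : ℕ) (h : Function.Bijective (cEps f E V T.X₃ (m + 1))) :
    Function.Bijective (cEps f E V T.X₁ (m + 1 + 1)) := by
  have hz : IsZero ((Coh.Rpush f (m + 1)).obj T.X₂) := Functor.isZero_rightDerived_obj_injective_succ _ m T.X₂
  have hz' : IsZero ((Coh.Rpush f (m + 1 + 1)).obj T.X₂) :=
    Functor.isZero_rightDerived_obj_injective_succ _ (m + 1) T.X₂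
  haveI : Mono (Δ.δ T hT (m + 1) (m + 1 + 1) rfl) :=
    (Δ.exact₃ T hT (m + 1) (m + 1 + 1) rfl).mono_g (hz.eq_of_src _ _)
  haveI : Epi (Δ.δ T hT (m + 1) (m + 1 + 1) rfl) :=
    (Δ.exact₁ T hT (m + 1) (m + 1 + 1) rfl).epi_f (hz'.eq_of_tgt _ _)
  haveI : IsIso (Δ.δ T hT (m + 1) (m + 1 + 1) rfl) := isIso_of_mono_of_epi _
  have hδ := bijective_app_of_isIso (Δ.δ T hT (m + 1) (m + 1 + 1) rfl) V
  refine ⟨(injective_iff_map_eq_zero _).2 fun x hx => ?_, fun t => ?_⟩
  · obtain ⟨w, rfl⟩ := exists_cDelta_eq hT (f ⁻¹ᵁ V) (m + 1) x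
    have hw : cEps f E V T.X₃ (m + 1) w = 0 :=
      hδ.1 (((cEps_cDelta f E hT V (m + 1) w).symm.trans hx).trans (map_zero _).symm)
    rw [h.1 (hw.trans (map_zero _).symm), map_zero]
  · obtain ⟨t, rfl⟩ := hδ.2 t
    obtain ⟨w, rfl⟩ := h.2 t
    exact ⟨_, cEps_cDelta f E hT V (m + 1) w⟩

variable [QuasiCompact f] [QuasiSeparated f] {M : X.Modules} [Coh.IsQCoh M] (R : InjectiveResolution M)

include E in
theorem bijective_cEps_one (k : ℕ) {V : S.Opens} (hV : IsAffineOpen V) :
    Function.Bijective (cEps f E V (Z R k) 1) := by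
  let G := Scheme.Modules.pushforward f
  have hT := seq_shortExact R k
  let φ : G.obj (Z R (k + 1)) ⟶ (Coh.Rpush f 1).obj (Z R k) :=
    G.toRightDerivedZero.app (Z R (k + 1)) ≫ Δ.δ (seq R k) hT 0 1 rfl
  have hz : IsZero ((Coh.Rpush f 1).obj (R.cocomplex.X k)) :=
    Functor.isZero_rightDerived_obj_injective_succ _ 0 (R.cocomplex.X k)
  haveI hδ : Epi (Δ.δ (seq R k) hT 0 1 rfl) := (Δ.exact₁ (seq R k) hT 0 1 rfl).epi_f (hz.eq_of_tgt _ _)
  haveI hG : IsIso (G.toRightDerivedZero.app (Z R (k + 1))) := inferInstance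
  haveI : Epi φ := epi_comp _ _
  have hw : pushπ f R k ≫ φ = 0 := by
    show G.map (seq R k).g ≫ _ ≫ _ = 0
    rw [← Category.assoc, G.toRightDerivedZero.naturality, Category.assoc]
    exact (congrArg (G.toRightDerivedZero.app (R.cocomplex.X k) ≫ ·) (Δ.comp_δ (seq R k) hT 0 1 rfl)).trans comp_zero
  have hex : (ShortComplex.mk (pushπ f R k) φ hw).Exact := by
    let i₁ : G.obj (R.cocomplex.X k) ≅ (Coh.Rpush f 0).obj (R.cocomplex.X k) :=
      (G.rightDerivedZeroIsoSelf.app (R.cocomplex.X k)).symm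
    let i₂ : G.obj (Z R (k + 1)) ≅ (Coh.Rpush f 0).obj (Z R (k + 1)) :=
      (G.rightDerivedZeroIsoSelf.app (Z R (k + 1))).symm
    exact (ShortComplex.exact_iff_of_iso (ShortComplex.isoMk
      (S₁ := ShortComplex.mk (pushπ f R k) φ hw)
      (S₂ := ShortComplex.mk ((Coh.Rpush f 0).map (seq R k).g) (Δ.δ (seq R k) hT 0 1 rfl)
        (Δ.comp_δ (seq R k) hT 0 1 rfl))
      i₁ i₂ (Iso.refl _) (G.toRightDerivedZero.naturality (seq R k).g).symm
      (Category.comp_id _).symm)).2 (Δ.exact₃ (seq R k) hT 0 1 rfl)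
  let e := (cokernelIsCokernel (pushπ f R k)).coconePointUniqueUpToIso hex.gIsCokernel
  have he : φ = cokernel.π (pushπ f R k) ≫ e.hom :=
    ((cokernelIsCokernel (pushπ f R k)).comp_coconePointUniqueUpToIso_hom hex.gIsCokernel WalkingParallelPair.one).symm
  have heb := bijective_app_of_isIso e.hom V
  have hl := locImage f R k
  have key : ∀ σ, cEps f E V (Z R k) 1 (cDelta hT (f ⁻¹ᵁ V) 0 (cSect (Z R (k + 1)) (f ⁻¹ᵁ V) σ)) =
      e.hom.app V ((cokernel.π (pushπ f R k)).app V σ) := fun σ => by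
    refine (cEps_cDelta f E hT V 0 _).trans ?_
    refine (congrArg _ (cEps_cSect f E V (Z R (k + 1)) σ)).trans ?_
    exact congr($he |>.app V σ)
  refine ⟨(injective_iff_map_eq_zero _).2 fun x hx => ?_, fun t => ?_⟩
  · haveI : Injective (seq R k).X₂ := injective_X R k
    obtain ⟨w, rfl⟩ := exists_cDelta_eq hT (f ⁻¹ᵁ V) 0 x
    obtain ⟨σ, rfl⟩ := (cSect (Z R (k + 1)) (f ⁻¹ᵁ V)).surjective w
    obtain ⟨j, hj⟩ := hl.coker_exact hV σ (heb.1 (((key σ).symm.trans hx).trans (map_zero _).symm))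
    rw [← hj]
    exact (congrArg (cDelta hT (f ⁻¹ᵁ V) 0) (sectH0_mapH (seq R k).g j).symm).trans
      (cDelta_cMap hT 0 (cSect (R.cocomplex.X k) (f ⁻¹ᵁ V) j))
  · obtain ⟨t, rfl⟩ := heb.2 t
    obtain ⟨σ, rfl⟩ := hl.coker_surjective hV t
    exact ⟨_, key σ⟩

include E in
theorem bijective_cEps_Z {V : S.Opens} (hV : IsAffineOpen V) :
    ∀ (m k : ℕ), Function.Bijective (cEps f E V (Z R k) (m + 1))
  | 0, k => bijective_cEps_one E R k hV
  | m + 1, k => by
    haveI : Injective (seq R k).X₂ := injective_X R k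
    exact bijective_cEps_succ E (seq_shortExact R k) V m (bijective_cEps_Z hV m (k + 1))

omit R
include E in
/-- The comparison is bijective on affine opens, for quasi-compact quasi-separated morphisms. -/
theorem bijective_eps_qs (M : X.Modules) [Coh.IsQCoh M] {V : S.Opens} (hV : IsAffineOpen V) (p : ℕ) :
    Function.Bijective (E.ε V M p) := by
  cases p with
  | zero =>
    have h : (E.ε V M 0).comp (CohPull.sectH0 M (f ⁻¹ᵁ V)).toAddMonoidHom =
        (((Scheme.Modules.pushforward f).toRightDerivedZero.app M).app V).hom := by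
      ext s
      exact E.zero V M s
    exact (Function.Bijective.of_comp_iff _ (CohPull.sectH0 M (f ⁻¹ᵁ V)).bijective).1
      (congr(Function.Bijective ⇑$h) ▸ bijective_toDerivedZero f M V)
  | succ m =>
    let R := injectiveResolution M
    let i := zeroIso R
    have hb := bijective_cEps_Z E R hV m 0
    have hn : ∀ x, cEps f E V (Z R 0) (m + 1) (cMap i.hom (f ⁻¹ᵁ V) (m + 1) x) =
        ((Coh.Rpush f (m + 1)).map i.hom).app V (cEps f E V M (m + 1) x) :=
      fun x => E.natural V i.hom (m + 1) x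
    have hc : Function.Bijective (cMap i.hom (f ⁻¹ᵁ V) (m + 1)) :=
      bijective_cMap i (f ⁻¹ᵁ V) (m + 1)
    have h2 : Function.Bijective (((Coh.Rpush f (m + 1)).map i.hom).app V ∘ cEps f E V M (m + 1)) :=
      by
        convert hb.comp hc using 1
        exact funext fun x => (hn x).symm
    exact ((bijective_app_of_isIso ((Coh.Rpush f (m + 1)).map i.hom) V).of_comp_iff' _).1 h2

end Groth.Agent.GenBCLib
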