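import Groth.Agent.GenBCLib.FlatCls
import Groth.Agent.GenBCLib.EpsQS
import Groth.Agent.GenBCLib.BCMain
import Groth.Agent.OmegaUnivLib.Compat

/-!
# Flat base change of higher direct images of quasi-compact quasi-separated morphisms
-/

set_option autoImplicit false
set_option backward.isDefEq.respectTransparency false
set_option backward.defeqAttrib.useBackward true
set_option linter.style.haveILetI false
set_option linter.unusedSectionVars false

universe u

open CategoryTheory CategoryTheory.Limits AlgebraicGeometry TopologicalSpace Opposite TensorProduct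
open Groth.Agent.CohBase Groth.Agent.ProjCoh Groth.Agent.FormalLib Groth.Agent.BCLib Groth.Agent.RpushLib
open Groth.Agent.PullbackMod

noncomputable section

namespace Groth.Agent.GenBCLib

theorem restOver_appTop' {X S : Scheme.{u}} (f : X ⟶ S) {V : S.Opens} (hV : IsAffineOpen V) (a : Γ(S, V)) :
    (restOver f hV).appTop ((Scheme.ΓSpecIso (CommRingCat.of Γ(S, V))).inv a) = preTop f V a :=
  RingHom.congr_fun (toGlobal_overV f hV) a

variable {X S X' S' : Scheme.{u}} {f : X ⟶ S} {g : S' ⟶ S} {f' : X' ⟶ S'} {g' : X' ⟶ X}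
  (h : IsPullback g' f' f g) [QuasiCompact f] [QuasiSeparated f]
  (F : X.Modules) [Coh.IsQCoh F]
  {V : S.Opens} (hV : IsAffineOpen V) {V' : S'.Opens} (hV' : IsAffineOpen V') (e : V' ≤ g ⁻¹ᵁ V)

theorem good_congr {X X' : Scheme.{u}} {g : X' ⟶ X} {M : X.Modules} {A B : Type u} [CommRing A] [CommRing B]
    [Algebra A B] {ψ ψ₁ : A →+* Coh.Γtop X} {ψ' ψ'₁ : B →+* Coh.Γtop X'} (e : ψ = ψ₁) (e' : ψ' = ψ'₁)
    {hψ : ∀ a, ψ' (algebraMap A B a) = ProperFin.gTop g (ψ a)}
    (hψ₁ : ∀ a, ψ'₁ (algebraMap A B a) = ProperFin.gTop g (ψ₁ a)) {U : X.Opens}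
    (h : FlatBC.Good.{u} (FlatBC.datum g M ψ ψ' hψ) (freeAb U) 0) :
    FlatBC.Good.{u} (FlatBC.datum g M ψ₁ ψ'₁ hψ₁) (freeAb U) 0 := by
  subst e e'
  exact h

theorem exists_equiv_then_map {Y : Scheme.{u}} {N N' : Y.Modules} (i : N ≅ N') (p : ℕ) {B : Type u} [CommRing B]
    (ψ : B →+* Coh.Γtop Y) {T H : Type u} [AddCommGroup T] [Module B T] (one : H → T) (val : H → Coh.HH Y N p)
    (h : letI : Module B (Coh.HH Y N p) := Module.compHom _ ψ
      ∃ t : T ≃ₗ[B] Coh.HH Y N p, ∀ x, t (one x) = val x) :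
    letI : Module B (Coh.HH Y N' p) := Module.compHom _ ψ
    ∃ t : T ≃ₗ[B] Coh.HH Y N' p, ∀ x, t (one x) = CohPull.mapH i.hom p (val x) := by
  letI : Module B (Coh.HH Y N p) := Module.compHom _ ψ
  letI : Module B (Coh.HH Y N' p) := Module.compHom _ ψ
  obtain ⟨t, ht⟩ := h
  let k := ProjCoh.hhLinearEquiv i p
  exact ⟨(t.toAddEquiv.trans k.toAddEquiv).toLinearEquiv fun c z =>
    (congrArg k (map_smul t c z)).trans (map_smul k (ψ c) (t z)), fun x => congrArg (CohPull.mapH i.hom p) (ht x)⟩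

include h hV hV' in
theorem preTop_sqMor (x : Γ(S, V)) :
    preTop f' V' ((g.appLE V V' e).hom x) = ProperFin.gTop (sqMor h e) (preTop f V x) := by
  rw [← restOver_appTop' f hV, ← restOver_appTop' f' hV']
  letI : Algebra Γ(S, V) Γ(S', V') := (g.appLE V V' e).hom.toAlgebra
  exact FlatBC.comp_toGlobal (isPullback_sqMor h hV hV' e)
    (Scheme.ΓSpecIso (CommRingCat.of Γ(S, V))).symm.commRingCatIsoToRingEquiv
    (Scheme.ΓSpecIso (CommRingCat.of Γ(S', V'))).symm.commRingCatIsoToRingEquiv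
    (fun y => (congr($(Scheme.ΓSpecIso_inv_naturality (g.appLE V V' e)) y)).symm) x

include h hV hV' in
/-- The pullback of classes is flat base change. -/
theorem exists_pullOn_equiv (hfl : (g.appLE V V' e).hom.Flat) (p : ℕ) :
    letI := (g.appLE V V' e).hom.toAlgebra
    letI : Module Γ(S, V) (Coh.HHon X F (f ⁻¹ᵁ V) p) := Module.compHom _ (preTop f V)
    letI : Module Γ(S', V') (Coh.HHon X' ((Scheme.Modules.pullback g').obj F) (f' ⁻¹ᵁ V') p) :=
      Module.compHom _ (preTop f' V')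
    ∃ t : Γ(S', V') ⊗[Γ(S, V)] Coh.HHon X F (f ⁻¹ᵁ V) p ≃ₗ[Γ(S', V')]
        Coh.HHon X' ((Scheme.Modules.pullback g').obj F) (f' ⁻¹ᵁ V') p,
      ∀ x, t (1 ⊗ₜ x) = CohPull.pullOn g' (f ⁻¹ᵁ V) (f' ⁻¹ᵁ V') (sq_le h e) F p x := by
  let A := Γ(S, V)
  let B := Γ(S', V')
  letI : Algebra A B := (g.appLE V V' e).hom.toAlgebra
  haveI : Module.Flat A B := hfl
  letI : Module Γ(S, V) (Coh.HHon X F (f ⁻¹ᵁ V) p) := Module.compHom _ (preTop f V)
  letI : Module Γ(S', V') (Coh.HHon X' ((Scheme.Modules.pullback g').obj F) (f' ⁻¹ᵁ V') p) :=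
    Module.compHom _ (preTop f' V')
  haveI := isQCoh_restrict F (f ⁻¹ᵁ V)
  haveI : QuasiCompact (restOver f hV) :=
    MorphismProperty.of_isPullback (P := @QuasiCompact) (isPullback_restOver f hV) inferInstance
  haveI : QuasiSeparated (restOver f hV) :=
    MorphismProperty.of_isPullback (P := @QuasiSeparated) (isPullback_restOver f hV) inferInstance
  haveI : CompactSpace (f ⁻¹ᵁ V : Scheme.{u}) := isCompact_iff_compactSpace.1 (f.isCompact_preimage hV.isCompact)
  haveI : QuasiSeparatedSpace (f ⁻¹ᵁ V : Scheme.{u}) := (isQuasiSeparated_iff_quasiSeparatedSpace _ (f ⁻¹ᵁ V).2).1 (f.isQuasiSeparated_preimage hV.isQuasiSeparated)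
  have hc := isPullback_sqMor h hV hV' e
  haveI : IsAffineHom (sqMor h e) := MorphismProperty.of_isPullback (P := @IsAffineHom) hc.flip inferInstance
  let a : A ≃+* Γ(Spec (CommRingCat.of A), ⊤) :=
    (Scheme.ΓSpecIso (CommRingCat.of A)).symm.commRingCatIsoToRingEquiv
  let b : B ≃+* Γ(Spec (CommRingCat.of B), ⊤) :=
    (Scheme.ΓSpecIso (CommRingCat.of B)).symm.commRingCatIsoToRingEquiv
  have hab : ∀ x, (Spec.map (g.appLE V V' e)).appTop (a x) = b (algebraMap A B x) :=
    fun x => (congr($(Scheme.ΓSpecIso_inv_naturality (g.appLE V V' e)) x)).symm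
  have hA : (restOver f hV).appTop.hom.comp a.toRingHom = preTop f V := toGlobal_overV f hV
  have hB : (restOver f' hV').appTop.hom.comp b.toRingHom = preTop f' V' := toGlobal_overV f' hV'
  have h0 : ∀ U : (f ⁻¹ᵁ V : Scheme.{u}).Opens, IsAffineOpen U →
      FlatBC.Good.{u} (FlatBC.datum (sqMor h e) (F.restrict (f ⁻¹ᵁ V).ι) (preTop f V) (preTop f' V')
        (preTop_sqMor h hV hV' e)) (freeAb U) 0 := fun U hU =>
    good_congr hA hB _ (FlatBC.good_affine hc (F.restrict (f ⁻¹ᵁ V).ι) a b hab U hU)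
  exact exists_equiv_then_map (CohPull.pullOnIso g' (f ⁻¹ᵁ V) (f' ⁻¹ᵁ V') (sq_le h e) F) p (preTop f' V') _ _
    (exists_baseChange_pullMod (sqMor h e) (F.restrict (f ⁻¹ᵁ V).ι) (preTop f V) (preTop f' V')
      (preTop_sqMor h hV hV' e) h0 p)

variable [HasInjectiveResolutions X.Modules] [HasInjectiveResolutions X'.Modules]
  {Δ : RDer.DerivedLES (Scheme.Modules.pushforward f)} {Δ' : RDer.DerivedLES (Scheme.Modules.pushforward f')}
  {E : CohCmp.SectCmp f Δ} {E' : CohCmp.SectCmp f' Δ'}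

include E E' hV hV' in
/-- A map with the compatibility of the base change map is bijective on affine opens, in the flat case. -/
theorem bijective_app_of_compat (hfl : (g.appLE V V' e).hom.Flat) (p : ℕ)
    (β : (Scheme.Modules.pullback g).obj ((Coh.Rpush f p).obj F) ⟶
      (Coh.Rpush f' p).obj ((Scheme.Modules.pullback g').obj F))
    (hβ : ∀ x, β.app V' (pullMap g ((Coh.Rpush f p).obj F) e (E.ε V F p x)) =
      E'.ε V' ((Scheme.Modules.pullback g').obj F) p
        (CohPull.pullOn g' (f ⁻¹ᵁ V) (f' ⁻¹ᵁ V') (sq_le h e) F p x)) :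
    Function.Bijective (β.app V') := by
  haveI : QuasiCompact f' := MorphismProperty.of_isPullback (P := @QuasiCompact) h inferInstance
  haveI : QuasiSeparated f' := MorphismProperty.of_isPullback (P := @QuasiSeparated) h inferInstance
  letI : Algebra Γ(S, V) Γ(S', V') := (g.appLE V V' e).hom.toAlgebra
  letI : Module Γ(S, V) (Coh.HHon X F (f ⁻¹ᵁ V) p) := Module.compHom _ (preTop f V)
  letI : Module Γ(S', V') (Coh.HHon X' ((Scheme.Modules.pullback g').obj F) (f' ⁻¹ᵁ V') p) :=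
    Module.compHom _ (preTop f' V')
  haveI : Coh.IsQCoh ((Scheme.Modules.pullback g').obj F) := PullbackMod.isQCoh_pullback _ F
  let M := (Coh.Rpush f p).obj F
  haveI : Coh.IsQCoh M := isQCoh_rpush f p
  letI := Module.compHom Γ((Scheme.Modules.pullback g).obj M, V') (g.appLE V V' e).hom
  haveI : IsScalarTower Γ(S, V) Γ(S', V') Γ((Scheme.Modules.pullback g).obj M, V') :=
    .of_algebraMap_smul fun _ _ => rfl
  let ε : Coh.HHon X F (f ⁻¹ᵁ V) p ≃ₗ[Γ(S, V)] Γ(M, V) :=
    (AddEquiv.ofBijective (E.ε V F p) (bijective_eps_qs E F hV p)).toLinearEquiv fun a x =>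
      eps_smul f E p F V a x
  let ε' : Coh.HHon X' ((Scheme.Modules.pullback g').obj F) (f' ⁻¹ᵁ V') p ≃ₗ[Γ(S', V')]
      Γ((Coh.Rpush f' p).obj ((Scheme.Modules.pullback g').obj F), V') :=
    (AddEquiv.ofBijective (E'.ε V' _ p) (bijective_eps_qs E' _ hV' p)).toLinearEquiv fun a x =>
      eps_smul f' E' p _ V' a x
  obtain ⟨t, ht⟩ := exists_pullOn_equiv h F hV hV' e hfl p
  let i := TensorProduct.AlgebraTensorModule.congr (LinearEquiv.refl Γ(S', V') Γ(S', V')) ε
  let hb := (isBaseChange_pullMapL g M hV hV' e).equiv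
  let L := (hb.symm ≪≫ₗ i.symm ≪≫ₗ t ≪≫ₗ ε')
  letI := Module.compHom Γ((Coh.Rpush f' p).obj ((Scheme.Modules.pullback g').obj F), V') (g.appLE V V' e).hom
  haveI : IsScalarTower Γ(S, V) Γ(S', V') Γ((Coh.Rpush f' p).obj ((Scheme.Modules.pullback g').obj F), V') :=
    .of_algebraMap_smul fun _ _ => rfl
  have key : QCohLib.appLinear β V' ∘ₗ (i ≪≫ₗ hb).toLinearMap = (t ≪≫ₗ ε').toLinearMap := by
    refine TensorProduct.AlgebraTensorModule.ext fun s x => ?_
    rw [← mul_one s, ← smul_eq_mul, ← TensorProduct.smul_tmul', map_smul, map_smul]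
    refine congrArg (s • ·) ?_
    show β.app V' (hb (1 ⊗ₜ ε x)) = ε' (t (1 ⊗ₜ x))
    rw [IsBaseChange.equiv_tmul, one_smul, ht]
    exact hβ x
  have hL : QCohLib.appLinear β V' = L.toLinearMap := LinearMap.ext fun y => by
    obtain ⟨z, rfl⟩ := (i ≪≫ₗ hb).surjective y
    refine (LinearMap.congr_fun key z).trans ?_
    simp only [L, LinearEquiv.coe_coe, LinearEquiv.trans_apply]
    exact congrArg (fun w => ε' (t w))
      ((congrArg i.symm (hb.symm_apply_apply (i z))).trans (i.symm_apply_apply z)).symm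
  show Function.Bijective (QCohLib.appLinear β V')
  rw [hL]
  exact L.bijective

/-- Flat base change, for quasi-compact quasi-separated morphisms. -/
theorem isIso_of_compat [Flat g] (p : ℕ)
    (φ : (Coh.Rpush f p).obj F ⟶ (Scheme.Modules.pushforward g).obj
      ((Coh.Rpush f' p).obj ((Scheme.Modules.pullback g').obj F)))
    (hφ : ∀ (W : S.Opens) x, φ.app W (E.ε W F p x) =
      E'.ε (g ⁻¹ᵁ W) ((Scheme.Modules.pullback g').obj F) p
        (CohPull.pullOn g' (f ⁻¹ᵁ W) (f' ⁻¹ᵁ (g ⁻¹ᵁ W)) (CohCmp.sqLE f g f' g' h.w W) F p x)) :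
    IsIso (((Scheme.Modules.pullbackPushforwardAdjunction g).homEquiv _ _).symm φ) := by
  haveI : QuasiCompact f' := MorphismProperty.of_isPullback (P := @QuasiCompact) h inferInstance
  haveI : QuasiSeparated f' := MorphismProperty.of_isPullback (P := @QuasiSeparated) h inferInstance
  haveI : Coh.IsQCoh ((Scheme.Modules.pullback g').obj F) := PullbackMod.isQCoh_pullback _ F
  haveI : Coh.IsQCoh ((Coh.Rpush f p).obj F) := isQCoh_rpush f p
  haveI : Coh.IsQCoh ((Scheme.Modules.pullback g).obj ((Coh.Rpush f p).obj F)) := PullbackMod.isQCoh_pullback _ _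
  haveI : Coh.IsQCoh ((Coh.Rpush f' p).obj ((Scheme.Modules.pullback g').obj F)) := isQCoh_rpush f' p
  refine OmegaUnivLib.isIso_of_bijective_cover _ fun y => ?_
  obtain ⟨_, ⟨V, hV, rfl⟩, hyV, -⟩ := S.isBasis_affineOpens.exists_subset_of_mem_open
    (Set.mem_univ (g y)) isOpen_univ
  obtain ⟨_, ⟨V', hV', rfl⟩, hyV', e⟩ := S'.isBasis_affineOpens.exists_subset_of_mem_open
    (show y ∈ g ⁻¹ᵁ V from hyV) (g ⁻¹ᵁ V).isOpen
  refine ⟨V', hV', hyV', bijective_app_of_compat h F hV hV' e (g.flat_appLE hV hV' e) p _ (E := E) (E' := E')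
    fun x => ?_⟩
  refine (transpose_pullMap' g φ e _ _ (hφ V x)).trans ?_
  exact eps_res_eq f' E' p _ e _ _
    (resLE_pullOn g' (f ⁻¹ᵁ V) (CohCmp.sqLE f g f' g' h.w V) (f'.preimage_mono e) F p x)

end Groth.Agent.GenBCLib
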