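import Groth.Agent.GenBCLib.BCIso

/-!
# Cohomology and base change near a point
-/

set_option autoImplicit false
set_option backward.isDefEq.respectTransparency false
set_option backward.defeqAttrib.useBackward true
set_option linter.style.haveILetI false
set_option linter.unusedSectionVars false

universe u

open CategoryTheory CategoryTheory.Limits AlgebraicGeometry TopologicalSpace Opposite TensorProduct
open Groth.Agent.CohBase Groth.Agent.ProjCoh Groth.Agent.FormalLib Groth.Agent.BCLib Groth.Agent.RpushLib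

noncomputable section

namespace Groth.Agent.GenBCLib

variable {X S : Scheme.{u}} {f : X ⟶ S} {F : X.Modules}

theorem exists_dat_at [IsProper f] [LocallyOfFinitePresentation f] [Coh.IsQCoh F] (hF : CohB1.IsFP F)
    (hfl : FlatMod.IsFlatOver f F) (s : S) : ∃ (V : S.Opens) (_ : Dat f F V), s ∈ V := by
  obtain ⟨_, ⟨V : S.Opens, hV, rfl⟩, hsV, -⟩ :=
    S.isBasis_affineOpens.exists_subset_of_mem_open (Set.mem_univ s) isOpen_univ
  exact ⟨V, (nonempty_dat hF hfl (show IsAffineOpen V from hV)).some, hsV⟩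

variable {V : S.Opens} (D : Dat f F V) {s : S} (hs : s ∈ V) [IsSeparated f] [QuasiCompact f] [Coh.IsQCoh F]

theorem Dat.isUnit_residue {a : Γ(S, V)} (ha : s ∈ S.basicOpen a) :
    IsUnit (algebraMap Γ(S, V) (D.idl hs).ResidueField a) :=
  isUnit_iff_ne_zero.2 fun h0 => (D.notMem_idl_iff hs a).2 ha (Ideal.algebraMap_residueField_eq_zero.1 h0)

theorem Dat.surjAt_of_good {a : Γ(S, V)} {n : ℕ} (ha : s ∈ S.basicOpen a) (h : D.L.Good a n) : D.SurjAt hs n :=
  (h.bcBij _ (D.isUnit_residue hs ha)).1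

theorem Dat.exists_good {n : ℕ} (h : D.SurjAt hs n) : ∃ a : Γ(S, V), s ∈ S.basicOpen a ∧ D.L.Good a n := by
  obtain ⟨a, ha, hg⟩ := D.L.exists_good_of_bcSurj (D.idl hs) n h
  exact ⟨a, (D.notMem_idl_iff hs a).1 ha, hg⟩

include hs in
theorem Dat.exists_vanish {n : ℕ} (h : Subsingleton (CohIII.fiberH f F s n)) :
    ∃ a : Γ(S, V), s ∈ S.basicOpen a ∧ D.L.Good a n ∧ D.L.Split a n ∧
      ∀ x : ↥(LinearMap.ker (D.L.d n)), a • x.1 ∈ D.L.bd n := by
  obtain ⟨a, ha, h1, h2, h3⟩ := D.L.exists_split_of_vanish (D.idl hs) n ((D.subsingleton_fiberH_iff hs n).1 h)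
  exact ⟨a, (D.notMem_idl_iff hs a).1 ha, h1, h2, h3⟩

theorem Dat.subsingleton_fiberH {a : Γ(S, V)} {n : ℕ} (ha : s ∈ S.basicOpen a) (hg : D.L.Good a n)
    (hk : ∀ x : ↥(LinearMap.ker (D.L.d n)), a • x.1 ∈ D.L.bd n) : Subsingleton (CohIII.fiberH f F s n) :=
  (D.subsingleton_fiberH_iff (S.basicOpen_le a ha) n).2
    (D.L.zBC_le_of_kills hg hk (D.isUnit_residue _ ha) (D.isUnit_residue _ ha))

theorem Dat.exists_good_of_large (D : Dat f F V) :
    ∃ N : ℕ, ∀ n, N ≤ n → D.L.Good (1 : Γ(S, V)) n := by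
  obtain ⟨N, hN⟩ := D.bdd
  refine ⟨N, fun n hn => ?_⟩
  haveI := hN (n + 1) (by omega)
  exact ⟨0, fun x => Subsingleton.elim _ _⟩

theorem Dat.continuous_prime (D : Dat f F V) : Continuous fun v : V => D.hV.primeIdealOf v :=
  D.hV.isoSpec.hom.continuous

/-- Fibre dimensions are constant near a point which is good in two neighbouring degrees. -/
theorem Dat.eventually_fiberRank {a : Γ(S, V)} {n : ℕ} (ha : s ∈ S.basicOpen a) (hg : D.L.Good a n)
    (hsp : D.L.Split a n) :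
    ∀ᶠ v in nhds s, CohIII.fiberRank f F n v = CohIII.fiberRank f F n s := by
  have hs : s ∈ V := S.basicOpen_le a ha
  have h := D.L.eventually_kdim_eq hg hsp (x := D.hV.primeIdealOf ⟨s, hs⟩) ((D.notMem_idl_iff hs a).2 ha)
  have h2 := (D.continuous_prime.tendsto ⟨s, hs⟩).eventually h
  rw [← V.2.nhdsWithin_eq hs, eventually_nhdsWithin_iff]
  have h3 := (eventually_nhds_subtype_iff (V : Set S) ⟨s, hs⟩ (fun v => ∀ hv : v ∈ V,
    FlatCx.kdim (D.L.δ n) (D.hV.primeIdealOf ⟨v, hv⟩).asIdeal.ResidueField =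
      FlatCx.kdim (D.L.δ n) (D.hV.primeIdealOf ⟨s, hs⟩).asIdeal.ResidueField)).1 (h2.mono fun v hv _ => hv)
  rw [nhdsWithin, Filter.eventually_inf_principal] at h3
  refine h3.mono fun v hv hvV => ?_
  rw [D.fiberRank_eq hvV n, D.fiberRank_eq hs n]
  exact hv hvV hvV

include hs in
/-- Constant fibre dimensions over a reduced base: good in two degrees. -/
theorem Dat.exists_good_of_fiberRank [IsReduced S] {n : ℕ}
    (h : ∀ᶠ v in nhds s, CohIII.fiberRank f F n v = CohIII.fiberRank f F n s) :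
    ∃ a : Γ(S, V), s ∈ S.basicOpen a ∧ D.L.Good a n ∧ D.L.Split a n := by
  haveI : _root_.IsReduced Γ(S, V) := IsReduced.component_reduced V
  have he := D.hV.fromSpec.continuous.tendsto (D.hV.primeIdealOf ⟨s, hs⟩)
  rw [D.hV.fromSpec_primeIdealOf] at he
  obtain ⟨a, ha, hg, hsp⟩ := D.L.exists_split_of_kdim_const (n := n) (D.hV.primeIdealOf ⟨s, hs⟩) (by
    refine (he.eventually h).mono fun y hy => ?_
    have hyV : D.hV.fromSpec y ∈ V := by
      have : D.hV.fromSpec y ∈ Set.range D.hV.fromSpec := ⟨_, rfl⟩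
      rwa [D.hV.range_fromSpec] at this
    have hP : D.hV.primeIdealOf ⟨_, hyV⟩ = y :=
      D.hV.fromSpec.isOpenEmbedding.injective (D.hV.fromSpec_primeIdealOf ⟨_, hyV⟩)
    rw [D.fiberRank_eq hyV n, D.fiberRank_eq hs n] at hy
    have key : ∀ (z : PrimeSpectrum Γ(S, V)) (c : ℕ), z = y →
        FlatCx.kdim (D.L.δ n) z.asIdeal.ResidueField = c → FlatCx.kdim (D.L.δ n) y.asIdeal.ResidueField = c := by
      rintro z c rfl h
      exact h
    exact key _ _ hP hy)
  exact ⟨a, (D.notMem_idl_iff hs a).1 ha, hg, hsp⟩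

end Groth.Agent.GenBCLib
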