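import Groth.Agent.GenBCLib.BCMain
import Groth.Agent.PullbackMod.Hom

/-!
# Composition of base change squares
-/

set_option autoImplicit false
set_option backward.isDefEq.respectTransparency false
set_option backward.defeqAttrib.useBackward true
set_option linter.style.haveILetI false
set_option linter.unusedSectionVars false

universe u

open CategoryTheory CategoryTheory.Limits AlgebraicGeometry TopologicalSpace Opposite
open Groth.Agent.CohBase Groth.Agent.CohCmpLib Groth.Agent.PullbackMod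

noncomputable section

namespace Groth.Agent.GenBCLib

theorem pullMap_comp_res {X Y Z : Scheme.{u}} (f : X ⟶ Y) (g : Y ⟶ Z) (M : Z.Modules) {W : Z.Opens} {W' : Y.Opens}
    {W'' T : X.Opens} (e₁ : W' ≤ g ⁻¹ᵁ W) (e₂ : W'' ≤ f ⁻¹ᵁ W') (i : T ≤ W'') (e₃ : T ≤ (f ≫ g) ⁻¹ᵁ W) (s : Γ(M, W)) :
    ((Scheme.Modules.pullback (f ≫ g)).obj M).presheaf.map (homOfLE i).op
        (((Scheme.Modules.pullbackComp f g).hom.app M).app W'' (pullMap f _ e₂ (pullMap g M e₁ s))) =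
      pullMap (f ≫ g) M e₃ s := by
  rw [pullMap_comp f g M e₁ e₂ (e₂.trans (f.preimage_mono e₁)) s]
  exact Groth.Agent.CohBase.restr_trans _ _ _ _

theorem comp_resLE_base {X Y Z : Scheme.{u}} (f : X ⟶ Y) (g : Y ⟶ Z) {U : Z.Opens} {U' : Y.Opens} {U'' : X.Opens}
    (h₁ : U' ≤ g ⁻¹ᵁ U) (h₂ : U'' ≤ f ⁻¹ᵁ U') (h₃ : U'' ≤ (f ≫ g) ⁻¹ᵁ U) :
    (f.resLE U' U'' h₂).base ≫ (g.resLE U U' h₁).base = ((f ≫ g).resLE U U'' h₃).base := by
  rw [← Scheme.Hom.comp_base, Scheme.Hom.resLE_comp_resLE]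

theorem onAb_comp_app {X Y Z : Scheme.{u}} (f : X ⟶ Y) (g : Y ⟶ Z) {U : Z.Opens} {U' : Y.Opens} {U'' : X.Opens}
    (h₁ : U' ≤ g ⁻¹ᵁ U) (h₂ : U'' ≤ f ⁻¹ᵁ U') (h₃ : U'' ≤ (f ≫ g) ⁻¹ᵁ U) (F : Z.Modules)
    (W : U.toScheme.Opens) (s : Γ(F, U.ι ''ᵁ W))
    (i : (f ≫ g).resLE U U'' h₃ ⁻¹ᵁ W ≤ f.resLE U' U'' h₂ ⁻¹ᵁ (g.resLE U U' h₁ ⁻¹ᵁ W)) :
    ((Scheme.Modules.pullback (f ≫ g)).obj F).presheaf.map (homOfLE (U''.ι.image_mono i)).op
      (((Scheme.Modules.pullbackComp f g).hom.app F).app (U''.ι ''ᵁ (f.resLE U' U'' h₂ ⁻¹ᵁ (g.resLE U U' h₁ ⁻¹ᵁ W)))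
        ((onAb f U' U'' h₂ ((Scheme.Modules.pullback g).obj F)).hom.app (op (g.resLE U U' h₁ ⁻¹ᵁ W))
          ((onAb g U U' h₁ F).hom.app (op W) s))) = (onAb (f ≫ g) U U'' h₃ F).hom.app (op W) s :=
  ((congrArg (fun t => ((Scheme.Modules.pullback (f ≫ g)).obj F).presheaf.map (homOfLE (U''.ι.image_mono i)).op
      (((Scheme.Modules.pullbackComp f g).hom.app F).app (U''.ι ''ᵁ (f.resLE U' U'' h₂ ⁻¹ᵁ (g.resLE U U' h₁ ⁻¹ᵁ W))) t))
    ((congrArg ((onAb f U' U'' h₂ ((Scheme.Modules.pullback g).obj F)).hom.app (op (g.resLE U U' h₁ ⁻¹ᵁ W)))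
      (onAb_app g U U' h₁ F W s)).trans
      (onAb_app f U' U'' h₂ ((Scheme.Modules.pullback g).obj F) (g.resLE U U' h₁ ⁻¹ᵁ W) _))).trans
    (pullMap_comp_res f g F _ _ _ (pullOn_le (f ≫ g) U U'' h₃ (W := W) le_rfl) s)).trans
    (onAb_app (f ≫ g) U U'' h₃ F W s).symm

/-- Composition of pullbacks of classes over opens. -/
theorem pullOn_pullOn {X Y Z : Scheme.{u}} (f : X ⟶ Y) (g : Y ⟶ Z) {U : Z.Opens} {U' : Y.Opens} {U'' : X.Opens}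
    (h₁ : U' ≤ g ⁻¹ᵁ U) (h₂ : U'' ≤ f ⁻¹ᵁ U') (h₃ : U'' ≤ (f ≫ g) ⁻¹ᵁ U) (F : Z.Modules) (p : ℕ)
    (x : Coh.HHon Z F U p) :
    CohPull.mapH ((Scheme.Modules.restrictFunctor U''.ι).map ((Scheme.Modules.pullbackComp f g).hom.app F)) p
        (CohPull.pullOn f U' U'' h₂ ((Scheme.Modules.pullback g).obj F) p (CohPull.pullOn g U U' h₁ F p x)) =
      CohPull.pullOn (f ≫ g) U U'' h₃ F p x := by
  rw [pullOn_eq, pullOn_eq, pullOn_eq]
  refine (pullH_map (f.resLE U' U'' h₂).base _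
    ((CohCmp.toAbOn X U'').map ((Scheme.Modules.pullbackComp f g).hom.app F)) p _).trans ?_
  refine (pullH_pullH (f.resLE U' U'' h₂).base (g.resLE U U' h₁).base _ _ p x).trans ?_
  exact pullH_congr (comp_resLE_base f g h₁ h₂ h₃) _ _
    (compOver_eq _ _ (comp_resLE_base f g h₁ h₂ h₃) _ _ _ (fun W s i => onAb_comp_app f g h₁ h₂ h₃ F W s i)) p x

theorem resLE_class {X S X' S' : Scheme.{u}} {f : X ⟶ S} {g : S' ⟶ S} {f' : X' ⟶ S'} {g' : X' ⟶ X}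
    (w : g' ≫ f = f' ≫ g) {V : S.Opens} {V' : S'.Opens} (e : V' ≤ g ⁻¹ᵁ V) (F : X.Modules) (p : ℕ)
    (x : Coh.HHon X F (f ⁻¹ᵁ V) p) :
    CohPull.resLE ((Scheme.Modules.pullback g').obj F) (f'.preimage_mono e) p
        (CohPull.pullOn g' (f ⁻¹ᵁ V) (f' ⁻¹ᵁ (g ⁻¹ᵁ V)) (CohCmp.sqLE f g f' g' w V) F p x) =
      CohPull.pullOn g' (f ⁻¹ᵁ V) (f' ⁻¹ᵁ V') ((f'.preimage_mono e).trans (CohCmp.sqLE f g f' g' w V)) F p x :=
  resLE_pullOn g' (f ⁻¹ᵁ V) (CohCmp.sqLE f g f' g' w V) (f'.preimage_mono e) F p x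

/-- Classes over the opens of a square, pulled back and then restricted. -/
theorem eps_bc_class {X S X' S' : Scheme.{u}} {f : X ⟶ S} {g : S' ⟶ S} {f' : X' ⟶ S'} {g' : X' ⟶ X}
    {w : g' ≫ f = f' ≫ g} [HasInjectiveResolutions X.Modules] [HasInjectiveResolutions X'.Modules]
    {Δ : RDer.DerivedLES (Scheme.Modules.pushforward f)} {Δ' : RDer.DerivedLES (Scheme.Modules.pushforward f')}
    {E : CohCmp.SectCmp f Δ} {E' : CohCmp.SectCmp f' Δ'} (B : CohCmp.GenBC f g f' g' w E E')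
    (F : X.Modules) (p : ℕ) {V : S.Opens} {V' : S'.Opens} (e : V' ≤ g ⁻¹ᵁ V)
    (x : Coh.HHon X F (f ⁻¹ᵁ V) p) :
    (B.bc p F).app V' (pullMap g ((Coh.Rpush f p).obj F) e (E.ε V F p x)) =
      E'.ε V' ((Scheme.Modules.pullback g').obj F) p
        (CohPull.pullOn g' (f ⁻¹ᵁ V) (f' ⁻¹ᵁ V') ((f'.preimage_mono e).trans (CohCmp.sqLE f g f' g' w V)) F p x) := by
  refine (transpose_pullMap' g (B.φ p F) e _ _ (B.compat V F p x)).trans ?_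
  exact eps_res_eq f' E' p _ e _ _ (resLE_class w e F p x)

/-- Maps out of an inverse image agree if they agree on inverse images of sections that are locally of a given form. -/
theorem pullback_hom_ext {U W : Scheme.{u}} (k : U ⟶ W) {M : W.Modules} {N : U.Modules}
    {a b : (Scheme.Modules.pullback k).obj M ⟶ N}
    (h : ∀ (O : W.Opens) (m : Γ(M, O)), ∀ y ∈ O, ∃ (O' : W.Opens) (hO : O' ≤ O), y ∈ O' ∧
      a.app (k ⁻¹ᵁ O') (pullMap k M (le_refl (k ⁻¹ᵁ O')) (M.presheaf.map (homOfLE hO).op m)) =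
        b.app (k ⁻¹ᵁ O') (pullMap k M (le_refl (k ⁻¹ᵁ O')) (M.presheaf.map (homOfLE hO).op m))) :
    a = b := by
  apply ((Scheme.Modules.pullbackPushforwardAdjunction k).homEquiv M N).injective
  ext O m
  choose O' hO hy hab using h O m
  refine TopCat.Sheaf.eq_of_locally_eq' (Coh.toAb ((Scheme.Modules.pushforward k).obj N)) (fun y : O => O' y.1 y.2) O
    (fun y => homOfLE (hO y.1 y.2)) (fun y hy' => Opens.mem_iSup.2 ⟨⟨y, hy'⟩, hy y hy'⟩) _ _ fun y => ?_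
  have key : ∀ c : (Scheme.Modules.pullback k).obj M ⟶ N,
      ((Scheme.Modules.pushforward k).obj N).presheaf.map (homOfLE (hO y.1 y.2)).op
          (((Scheme.Modules.pullbackPushforwardAdjunction k).homEquiv M N c).app O m) =
        c.app (k ⁻¹ᵁ O' y.1 y.2)
          (pullMap k M (le_refl _) (M.presheaf.map (homOfLE (hO y.1 y.2)).op m)) := fun c => by
    refine (appRes _ (hO y.1 y.2) m).symm.trans ?_
    rw [Adjunction.homEquiv_unit]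
    exact congrArg (c.app _) (Groth.Agent.CohBase.restr_self _ _ _).symm
  exact (key a).trans ((hab y.1 y.2).trans (key b).symm)

variable {X Y Z U V W : Scheme.{u}} (f : X ⟶ Y) (g : Y ⟶ Z) (ξ : X ⟶ U) (η : Y ⟶ V) (ζ : Z ⟶ W)
  (φ : U ⟶ V) (ψ : V ⟶ W) (w₁ : f ≫ η = ξ ≫ φ) (w₂ : g ≫ ζ = η ≫ ψ) (hw : (f ≫ g) ≫ ζ = ξ ≫ (φ ≫ ψ))
  [HasInjectiveResolutions X.Modules] [HasInjectiveResolutions Y.Modules] [HasInjectiveResolutions Z.Modules]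
  {Δζ : RDer.DerivedLES (Scheme.Modules.pushforward ζ)} {Δη : RDer.DerivedLES (Scheme.Modules.pushforward η)} {Δξ : RDer.DerivedLES (Scheme.Modules.pushforward ξ)}
  {Eζ : CohCmp.SectCmp ζ Δζ} {Eη : CohCmp.SectCmp η Δη} {Eξ : CohCmp.SectCmp ξ Δξ}
  (B₂ : CohCmp.GenBC ζ ψ η g w₂ Eζ Eη) (B₁ : CohCmp.GenBC η φ ξ f w₁ Eη Eξ)
  (B : CohCmp.GenBC ζ (φ ≫ ψ) ξ (f ≫ g) hw Eζ Eξ)

include B₂ B₁ B in
theorem comp_on_class (L : Z.Modules) (p : ℕ) (O : W.Opens) (x : Coh.HHon Z L (ζ ⁻¹ᵁ O) p) :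
    (B.bc p L).app ((φ ≫ ψ) ⁻¹ᵁ O)
        (pullMap (φ ≫ ψ) ((Coh.Rpush ζ p).obj L) le_rfl (Eζ.ε O L p x)) =
      ((Scheme.Modules.pullbackComp φ ψ).inv.app ((Coh.Rpush ζ p).obj L) ≫ (Scheme.Modules.pullback φ).map (B₂.bc p L) ≫
        B₁.bc p ((Scheme.Modules.pullback g).obj L) ≫ (Coh.Rpush ξ p).map ((Scheme.Modules.pullbackComp f g).hom.app L)).app ((φ ≫ ψ) ⁻¹ᵁ O)
        (pullMap (φ ≫ ψ) ((Coh.Rpush ζ p).obj L) le_rfl (Eζ.ε O L p x)) := by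
  let M := (Coh.Rpush ζ p).obj L
  have h0 : ((Scheme.Modules.pullbackComp φ ψ).inv.app M).app ((φ ≫ ψ) ⁻¹ᵁ O) (pullMap (φ ≫ ψ) M le_rfl (Eζ.ε O L p x)) =
      pullMap φ _ (le_refl (φ ⁻¹ᵁ (ψ ⁻¹ᵁ O))) (pullMap ψ M (le_refl (ψ ⁻¹ᵁ O)) (Eζ.ε O L p x)) := by
    refine (congrArg (((Scheme.Modules.pullbackComp φ ψ).inv.app M).app ((φ ≫ ψ) ⁻¹ᵁ O))
      (pullMap_comp φ ψ M (le_refl (ψ ⁻¹ᵁ O)) (le_refl (φ ⁻¹ᵁ (ψ ⁻¹ᵁ O))) le_rfl _).symm).trans ?_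
    exact congr($((Scheme.Modules.pullbackComp φ ψ).hom_inv_id_app M).app _ _)
  rw [eps_bc_class B L p]
  simp only [Scheme.Modules.Hom.comp_app, ConcreteCategory.comp_apply]
  erw [h0, pullMap_natural, eps_bc_class B₂ L p, eps_bc_class B₁ ((Scheme.Modules.pullback g).obj L) p]
  refine Eq.trans ?_ (Eξ.natural _ ((Scheme.Modules.pullbackComp f g).hom.app L) p _)
  exact congrArg (Eξ.ε _ _ p) (pullOn_pullOn f g _ _ _ L p x).symm

include B₂ B₁ B in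
/-- The base change maps of adjacent squares compose. -/
theorem comp_horizontal (L : Z.Modules) (p : ℕ) :
    (Scheme.Modules.pullbackComp φ ψ).hom.app ((Coh.Rpush ζ p).obj L) ≫ B.bc p L =
      (Scheme.Modules.pullback φ).map (B₂.bc p L) ≫ B₁.bc p ((Scheme.Modules.pullback g).obj L) ≫
        (Coh.Rpush ξ p).map ((Scheme.Modules.pullbackComp f g).hom.app L) := by
  have key : B.bc p L = (Scheme.Modules.pullbackComp φ ψ).inv.app ((Coh.Rpush ζ p).obj L) ≫ (Scheme.Modules.pullback φ).map (B₂.bc p L) ≫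
      B₁.bc p ((Scheme.Modules.pullback g).obj L) ≫ (Coh.Rpush ξ p).map ((Scheme.Modules.pullbackComp f g).hom.app L) := by
    refine pullback_hom_ext (φ ≫ ψ) fun O m y hy => ?_
    obtain ⟨O', hO, hyO, x, hx⟩ := exists_eps_eq ζ Eζ L p O m y hy
    refine ⟨O', hO, hyO, ?_⟩
    rw [← hx]
    exact comp_on_class f g ξ η ζ φ ψ w₁ w₂ hw B₂ B₁ B L p O' x
  rw [key, ← Category.assoc, Iso.hom_inv_id_app, Category.id_comp]

end Groth.Agent.GenBCLib
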