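import Groth.Agent.GenBCLib.DatBC

/-!
# The condition on a point cutting out rank and base change of the direct image
-/

set_option autoImplicit false
set_option backward.isDefEq.respectTransparency false
set_option backward.defeqAttrib.useBackward true
set_option linter.style.haveILetI false
set_option linter.unusedSectionVars false
set_option maxHeartbeats 1000000

universe u

open CategoryTheory CategoryTheory.Limits AlgebraicGeometry TopologicalSpace Opposite TensorProduct
open Groth.Agent.CohBase Groth.Agent.BCLib Groth.Agent.PullbackMod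

noncomputable section

namespace Groth.Agent.GenBCLib

theorem finrank_tensor_prod {A : Type u} [CommRing A] (K : Type u) [Field K] [Algebra A K] (M N : Type u)
    [AddCommGroup M] [Module A M] [AddCommGroup N] [Module A N] [Module.Finite A M] [Module.Finite A N] :
    Module.finrank K (K ⊗[A] (M × N)) = Module.finrank K (K ⊗[A] M) + Module.finrank K (K ⊗[A] N) := by
  rw [(TensorProduct.prodRight A K K M N).finrank_eq, Module.finrank_prod]

theorem finrank_rkMod {A : Type u} [CommRing A] (L : Cx A) [∀ n, Module.Finite A (L.X n)]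
    (P : Type u) [AddCommGroup P] [Module A P] [Module.Finite A P] (N : ℕ) (e : (L.X 1 × P) ≃ₗ[A] (Fin N → A))
    (B : Type u) [CommRing B] [Algebra A B] (K : Type u) [Field K] [Algebra A K] [Algebra B K] [IsScalarTower A B K] :
    Module.finrank K (K ⊗[A] (L.Coker1 × (L.X 0 × P))) = FlatCx.kdim ((L.bcX B).δ 0) K + N := by
  haveI : ∀ n, Module.Finite B ((L.bcX B).X n) := fun n => inferInstanceAs (Module.Finite B (B ⊗[A] L.X n))
  have h := (L.bcX B).kdim_add K
  have hx : ∀ n, Module.finrank K (K ⊗[B] (L.bcX B).X n) = Module.finrank K (K ⊗[A] L.X n) := fun n =>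
    (TensorProduct.AlgebraTensorModule.cancelBaseChange A B K K (L.X n)).finrank_eq
  have hc : Module.finrank K (K ⊗[B] (L.bcX B).Coker1) = Module.finrank K (K ⊗[A] L.Coker1) :=
    (LinearEquiv.baseChange B K _ _ (L.coker1BC B) ≪≫ₗ
      TensorProduct.AlgebraTensorModule.cancelBaseChange A B K K L.Coker1).finrank_eq
  rw [hx, hx, hc] at h
  haveI : Nontrivial A := (algebraMap A K).domain_nontrivial
  have hN : Module.finrank K (K ⊗[A] L.X 1) + Module.finrank K (K ⊗[A] P) = N := by
    rw [← finrank_tensor_prod, (LinearEquiv.baseChange A K _ _ e).finrank_eq, Module.finrank_baseChange,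
      Module.finrank_fin_fun]
  rw [finrank_tensor_prod, finrank_tensor_prod]
  omega

theorem finrank_rkMod₀ {A : Type u} [CommRing A] (L : Cx A) [∀ n, Module.Finite A (L.X n)]
    (P : Type u) [AddCommGroup P] [Module A P] [Module.Finite A P] (N : ℕ) (e : (L.X 1 × P) ≃ₗ[A] (Fin N → A))
    (K : Type u) [Field K] [Algebra A K] :
    Module.finrank K (K ⊗[A] (L.Coker1 × (L.X 0 × P))) = FlatCx.kdim (L.δ 0) K + N := by
  have h := L.kdim_add K
  haveI : Nontrivial A := (algebraMap A K).domain_nontrivial
  have hN : Module.finrank K (K ⊗[A] L.X 1) + Module.finrank K (K ⊗[A] P) = N := by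
    rw [← finrank_tensor_prod, (LinearEquiv.baseChange A K _ _ e).finrank_eq, Module.finrank_baseChange,
      Module.finrank_fin_fun]
  rw [finrank_tensor_prod, finrank_tensor_prod]
  omega

theorem projective_rkMod_iff {A : Type u} [CommRing A] (L : Cx A) (Q : Type u) [AddCommGroup Q] [Module A Q]
    [Module.Projective A Q] (B C : Type u) [CommRing B] [CommRing C] [Algebra A B] [Algebra A C] [Algebra B C]
    [IsScalarTower A B C] :
    Module.Projective C (C ⊗[B] (B ⊗[A] (L.Coker1 × Q))) ↔ Module.Projective C (C ⊗[B] (L.bcX B).Coker1) := by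
  let e1 := TensorProduct.AlgebraTensorModule.cancelBaseChange A B C C (L.Coker1 × Q)
  let e2 := LinearEquiv.baseChange B C _ _ (L.coker1BC B) ≪≫ₗ
    TensorProduct.AlgebraTensorModule.cancelBaseChange A B C C L.Coker1
  refine Iff.trans ⟨fun h => Module.Projective.of_equiv e1, fun h => Module.Projective.of_equiv e1.symm⟩ ?_
  refine (projective_tensor_prod_iff C Q).trans ?_
  exact ⟨fun h => Module.Projective.of_equiv e2.symm, fun h => Module.Projective.of_equiv e2⟩

variable {X S : Scheme.{u}} {f : X ⟶ S} {F : X.Modules} {V : S.Opens} (D : Dat f F V)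

/-- The free rank of the ambient of the first term. -/
def Dat.rkN : ℕ := (exists_complement (A := Γ(S, V)) (D.L.X 1)).choose

/-- The complement of the first term. -/
def Dat.rkP : Submodule Γ(S, V) (Fin D.rkN → Γ(S, V)) :=
  (exists_complement (A := Γ(S, V)) (D.L.X 1)).choose_spec.choose

theorem Dat.rkP_spec : Module.Finite Γ(S, V) D.rkP ∧ Module.Projective Γ(S, V) D.rkP ∧
    Nonempty ((D.L.X 1 × D.rkP) ≃ₗ[Γ(S, V)] (Fin D.rkN → Γ(S, V))) :=
  (exists_complement (A := Γ(S, V)) (D.L.X 1)).choose_spec.choose_spec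

instance : Module.Finite Γ(S, V) D.rkP := D.rkP_spec.1
instance : Module.Projective Γ(S, V) D.rkP := D.rkP_spec.2.1

/-- The module whose rank strata are those of the direct image. -/
abbrev Dat.RkMod : Type u := D.L.Coker1 × (D.L.X 0 × D.rkP)

instance : Module.FinitePresentation Γ(S, V) D.RkMod := by
  haveI : Module.FinitePresentation Γ(S, V) (D.L.X 0 × D.rkP) := Module.finitePresentation_of_projective _ _
  haveI : Module.FinitePresentation Γ(S, V) D.L.Coker1 := D.L.finitePresentation_quot_bd 1
  infer_instance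

/-- The condition at a point. -/
def Dat.Cond (r : ℕ) {T : Scheme.{u}} (u : T ⟶ S) (t : T) (ht : u t ∈ V) : Prop :=
  letI : Algebra Γ(S, V) (T.presheaf.stalk t) := (S.presheaf.germ V (u t) ht ≫ u.stalkMap t).hom.toAlgebra
  FreeRk Γ(S, V) D.RkMod (T.presheaf.stalk t) (r + D.rkN)

/-- The direct image is free of rank `r` at the point and base change holds near it. -/
def PtGood {XT T : Scheme.{u}} (fT : XT ⟶ T) (G : XT.Modules) (r : ℕ) (t : T) : Prop :=
  GoodNear fT G 0 t ∧ FreeAt r ((Scheme.Modules.pushforward fT).obj G) t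

theorem Dat.surjAt_of_goodNear [IsSeparated f] [QuasiCompact f] [Coh.IsQCoh F] {s : S} (hs : s ∈ V)
    (hg : GoodNear f F 0 s) : D.SurjAt hs 0 := by
  haveI : IsSeparated (f.fiberToSpecResidueField s) :=
    inferInstanceAs (IsSeparated (pullback.snd f (S.fromSpecResidueField s)))
  haveI : QuasiCompact (f.fiberToSpecResidueField s) :=
    inferInstanceAs (QuasiCompact (pullback.snd f (S.fromSpecResidueField s)))
  haveI : Coh.IsQCoh ((Scheme.Modules.pullback (f.fiberι s)).obj F) := PullbackMod.isQCoh_pullback _ F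
  have h : IsPullback (f.fiberι s) (f.fiberToSpecResidueField s) f (S.fromSpecResidueField s) :=
    IsPullback.of_hasPullback f (S.fromSpecResidueField s)
  haveI := isIso_bc0 h F (fun z => by
    rwa [show S.fromSpecResidueField s z = s from Scheme.fromSpecResidueField_apply s z])
  exact (D.epi_bc0_iff_surjAt hs).1 inferInstance

/-- The condition detects freeness and base change at the point. -/
theorem Dat.ptGood_iff_cond [IsSeparated f] [QuasiCompact f] [Coh.IsQCoh F] (r : ℕ) {XT T : Scheme.{u}}
    {fT : XT ⟶ T} {gT : XT ⟶ X} {u : T ⟶ S} (h : IsPullback gT fT f u) (t : T) (ht : u t ∈ V) :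
    PtGood fT ((Scheme.Modules.pullback gT).obj F) r t ↔ D.Cond r u t ht := by
  haveI : IsSeparated fT := MorphismProperty.of_isPullback (P := @IsSeparated) h inferInstance
  haveI : QuasiCompact fT := MorphismProperty.of_isPullback (P := @QuasiCompact) h inferInstance
  let G := (Scheme.Modules.pullback gT).obj F
  haveI : Coh.IsQCoh G := PullbackMod.isQCoh_pullback _ F
  obtain ⟨_, ⟨W : T.Opens, (hW : IsAffineOpen W), rfl⟩, htW, hWV⟩ :=
    T.isBasis_affineOpens.exists_subset_of_mem_open (a := t) (u := ↑(u ⁻¹ᵁ V)) ht (u ⁻¹ᵁ V).2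
  let D' := D.baseChange h hW hWV
  let B := Γ(T, W)
  let O := T.presheaf.stalk t
  letI : Algebra Γ(S, V) B := (u.appLE V W hWV).hom.toAlgebra
  letI : Algebra B O := TopCat.Presheaf.algebra_section_stalk T.presheaf ⟨t, htW⟩
  letI : Algebra Γ(S, V) O := (S.presheaf.germ V (u t) ht ≫ u.stalkMap t).hom.toAlgebra
  haveI : IsScalarTower Γ(S, V) B O := .of_algebraMap_eq fun a => by
    show (u.stalkMap t) (S.presheaf.germ V (u t) ht a) = T.presheaf.germ W t htW (u.appLE V W hWV a)
    rw [Scheme.Hom.germ_stalkMap_apply]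
    exact (TopCat.Presheaf.germ_res_apply T.presheaf (homOfLE hWV) t htW _).symm
  let q : Ideal B := D'.idl htW
  haveI : IsLocalization.AtPrime O q := hW.isLocalization_stalk ⟨t, htW⟩
  have hL : D'.L = D.L.bcX B := rfl
  have hproj : ∀ a : B, Module.Projective (Localization.Away a) (Localization.Away a ⊗[B] (B ⊗[Γ(S, V)] D.RkMod)) ↔
      Module.Projective (Localization.Away a) (Localization.Away a ⊗[B] D'.L.Coker1) := fun a =>
    projective_rkMod_iff D.L (D.L.X 0 × D.rkP) B (Localization.Away a)
  have hdim : Module.finrank q.ResidueField (q.ResidueField ⊗[Γ(S, V)] D.RkMod) =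
      CohIII.fiberRank fT G 0 t + D.rkN :=
    (finrank_rkMod D.L D.rkP D.rkN D.rkP_spec.2.2.some B q.ResidueField).trans
      (congrArg (· + D.rkN) (D'.fiberRank_eq htW 0).symm)
  show _ ↔ FreeRk Γ(S, V) D.RkMod O (r + D.rkN)
  rw [freeRk_atPrime_iff q O, hdim]
  constructor
  · rintro ⟨hg, hf⟩
    obtain ⟨a, ha, hga⟩ := D'.exists_good htW (D'.surjAt_of_goodNear htW hg)
    refine ⟨⟨a, (D'.notMem_idl_iff htW a).2 ha, (hproj a).2 (D'.projective_away_coker hga)⟩, ?_⟩
    rw [freeAt_unique _ (D'.freeAt_of_good ha hga) hf]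
  · rintro ⟨⟨a, ha, hp⟩, hr⟩
    obtain ⟨k, hk⟩ := D'.exists_good_of_projective_away a ((hproj a).1 hp)
    have hak : t ∈ T.basicOpen (a ^ k) :=
      (D'.notMem_idl_iff htW _).1 fun hm => ha ((inferInstance : q.IsPrime).mem_of_pow_mem k hm)
    refine ⟨⟨W, D', a ^ k, hak, hk⟩, ?_⟩
    rw [show r = CohIII.fiberRank fT G 0 t by omega]
    exact D'.freeAt_of_good hak hk

theorem Dat.fiberRank_eq_iff [IsSeparated f] [QuasiCompact f] [Coh.IsQCoh F] (r : ℕ) {s : S} (hs : s ∈ V) :
    letI := kAlg S hs
    CohIII.fiberRank f F 0 s = r ↔ FreeRk Γ(S, V) D.RkMod (S.residueField s) (r + D.rkN) := by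
  letI := kAlg S hs
  have h2 : Module.finrank (S.residueField s) (S.residueField s ⊗[Γ(S, V)] D.RkMod) =
      CohIII.fiberRank f F 0 s + D.rkN := by
    rw [finrank_rkMod₀ D.L D.rkP D.rkN D.rkP_spec.2.2.some (S.residueField s), D.fiberRank_eq hs 0,
      FlatCx.kdim_hom (S.residueField s) _ (D.resEquiv hs).symm.toAlgHom]
  refine ⟨fun h => ⟨(Module.finBasisOfFinrankEq (S.residueField s) _ (by rw [h2, h])).equivFun⟩, fun h => ?_⟩
  have h3 := h.finrank_eq
  rw [h2] at h3
  exact Nat.add_right_cancel h3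

end Groth.Agent.GenBCLib
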