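import Groth.Agent.GenBCLib.Near
import Groth.Agent.S12131

/-!
# The base change maps are isomorphisms where the complex is good
-/

set_option autoImplicit false
set_option backward.isDefEq.respectTransparency false
set_option backward.defeqAttrib.useBackward true
set_option linter.style.haveILetI false
set_option linter.unusedSectionVars false

universe u

open CategoryTheory CategoryTheory.Limits AlgebraicGeometry TopologicalSpace Opposite TensorProduct
open Groth.Agent.CohBase Groth.Agent.ProjCoh Groth.Agent.FormalLib Groth.Agent.BCLib Groth.Agent.RpushLib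

noncomputable section

namespace Groth.Agent.GenBCLib

variable {X S : Scheme.{u}} (f : X ⟶ S) [IsSeparated f] [QuasiCompact f] (F : X.Modules) [Coh.IsQCoh F]

/-- Base change holds near `s` in degree `n`. -/
def GoodNear (n : ℕ) (s : S) : Prop :=
  ∃ (V : S.Opens) (D : Dat f F V) (a : Γ(S, V)), s ∈ S.basicOpen a ∧ D.L.Good a n

theorem isUnit_appLE {S' : Scheme.{u}} (g : S' ⟶ S) {V : S.Opens} (a : Γ(S, V)) {V' : S'.Opens}
    (e' : V' ≤ g ⁻¹ᵁ S.basicOpen a) (e : V' ≤ g ⁻¹ᵁ V) : IsUnit (g.appLE V V' e a) := by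
  have h1 : IsUnit ((S.presheaf.map (homOfLE (S.basicOpen_le a)).op ≫ g.appLE (S.basicOpen a) V' e') a) :=
    (g.appLE (S.basicOpen a) V' e').hom.isUnit_map (S.toRingedSpace.isUnit_res_basicOpen a)
  rwa [Scheme.Hom.map_appLE] at h1

variable {f F} [HasInjectiveResolutions X.Modules] {Δ : RDer.DerivedLES (Scheme.Modules.pushforward f)}
  {E : CohCmp.SectCmp f Δ}

/-- Base change holds over the locus of good points. -/
theorem isIso_bc {X' S' : Scheme.{u}} {g : S' ⟶ S} {f' : X' ⟶ S'} {g' : X' ⟶ X} (h : IsPullback g' f' f g)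
    [HasInjectiveResolutions X'.Modules] {Δ' : RDer.DerivedLES (Scheme.Modules.pushforward f')}
    {E' : CohCmp.SectCmp f' Δ'} (Bc : CohCmp.GenBC f g f' g' h.w E E') (n : ℕ)
    (hU : ∀ z : S', GoodNear f F n (g z)) : IsIso (Bc.bc n F) := by
  haveI : IsSeparated f' := MorphismProperty.of_isPullback (P := @IsSeparated) h inferInstance
  haveI : QuasiCompact f' := MorphismProperty.of_isPullback (P := @QuasiCompact) h inferInstance
  haveI : Coh.IsQCoh ((Scheme.Modules.pullback g').obj F) := PullbackMod.isQCoh_pullback _ F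
  refine S12131.isIso_of_bijective_small _ fun z => ?_
  obtain ⟨V, D, a, hza, hg⟩ := hU z
  refine ⟨g ⁻¹ᵁ S.basicOpen a, hza, fun V' hV' hle => ?_⟩
  have e : V' ≤ g ⁻¹ᵁ V := hle.trans (g.preimage_mono (S.basicOpen_le a))
  haveI := isQCoh_restrict F (f ⁻¹ᵁ V)
  haveI := isQCoh_restrict ((Scheme.Modules.pullback g').obj F) (f' ⁻¹ᵁ V')
  obtain ⟨k1, k2⟩ := bc_app_criterion h Bc F D.hV hV' e D.W D.hcov D.haff n
  letI := (g.appLE V V' e).hom.toAlgebra
  obtain ⟨b1, b2⟩ := (D.ψ.bcBij_iff Γ(S', V') (D.bij _) (D.bij _) n).2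
    (hg.bcBij Γ(S', V') (isUnit_appLE g a hle e))
  exact ⟨k2.2 b2, k1.2 b1⟩

end Groth.Agent.GenBCLib
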