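import Groth.Agent.ZeroAcycLib.Discrete

/-!
# Local 0-acyclicity of morphisms that are flat and generically integrally closed after reduction

A chart `RedChartAt f x` consists of affine opens around `x` and `f x`, an ideal `n` of the base and an element `a` invertible at `f x`,
whose multiples kill `n` up to nilpotents,
such that over `(V / n)_a` the chart is flat and generically integrally closed.
-/

set_option autoImplicit false
set_option linter.unusedSectionVars false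
set_option linter.style.haveILetI false
set_option backward.isDefEq.respectTransparency false
set_option maxHeartbeats 1000000

universe u

open CategoryTheory CategoryTheory.Limits AlgebraicGeometry Opposite TensorProduct
open Groth.Agent.ZeroAcycLib

noncomputable section

namespace Groth.Agent.GenBCLib

/-- After a nil quotient and a localization of the base, `P` is flat and generically integrally closed. -/
def RedGood (V P : Type u) [CommRing V] [CommRing P] [Algebra V P] (n : Ideal V) (a : V) : Prop :=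
  (∀ v ∈ n, IsNilpotent (a * v)) ∧
    Module.Flat (Localization.Away (Ideal.Quotient.mk n a)) (Localization.Away (Ideal.Quotient.mk n a) ⊗[V] P) ∧
    GenClosed (Localization.Away (Ideal.Quotient.mk n a)) (Localization.Away (Ideal.Quotient.mk n a) ⊗[V] P)

/-- Some chart of `f` at `x` is good after a nil quotient and a localization of the base. -/
def RedChartAt {X S : Scheme.{u}} (f : X ⟶ S) (x : X) : Prop :=
  ∃ (U₀ : S.Opens) (W : X.Opens) (_ : IsAffineOpen U₀) (_ : IsAffineOpen W) (hWU : W ≤ f ⁻¹ᵁ U₀)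
    (n : Ideal Γ(S, U₀)) (a : Γ(S, U₀)), x ∈ W ∧ f x ∈ S.basicOpen a ∧
    letI := (f.appLE U₀ W hWU).hom.toAlgebra
    RedGood Γ(S, U₀) Γ(X, W) n a

/-- Base changes of a good chart are nil thickenings of flat generically closed algebras. -/
theorem exists_reduction {V P V₁ P₁ : Type u} [CommRing V] [CommRing P] [CommRing V₁] [CommRing P₁]
    [Algebra V P] [Algebra V V₁] [Algebra V₁ P₁] (e : V₁ ⊗[V] P ≃ₐ[V₁] P₁) {n : Ideal V} {a : V}
    (hn : RedGood V P n a) (ha : IsUnit (algebraMap V V₁ a)) :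
    ∃ I : Ideal V₁, (∀ v ∈ I, IsNilpotent v) ∧ Module.Flat (V₁ ⧸ I) ((V₁ ⧸ I) ⊗[V₁] P₁) ∧
      GenClosed (V₁ ⧸ I) ((V₁ ⧸ I) ⊗[V₁] P₁) := by
  obtain ⟨hnil, hflat, hgen⟩ := hn
  let I := n.map (algebraMap V V₁)
  let q : V ⧸ n →+* V₁ ⧸ I := Ideal.quotientMap I (algebraMap V V₁) Ideal.le_comap_map
  let B := Localization.Away (Ideal.Quotient.mk n a)
  have hu : IsUnit (q (Ideal.Quotient.mk n a)) := ha.map (Ideal.Quotient.mk I)
  let qB : B →+* V₁ ⧸ I := IsLocalization.Away.lift (Ideal.Quotient.mk n a) hu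
  letI : Algebra B (V₁ ⧸ I) := qB.toAlgebra
  haveI : IsScalarTower V B (V₁ ⧸ I) := IsScalarTower.of_algebraMap_eq fun v => by
    show Ideal.Quotient.mk I (algebraMap V V₁ v) = qB (algebraMap V B v)
    rw [IsScalarTower.algebraMap_apply V (V ⧸ n) B v]
    exact (IsLocalization.Away.lift_eq (Ideal.Quotient.mk n a) hu (Ideal.Quotient.mk n v)).symm
  let Q := B ⊗[V] P
  let e₁ : (V₁ ⧸ I) ⊗[B] Q ≃ₐ[V₁ ⧸ I] (V₁ ⧸ I) ⊗[V] P :=
    Algebra.TensorProduct.cancelBaseChange V B (V₁ ⧸ I) (V₁ ⧸ I) P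
  let e₂ : (V₁ ⧸ I) ⊗[V₁] (V₁ ⊗[V] P) ≃ₐ[V₁ ⧸ I] (V₁ ⧸ I) ⊗[V] P :=
    Algebra.TensorProduct.cancelBaseChange V V₁ (V₁ ⧸ I) (V₁ ⧸ I) P
  let e₃ : (V₁ ⧸ I) ⊗[V₁] (V₁ ⊗[V] P) ≃ₐ[V₁ ⧸ I] (V₁ ⧸ I) ⊗[V₁] P₁ :=
    Algebra.TensorProduct.congr AlgEquiv.refl e
  refine ⟨I, fun v hv => ?_, ?_, ?_⟩
  · exact mem_nilradical.1 (Ideal.map_le_iff_le_comap.2
      (fun w hw => Ideal.mem_comap.2 (mem_nilradical.2 (by
        obtain ⟨k, hk⟩ := (hnil w hw).map (algebraMap V V₁)
        rw [map_mul, mul_pow, (ha.pow k).mul_right_eq_zero] at hk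
        exact ⟨k, hk⟩))) hv)
  · haveI := hflat
    haveI : Module.Flat (V₁ ⧸ I) ((V₁ ⧸ I) ⊗[B] Q) := inferInstance
    exact Module.Flat.of_linearEquiv ((e₁.trans e₂.symm).trans e₃).toLinearEquiv.symm
  · exact hgen.baseChange.congr ((e₁.trans e₂.symm).trans e₃)

/-- Base changes of morphisms with good charts are locally 0-acyclic. -/
theorem isLocZeroAcyclic_of_redChart {X S X₁ S₁ : Scheme.{u}} {f : X ⟶ S} {g₁ : X₁ ⟶ S₁} {b' : X₁ ⟶ X}
    {b : S₁ ⟶ S} (hc : IsPullback b' g₁ f b) (h : ∀ x : X₁, RedChartAt f (b' x)) :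
    EtAcyc.IsLocZeroAcyclic g₁ := by
  intro x RS RX _ _ _ _ _ _ _ _ _ _ _ _ hψ
  obtain ⟨V₀, W, hV₀, hW, e, n, a, hxW, hxa, hgood⟩ := h x
  have hxa' : g₁ x ∈ b ⁻¹ᵁ S.basicOpen a := by
    show b (g₁ x) ∈ S.basicOpen a
    rwa [← Scheme.Hom.comp_apply, ← hc.w, Scheme.Hom.comp_apply]
  obtain ⟨V', hV', hxV', e'⟩ := exists_isAffineOpen_mem_and_subset (X := S₁) (U := b ⁻¹ᵁ S.basicOpen a) (x := g₁ x) hxa'
  have e'' : V' ≤ b ⁻¹ᵁ V₀ := fun z hz => S.basicOpen_le a (e' hz)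
  obtain ⟨hO, hpo⟩ := PullbackMod.isPushout_appLE hc hV₀ hW hV' e e''
  let O := b' ⁻¹ᵁ W ⊓ g₁ ⁻¹ᵁ V'
  have hxO : x ∈ O := ⟨hxW, hxV'⟩
  let V := Γ(S₁, V')
  let P := Γ(X₁, O)
  have hua : IsUnit ((b.appLE V₀ V' e'').hom a) := by
    have h1 : IsUnit ((S.presheaf.map (homOfLE (S.basicOpen_le a)).op).hom a) := by
      exact RingedSpace.isUnit_res_basicOpen _ a
    have h2 := h1.map (b.appLE (S.basicOpen a) V' e').hom
    rw [← CommRingCat.comp_apply, Scheme.Hom.map_appLE] at h2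
    exact h2
  letI : Algebra Γ(S, V₀) Γ(X, W) := (f.appLE V₀ W e).hom.toAlgebra
  letI : Algebra Γ(S, V₀) V := (b.appLE V₀ V' e'').hom.toAlgebra
  letI : Algebra Γ(X, W) P := (b'.appLE W O inf_le_left).hom.toAlgebra
  letI : Algebra V P := (g₁.appLE V' O inf_le_right).hom.toAlgebra
  letI : Algebra Γ(S, V₀) P := ((b'.appLE W O inf_le_left).hom.comp (f.appLE V₀ W e).hom).toAlgebra
  haveI : IsScalarTower Γ(S, V₀) Γ(X, W) P := .of_algebraMap_eq fun _ => rfl
  haveI : IsScalarTower Γ(S, V₀) V P := .of_algebraMap_eq' (by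
    show ((f.appLE V₀ W e) ≫ b'.appLE W O inf_le_left).hom = ((b.appLE V₀ V' e'') ≫ g₁.appLE V' O inf_le_right).hom
    simp only [Scheme.Hom.appLE_comp_appLE, hc.w])
  haveI : Algebra.IsPushout Γ(S, V₀) V Γ(X, W) P := hpo
  obtain ⟨I, hI, hflat, hgen⟩ := exists_reduction (Algebra.IsPushout.equiv Γ(S, V₀) V Γ(X, W) P) hgood hua
  haveI := hflat
  letI : Algebra V (S₁.presheaf.stalk (g₁.base x)) := (S₁.presheaf.germ V' (g₁.base x) hxV').hom.toAlgebra
  haveI : IsLocalization.AtPrime (S₁.presheaf.stalk (g₁.base x)) (hV'.primeIdealOf ⟨g₁.base x, hxV'⟩).asIdeal :=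
    hV'.isLocalization_stalk ⟨g₁.base x, hxV'⟩
  letI : Algebra P (X₁.presheaf.stalk x) := (X₁.presheaf.germ O x hxO).hom.toAlgebra
  haveI : IsLocalization.AtPrime (X₁.presheaf.stalk x) (hO.primeIdealOf ⟨x, hxO⟩).asIdeal :=
    hO.isLocalization_stalk ⟨x, hxO⟩
  haveI := WLocalLib.weaklyEtale_of_isLocalization (B := V) (B' := S₁.presheaf.stalk (g₁.base x))
    (hV'.primeIdealOf ⟨g₁.base x, hxV'⟩).asIdeal.primeCompl
  haveI := WLocalLib.weaklyEtale_of_isLocalization (B := P) (B' := X₁.presheaf.stalk x)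
    (hO.primeIdealOf ⟨x, hxO⟩).asIdeal.primeCompl
  haveI := S1467.weaklyEtale_sh (S₁.presheaf.stalk (g₁.base x)) RS
  haveI := S1467.weaklyEtale_sh (X₁.presheaf.stalk x) RX
  letI : Algebra V RS := ((algebraMap (S₁.presheaf.stalk (g₁.base x)) RS).comp
    (algebraMap V (S₁.presheaf.stalk (g₁.base x)))).toAlgebra
  haveI : IsScalarTower V (S₁.presheaf.stalk (g₁.base x)) RS := IsScalarTower.of_algebraMap_eq fun _ => rfl
  letI : Algebra P RX := ((algebraMap (X₁.presheaf.stalk x) RX).comp (algebraMap P (X₁.presheaf.stalk x))).toAlgebra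
  haveI : IsScalarTower P (X₁.presheaf.stalk x) RX := IsScalarTower.of_algebraMap_eq fun _ => rfl
  haveI : Algebra.WeaklyEtale V RS := Algebra.WeaklyEtale.trans V (S₁.presheaf.stalk (g₁.base x)) RS
  haveI : Algebra.WeaklyEtale P RX := Algebra.WeaklyEtale.trans P (X₁.presheaf.stalk x) RX
  letI : Algebra V RX := ((algebraMap P RX).comp (algebraMap V P)).toAlgebra
  haveI : IsScalarTower V P RX := IsScalarTower.of_algebraMap_eq fun _ => rfl
  have hg : g₁.appLE V' O inf_le_right ≫ X₁.presheaf.germ O x hxO =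
      S₁.presheaf.germ V' (g₁.base x) hxV' ≫ g₁.stalkMap x := by
    rw [Scheme.Hom.germ_stalkMap, Scheme.Hom.appLE, Category.assoc, TopCat.Presheaf.germ_res]
  haveI : IsScalarTower V RS RX := IsScalarTower.of_algebraMap_eq fun v => by
    show algebraMap (X₁.presheaf.stalk x) RX ((g₁.appLE V' O inf_le_right ≫ X₁.presheaf.germ O x hxO).hom v) = _
    rw [hg]
    exact (RingHom.congr_fun hψ ((S₁.presheaf.germ V' (g₁.base x) hxV').hom v)).symm
  haveI := Hensel.IsStrictHenselization.henselian (R := S₁.presheaf.stalk (g₁.base x)) (S := RS)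
  haveI : IsSepClosed (IsLocalRing.ResidueField RS) :=
    (Hensel.IsStrictHenselization.isSepClosure (R := S₁.presheaf.stalk (g₁.base x)) (S := RS)).sep_closed
  obtain ⟨S', X', i, j, ψ', hsq, _, _, _, _, _, _⟩ := exists_flat_reduction (V := V) (P := P) (RS := RS) (RX := RX)
    (W := V ⧸ I) hgen Ideal.Quotient.mk_surjective fun v hv => hI v (Ideal.Quotient.eq_zero_iff_mem.1 hv)
  exact isZeroAcyclic_of_reduction hsq

/-- Morphisms with good charts everywhere are universally locally 0-acyclic. -/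
theorem isULocZeroAcyclic_of_redCharts {X S X' S' : Scheme.{u}} {f : X ⟶ S} {g : X' ⟶ S'} {c' : X' ⟶ X}
    {c : S' ⟶ S} (hc : IsPullback c' g f c) (h : ∀ x : X', RedChartAt f (c' x)) : EtAcyc.IsULocZeroAcyclic g :=
  fun _ _ _ b' _ hb => isLocZeroAcyclic_of_redChart (hb.paste_horiz hc) fun x => by
    rw [Scheme.Hom.comp_apply]
    exact h (b' x)

end Groth.Agent.GenBCLib
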