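import Groth.Agent.GenBCLib.GoodProj
import Groth.Agent.BCLib.Fibre

/-!
# Flat cokernels where the cohomology of all the fibres vanishes
-/

set_option autoImplicit false
set_option backward.isDefEq.respectTransparency false
set_option linter.style.haveILetI false

universe u

open TensorProduct LinearMap

noncomputable section

namespace Groth.Agent.BCLib.Cx

variable {A : Type u} [CommRing A] (L : Cx A) [∀ n, Module.Finite A (L.X n)] [∀ n, Module.Projective A (L.X n)]

theorem zBC_le_bBC_of_kdim_eq_zero (K : Type u) [Field K] [Algebra A K] (n : ℕ)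
    (h : FlatCx.kdim (L.δ n) K = 0) : L.zBC K n ≤ L.bBC K n := fun z hz => by
  rw [← L.baseChange_mkQ_eq_zero_iff]
  have hk : LinearMap.ker ((L.δ n).baseChange K) = ⊥ := Submodule.finrank_eq_zero.1 h
  have : (L.bd n).mkQ.baseChange K z ∈ LinearMap.ker ((L.δ n).baseChange K) :=
    LinearMap.mem_ker.2 ((L.baseChange_δ_mkQ K n z).trans (LinearMap.mem_ker.1 hz))
  rw [hk] at this
  exact (Submodule.mem_bot K).1 this

/-- Vanishing of the cohomology of all the fibres in degree `n` makes the cokernel in degree `n` flat. -/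
theorem flat_quot_of_kdim_eq_zero (n : ℕ)
    (h : ∀ x : PrimeSpectrum A, FlatCx.kdim (L.δ n) x.asIdeal.ResidueField = 0) :
    Module.Flat A (L.X n ⧸ L.bd n) := by
  let s : Set A := {a | L.Split a n}
  have spn : Ideal.span s = ⊤ := by
    by_contra hne
    obtain ⟨m, hm, hle⟩ := Ideal.exists_le_maximal _ hne
    haveI := hm.isPrime
    obtain ⟨a, ha, -, hsp, -⟩ := L.exists_split_of_vanish m n
      (L.zBC_le_bBC_of_kdim_eq_zero _ n (h ⟨m, hm.isPrime⟩))
    exact ha (hle (Ideal.subset_span hsp))
  refine Module.flat_of_isLocalized_span (R := A) (S := A) (L.X n ⧸ L.bd n) s spn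
    (fun r => Localization.Away r.1 ⊗[A] (L.X n ⧸ L.bd n)) (fun r => GenBCLib.toAway r.1 _) fun r => ?_
  haveI := L.projective_away_of_split (show L.Split r.1 n from r.2)
  haveI : Module.Flat A (Localization.Away r.1) := IsLocalization.flat _ (Submonoid.powers r.1)
  exact Module.Flat.trans A (Localization.Away r.1) _

end Groth.Agent.BCLib.Cx
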