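import Groth.Agent.GenBCLib.GoodProj
import Groth.Agent.BCLib.Fibre
import Mathlib.RingTheory.Spectrum.Prime.FreeLocus

/-!
# Free of given rank after base change, and the module cutting out the rank of degree zero cohomology
-/

set_option autoImplicit false
set_option backward.isDefEq.respectTransparency false
set_option linter.unusedSectionVars false
set_option linter.style.haveILetI false

universe u

open TensorProduct LinearMap

noncomputable section

namespace Groth.Agent.GenBCLib

variable {A : Type u} [CommRing A] (M : Type u) [AddCommGroup M] [Module A M]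

variable (A) in
/-- The base change is free of rank `n`. -/
def FreeRk (B : Type u) [CommRing B] [Algebra A B] (n : ℕ) : Prop :=
  Nonempty (B ⊗[A] M ≃ₗ[B] (Fin n → B))

variable {M}

theorem FreeRk.mono {B C : Type u} [CommRing B] [CommRing C] [Algebra A B] [Algebra A C] [Algebra B C]
    [IsScalarTower A B C] {n : ℕ} (h : FreeRk A M B n) : FreeRk A M C n :=
  h.map fun e => (TensorProduct.AlgebraTensorModule.cancelBaseChange A B C C M).symm ≪≫ₗ
    LinearEquiv.baseChange B C (B ⊗[A] M) (Fin n → B) e ≪≫ₗ TensorProduct.piScalarRight B C C (Fin n)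

theorem freeRk_iff_of_bijective {B C : Type u} [CommRing B] [CommRing C] [Algebra A B] [Algebra A C] [Algebra B C]
    [IsScalarTower A B C] (hb : Function.Bijective (algebraMap B C)) {n : ℕ} : FreeRk A M B n ↔ FreeRk A M C n := by
  refine ⟨FreeRk.mono, fun h => ?_⟩
  letI : Algebra C B := (RingEquiv.ofBijective (algebraMap B C) hb).symm.toRingHom.toAlgebra
  haveI : IsScalarTower A C B := .of_algebraMap_eq fun a => by
    rw [IsScalarTower.algebraMap_apply A B C]
    exact ((RingEquiv.ofBijective (algebraMap B C) hb).symm_apply_apply _).symm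
  exact h.mono

theorem FreeRk.finrank_eq {B : Type u} [CommRing B] [Nontrivial B] [Algebra A B] {n : ℕ} (h : FreeRk A M B n) :
    Module.finrank B (B ⊗[A] M) = n := by
  rw [h.some.finrank_eq, Module.finrank_fin_fun]

section local'

variable {B : Type u} [CommRing B] [Algebra A B] (q : Ideal B) [q.IsPrime] (O : Type u) [CommRing O] [Algebra B O]
  [Algebra A O] [IsScalarTower A B O] [IsLocalization.AtPrime O q]

theorem free_iff_exists_away [Module.FinitePresentation A M] :
    Module.Free O (O ⊗[A] M) ↔
      ∃ a ∉ q, Module.Projective (Localization.Away a) (Localization.Away a ⊗[B] (B ⊗[A] M)) := by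
  have e : O ⊗[B] (B ⊗[A] M) ≃ₗ[O] O ⊗[A] M := TensorProduct.AlgebraTensorModule.cancelBaseChange A B O O M
  have hiff : Module.Free O (O ⊗[A] M) ↔ (⟨q, inferInstance⟩ : PrimeSpectrum B) ∈ Module.freeLocus B (B ⊗[A] M) := by
    rw [Module.mem_freeLocus_iff_tensor (⟨q, inferInstance⟩ : PrimeSpectrum B) O]
    exact ⟨fun h => .of_equiv e.symm, fun h => .of_equiv e⟩
  have haway : ∀ a : B, Module.Projective (Localization.Away a) (Localization.Away a ⊗[B] (B ⊗[A] M)) ↔
      (PrimeSpectrum.basicOpen a : Set (PrimeSpectrum B)) ⊆ Module.freeLocus B (B ⊗[A] M) := by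
    intro a
    rw [Module.basicOpen_subset_freeLocus_iff]
    let e' := LocalizedModule.equivTensorProduct (Submonoid.powers a) (B ⊗[A] M)
    exact ⟨fun h => .of_equiv e'.symm, fun h => .of_equiv e'⟩
  rw [hiff]
  constructor
  · intro h
    obtain ⟨_, ⟨_, ⟨a, rfl⟩, rfl⟩, ha, hle⟩ :=
      PrimeSpectrum.isBasis_basic_opens.exists_subset_of_mem_open h Module.isOpen_freeLocus
    exact ⟨a, ha, (haway a).2 hle⟩
  · rintro ⟨a, ha, h⟩
    exact (haway a).1 h ha

theorem finrank_eq_residue [Module.Free O (O ⊗[A] M)] :
    Module.finrank q.ResidueField (q.ResidueField ⊗[A] M) = Module.finrank O (O ⊗[A] M) := by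
  let φ : Localization.AtPrime q ≃ₐ[B] O := IsLocalization.algEquiv q.primeCompl _ _
  letI : Algebra O q.ResidueField :=
    ((algebraMap (Localization.AtPrime q) q.ResidueField).comp φ.symm.toRingEquiv.toRingHom).toAlgebra
  haveI : IsScalarTower A O q.ResidueField := .of_algebraMap_eq fun a => by
    show _ = algebraMap (Localization.AtPrime q) q.ResidueField (φ.symm (algebraMap A O a))
    rw [IsScalarTower.algebraMap_apply A B O, φ.symm.commutes, ← IsScalarTower.algebraMap_apply B,
      ← IsScalarTower.algebraMap_apply A]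
  haveI : Nontrivial O := φ.toRingEquiv.injective.nontrivial
  rw [← (TensorProduct.AlgebraTensorModule.cancelBaseChange A O q.ResidueField q.ResidueField M).finrank_eq,
    Module.finrank_baseChange]

theorem freeRk_atPrime_iff [Module.FinitePresentation A M] (n : ℕ) :
    FreeRk A M O n ↔
      (∃ a ∉ q, Module.Projective (Localization.Away a) (Localization.Away a ⊗[B] (B ⊗[A] M))) ∧
        Module.finrank q.ResidueField (q.ResidueField ⊗[A] M) = n := by
  haveI : Nontrivial O :=
    (IsLocalization.algEquiv q.primeCompl (Localization.AtPrime q) O).toRingEquiv.injective.nontrivial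
  rw [← free_iff_exists_away q O]
  constructor
  · intro h
    haveI : Module.Free O (O ⊗[A] M) := Module.Free.of_equiv h.some.symm
    exact ⟨inferInstance, (finrank_eq_residue q O).trans h.finrank_eq⟩
  · rintro ⟨hfree, hn⟩
    haveI := hfree
    haveI : Module.Finite O (O ⊗[A] M) := inferInstance
    rw [finrank_eq_residue q O] at hn
    exact ⟨(Module.finBasisOfFinrankEq O (O ⊗[A] M) hn).equivFun⟩

end local'

/-- A product is projective exactly when both factors are, after any base change. -/
theorem projective_tensor_prod_iff (B : Type u) [CommRing B] [Algebra A B] (N : Type u) [AddCommGroup N] [Module A N]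
    [Module.Projective A N] :
    Module.Projective B (B ⊗[A] (M × N)) ↔ Module.Projective B (B ⊗[A] M) := by
  constructor
  · intro h
    refine Module.Projective.of_split ((LinearMap.inl A M N).baseChange B) ((LinearMap.fst A M N).baseChange B) ?_
    rw [← LinearMap.baseChange_comp, LinearMap.fst_comp_inl, LinearMap.baseChange_id]
  · intro h
    exact Module.Projective.of_equiv (TensorProduct.prodRight A B B M N).symm

/-- A finite projective module is a summand of a finite free one. -/
theorem exists_complement (X : Type u) [AddCommGroup X] [Module A X] [Module.Finite A X] [Module.Projective A X] :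
    ∃ (N : ℕ) (P : Submodule A (Fin N → A)), Module.Finite A P ∧ Module.Projective A P ∧
      Nonempty ((X × P) ≃ₗ[A] (Fin N → A)) := by
  obtain ⟨N, π, hπ⟩ := Module.Finite.exists_fin' A X
  obtain ⟨σ, hσ⟩ := Module.projective_lifting_property π LinearMap.id hπ
  let e : (Fin N → A) →ₗ[A] ↥(LinearMap.ker π) :=
    (LinearMap.id - σ ∘ₗ π).codRestrict _ fun v => by
      have : π (σ (π v)) = π v := congr($hσ (π v))
      simp [this]
  have he : ∀ x : ↥(LinearMap.ker π), e x.1 = x := fun x => Subtype.ext (by
    show x.1 - σ (π x.1) = x.1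
    rw [LinearMap.mem_ker.1 x.2, map_zero, sub_zero])
  refine ⟨N, LinearMap.ker π, Module.Finite.of_surjective e fun x => ⟨x.1, he x⟩,
    Module.Projective.of_split (LinearMap.ker π).subtype e (LinearMap.ext he), ⟨LinearEquiv.ofLinear
      (σ.coprod (LinearMap.ker π).subtype) (π.prod e) (LinearMap.ext fun v => ?_) (LinearMap.ext fun x => ?_)⟩⟩
  · show σ (π v) + (e v).1 = v
    show σ (π v) + (v - σ (π v)) = v
    abel
  · obtain ⟨x, p⟩ := x
    have h1 : π (σ x) = x := congr($hσ x)
    have h2 : π p.1 = 0 := LinearMap.mem_ker.1 p.2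
    refine Prod.ext ?_ (Subtype.ext ?_)
    · show π (σ x + p.1) = x
      rw [map_add, h1, h2, add_zero]
    · show (σ x + p.1) - σ (π (σ x + p.1)) = p.1
      rw [map_add, h1, h2, add_zero]
      abel

end Groth.Agent.GenBCLib

namespace Groth.Agent.BCLib.Cx

variable {A : Type u} [CommRing A] (L : Cx A)

/-- The cokernel in degree one. -/
abbrev Coker1 : Type u := L.X 1 ⧸ L.bd 1

/-- Rank-nullity in degree zero over a field. -/
theorem kdim_add [∀ n, Module.Finite A (L.X n)] (K : Type u) [Field K] [Algebra A K] :
    FlatCx.kdim (L.δ 0) K + Module.finrank K (K ⊗[A] L.X 1) =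
      Module.finrank K (K ⊗[A] L.X 0) + Module.finrank K (K ⊗[A] L.Coker1) := by
  let g := (L.δ 0).baseChange K
  let p := (L.bd 1).mkQ.baseChange K
  have hex : Function.Exact (L.δ 0) (L.bd 1).mkQ := by
    rw [LinearMap.exact_iff, Submodule.ker_mkQ, show L.δ 0 = (L.bd 0).liftQ (L.d 0) (L.bd_le_ker 0) from rfl,
      Submodule.range_liftQ]
    rfl
  have hgp : LinearMap.ker p = LinearMap.range g := by
    rw [← LinearMap.exact_iff]
    show Function.Exact ⇑((L.δ 0).baseChange K) ⇑((L.bd 1).mkQ.baseChange K)
    rw [LinearMap.baseChange_eq_ltensor, LinearMap.baseChange_eq_ltensor]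
    exact lTensor_exact K hex (Submodule.mkQ_surjective _)
  have hp : LinearMap.range p = ⊤ := by
    rw [LinearMap.range_eq_top]
    show Function.Surjective ⇑((L.bd 1).mkQ.baseChange K)
    rw [LinearMap.baseChange_eq_ltensor]
    exact LinearMap.lTensor_surjective K (Submodule.mkQ_surjective _)
  have h1 := g.finrank_range_add_finrank_ker
  have h2 := p.finrank_range_add_finrank_ker
  rw [hgp, hp, finrank_top] at h2
  simp only [g] at h1 h2
  have h3 : Module.finrank K (K ⊗[A] (L.X 0 ⧸ L.bd 0)) = Module.finrank K (K ⊗[A] L.X 0) :=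
    (LinearEquiv.baseChange A K _ _ (Submodule.quotEquivOfEqBot (L.bd 0) rfl)).finrank_eq
  show Module.finrank K (LinearMap.ker ((L.δ 0).baseChange K)) + _ =
    _ + Module.finrank K (K ⊗[A] (L.X 1 ⧸ L.bd 1))
  linarith

end Groth.Agent.BCLib.Cx
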