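import Groth.Agent.GenBCLib.Deg0
import Groth.Agent.GenBCLib.Main
import Groth.Agent.GenBCLib.Near
import Groth.Agent.GenBCLib.RankAlg

/-!
# Base change of the finite complex, and degree zero cohomology near a point
-/

set_option autoImplicit false
set_option backward.isDefEq.respectTransparency false
set_option backward.defeqAttrib.useBackward true
set_option linter.style.haveILetI false
set_option linter.unusedSectionVars false

universe u

open CategoryTheory CategoryTheory.Limits AlgebraicGeometry TopologicalSpace Opposite TensorProduct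
open Groth.Agent.CohBase Groth.Agent.ProjCoh Groth.Agent.FormalLib Groth.Agent.BCLib Groth.Agent.RpushLib
open Groth.Agent.PullbackMod

noncomputable section

namespace Groth.Agent.BCLib.Cx

variable {A : Type u} [CommRing A] (L : Cx A) (B : Type u) [CommRing B] [Algebra A B]

theorem ker_mkQ_baseChange :
    LinearMap.ker ((L.bd 1).mkQ.baseChange B) = (L.bcX B).bd 1 := by
  show _ = LinearMap.range ((L.d 0).baseChange B)
  rw [← LinearMap.exact_iff]
  show Function.Exact ⇑((L.d 0).baseChange B) ⇑((L.bd 1).mkQ.baseChange B)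
  rw [LinearMap.baseChange_eq_ltensor, LinearMap.baseChange_eq_ltensor]
  refine lTensor_exact B ?_ (Submodule.mkQ_surjective _)
  rw [LinearMap.exact_iff, Submodule.ker_mkQ]
  rfl

/-- The cokernel in degree one commutes with base change. -/
def coker1BC : (L.bcX B).Coker1 ≃ₗ[B] B ⊗[A] L.Coker1 :=
  (Submodule.quotEquivOfEq _ _ (L.ker_mkQ_baseChange B).symm).trans
    (LinearMap.quotKerEquivOfSurjective ((L.bd 1).mkQ.baseChange B) (by
      show Function.Surjective ⇑((L.bd 1).mkQ.baseChange B)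
      rw [LinearMap.baseChange_eq_ltensor]
      exact LinearMap.lTensor_surjective B (Submodule.mkQ_surjective _)))

end Groth.Agent.BCLib.Cx

namespace Groth.Agent.GenBCLib

variable {X S X' S' : Scheme.{u}} {f : X ⟶ S} {g : S' ⟶ S} {f' : X' ⟶ S'} {g' : X' ⟶ X}
  {F : X.Modules} [Coh.IsQCoh F] {V : S.Opens} {V' : S'.Opens}

/-- The finite complex after base change. -/
def Dat.baseChange (D : Dat f F V) (h : IsPullback g' f' f g) (hV' : IsAffineOpen V') (e : V' ≤ g ⁻¹ᵁ V) :
    Dat f' ((Scheme.Modules.pullback g').obj F) V' :=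
  letI := (g.appLE V V' e).hom.toAlgebra
  haveI := isQCoh_restrict F (f ⁻¹ᵁ V)
  { hV := hV'
    ι := D.ι
    fin := D.fin
    W := sqCov h e D.W
    hcov := sqCov_cov h e D.W D.hcov
    haff := sqCov_haff h D.hV hV' e D.W D.haff
    L := D.L.bcX Γ(S', V')
    ψ := (D.ψ.bcX Γ(S', V')).compIso (K' := upCx f' hV' ((Scheme.Modules.pullback g').obj F) (sqCov h e D.W))
      (fun n => upTheta h D.hV hV' e F D.W D.haff n) (fun n z => dL_upTheta h D.hV hV' e F D.W D.haff n z)
    finite := fun n => inferInstanceAs (Module.Finite Γ(S', V') (Γ(S', V') ⊗[Γ(S, V)] D.L.X n))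
    proj := fun n => inferInstanceAs (Module.Projective Γ(S', V') (Γ(S', V') ⊗[Γ(S, V)] D.L.X n))
    bdd := D.bdd.imp fun N hN n hn => by
      haveI := hN n hn
      exact inferInstanceAs (Subsingleton (Γ(S', V') ⊗[Γ(S, V)] D.L.X n))
    bij := fun M _ _ => (D.ψ.bcX Γ(S', V')).bij_compIso _ _ M (D.ψ.bij_bcX Γ(S', V') D.bij M) }

omit [Coh.IsQCoh F] in
theorem Dat.baseChange_L [Coh.IsQCoh F] (D : Dat f F V) (h : IsPullback g' f' f g) (hV' : IsAffineOpen V')
    (e : V' ≤ g ⁻¹ᵁ V) :
    letI := (g.appLE V V' e).hom.toAlgebra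
    (D.baseChange h hV' e).L = D.L.bcX Γ(S', V') := rfl

section sections'

variable (D : Dat f F V)

/-- Sections of the direct image are the degree zero cocycles of the finite complex. -/
def Dat.sec0 : ↥(LinearMap.ker (D.L.d 0)) ≃ₗ[Γ(S, V)] Γ((Scheme.Modules.pushforward f).obj F, V) :=
  (LinearEquiv.ofBijective (D.ψ.zMap₀ 0) ⟨fun a b hab => Subtype.ext (sub_eq_zero.1 ((Submodule.mem_bot _).1
      (D.ψ.cohom_inj (D.bij _) 0 (a - b) (show D.ψ.f 0 (a.1 - b.1) ∈ _ by
        rw [map_sub, show D.ψ.f 0 a.1 = D.ψ.f 0 b.1 from congrArg Subtype.val hab, sub_self]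
        exact zero_mem _)))),
    fun z => by
      obtain ⟨l, hl⟩ := D.ψ.cohom_surj (D.bij _) 0 z
      refine ⟨l, Subtype.ext ?_⟩
      have h0 := (Submodule.mem_bot _).1 hl
      first
        | exact sub_eq_zero.1 h0
        | exact (sub_eq_zero.1 h0).symm⟩).trans
    (ev0 D.hV F D.W D.hcov)

theorem Dat.projective_away_coker {a : Γ(S, V)} (hg : D.L.Good a 0) :
    Module.Projective (Localization.Away a) (Localization.Away a ⊗[Γ(S, V)] D.L.Coker1) :=
  D.L.projective_away_of_split hg

theorem Dat.exists_good_of_projective_away (a : Γ(S, V))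
    (h : Module.Projective (Localization.Away a) (Localization.Away a ⊗[Γ(S, V)] D.L.Coker1)) :
    ∃ k, D.L.Good (a ^ k) 0 :=
  @Cx.exists_split_of_projective_away _ _ D.L _ _ a 1 h

theorem finrank_tensor_ker {A : Type u} [CommRing A] (L : Cx A) (K : Type u) [Field K] [Algebra A K]
    (h : L.BCBij K 0) :
    Module.finrank K (K ⊗[A] ↥(LinearMap.ker (L.d 0))) = FlatCx.kdim (L.δ 0) K := by
  obtain ⟨hs, hi⟩ := h
  let φ : K ⊗[A] ↥(LinearMap.ker (L.d 0)) →ₗ[K] ↥(L.zBC K 0) :=
    LinearMap.codRestrict _ (L.zIncl K 0) (L.zIncl_mem K 0)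
  have hφ : Function.Bijective φ := by
    constructor
    · rw [injective_iff_map_eq_zero]
      intro w hw
      obtain ⟨y, rfl⟩ := hi w ((Submodule.mem_bot K).2 (congrArg Subtype.val hw))
      haveI : Subsingleton ↥(L.bd 0) := ⟨fun a b => Subtype.ext (((Submodule.mem_bot A).1 a.2).trans
        ((Submodule.mem_bot A).1 b.2).symm)⟩
      rw [Subsingleton.elim y 0, map_zero]
    · intro z
      obtain ⟨w, hw⟩ := hs z.1 z.2
      exact ⟨w, Subtype.ext (sub_eq_zero.1 ((Submodule.mem_bot K).1 hw)).symm⟩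
  rw [(LinearEquiv.ofBijective φ hφ).finrank_eq]
  refine L.finrank_eq_kdim K 0 (H := ↥(L.zBC K 0)) LinearMap.id (fun z => ⟨z, rfl⟩) fun z => ?_
  rw [LinearMap.id_apply, ← Submodule.coe_eq_zero]
  exact (Submodule.mem_bot K).symm

variable {s : S} (hs : s ∈ V) [IsSeparated f] [QuasiCompact f]

/-- In a good neighbourhood the direct image is free at the point, of rank the fibre rank. -/
theorem Dat.freeAt_of_good {a : Γ(S, V)} (ha : s ∈ S.basicOpen a) (hg : D.L.Good a 0) :
    FreeAt (CohIII.fiberRank f F 0 s) ((Scheme.Modules.pushforward f).obj F) s := by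
  let M := (Scheme.Modules.pushforward f).obj F
  haveI : Coh.IsQCoh M := QCohLib.isQCoh_pushforward F f
  let B := Γ(S, V)
  let q : Ideal B := D.idl (S.basicOpen_le a ha)
  let O := S.presheaf.stalk s
  letI : Algebra B O := TopCat.Presheaf.algebra_section_stalk S.presheaf ⟨s, S.basicOpen_le a ha⟩
  haveI : IsLocalization.AtPrime O q := D.hV.isLocalization_stalk ⟨s, S.basicOpen_le a ha⟩
  letI := Module.compHom (M.presheaf.stalk s) (S.presheaf.germ V s (S.basicOpen_le a ha)).hom
  haveI := FlatLocus.isLocalizedModule_germL M D.hV s (S.basicOpen_le a ha)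
  haveI : IsScalarTower B O (M.presheaf.stalk s) := .of_algebraMap_smul fun _ _ => rfl
  let j := (IsLocalizedModule.isBaseChange q.primeCompl O (FlatLocus.germL M V s (S.basicOpen_le a ha))).equiv
  obtain ⟨e, he⟩ := D.L.exists_ker_proj hg
  let H := ↥(LinearMap.ker (D.L.d 0))
  have hu : IsUnit (algebraMap B O a) := (S.mem_basicOpen a s (S.basicOpen_le a ha)).1 ha
  obtain ⟨h1, h2⟩ := finite_projective_of_retract O (LinearMap.ker (D.L.d 0)).subtype e a hu he
  haveI := h1; haveI := h2
  haveI : Module.Free O (O ⊗[B] H) := Module.free_of_flat_of_isLocalRing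
  have hn : Module.finrank O (O ⊗[B] H) = CohIII.fiberRank f F 0 s := by
    rw [← finrank_eq_residue q O, D.fiberRank_eq (S.basicOpen_le a ha) 0]
    exact finrank_tensor_ker D.L q.ResidueField (hg.bcBij _ (D.isUnit_residue _ ha))
  exact ⟨j.symm ≪≫ₗ LinearEquiv.baseChange B O _ _ D.sec0.symm ≪≫ₗ
    (Module.finBasisOfFinrankEq O (O ⊗[B] H) hn).equivFun⟩

end sections'

end Groth.Agent.GenBCLib
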