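import Groth.Agent.GenBCLib.PullComp
import Groth.Agent.CohBase.Push

/-!
# The edge map is bijective for acyclic direct images
-/

set_option autoImplicit false
set_option backward.isDefEq.respectTransparency false
set_option linter.style.haveILetI false
set_option linter.unusedSectionVars false

universe u

open CategoryTheory CategoryTheory.Limits Opposite TopologicalSpace CategoryTheory.Abelian
open Groth.Agent.CohBase

noncomputable section

namespace Groth.Agent.GenBCLib

variable {X Y : TopCat.{u}} (g : X ⟶ Y)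

/-- The edge map. -/
abbrev edgeH (G : CohTop.Ab X) (p : ℕ) : Sheaf.H ((CohTop.push g).obj G) p →+ Sheaf.H G p :=
  pullH g (𝟙 ((CohTop.push g).obj G)) p

theorem bijective_edgeH_zero (G : CohTop.Ab X) : Function.Bijective (edgeH g G 0) := by
  have h : ∀ x, Sheaf.H.equiv₀ G isTerminalTop (edgeH g G 0 x) =
      Sheaf.H.equiv₀ ((CohTop.push g).obj G) isTerminalTop x := fun x => by
    rw [edgeH, equiv₀_pullH]
    rfl
  refine ⟨fun x y e => (Sheaf.H.equiv₀ ((CohTop.push g).obj G) isTerminalTop).injective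
    ((h x).symm.trans ((congrArg _ e).trans (h y))), fun y => ?_⟩
  obtain ⟨x, hx⟩ := (Sheaf.H.equiv₀ ((CohTop.push g).obj G) isTerminalTop).surjective
    (Sheaf.H.equiv₀ G isTerminalTop y)
  exact ⟨x, (Sheaf.H.equiv₀ G isTerminalTop).injective ((h x).trans hx)⟩

theorem edgeH_map {G G' : CohTop.Ab X} (b : G ⟶ G') (p : ℕ) (x : Sheaf.H ((CohTop.push g).obj G) p) :
    edgeH g G' p (Sheaf.H.map ((CohTop.push g).map b) p x) = Sheaf.H.map b p (edgeH g G p x) := by
  rw [edgeH, edgeH, map_pullH, pullH_map, Category.comp_id, Category.id_comp]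


theorem bijective_edgeH_shift {S : ShortComplex (CohTop.Ab X)} (hS : S.ShortExact)
    (hS' : (S.map (CohTop.push g)).ShortExact) (h₂ : ∀ n, Subsingleton (Sheaf.H S.X₂ (n + 1)))
    (h₂' : ∀ n, Subsingleton (Sheaf.H ((CohTop.push g).obj S.X₂) (n + 1))) (n : ℕ)
    (ih : Function.Bijective (edgeH g S.X₃ n)) : Function.Bijective (edgeH g S.X₁ (n + 1)) := by
  have key : ∀ w : Sheaf.H ((CohTop.push g).obj S.X₃) n,
      edgeH g S.X₁ (n + 1) (w.comp hS'.extClass rfl) = (edgeH g S.X₃ n w).comp hS.extClass rfl :=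
    fun w => pullH_delta g hS' hS (𝟙 _) (𝟙 _) (𝟙 _) ((Category.id_comp _).trans (Category.comp_id _).symm)
      ((Category.id_comp _).trans (Category.comp_id _).symm) n w
  refine ⟨(injective_iff_map_eq_zero _).2 fun x hx => ?_, fun y => ?_⟩
  · haveI := h₂' n
    obtain ⟨w, rfl⟩ : ∃ w : Sheaf.H ((CohTop.push g).obj S.X₃) n, w.comp hS'.extClass rfl = x :=
      Ext.covariant_sequence_exact₁ _ hS' x (@Subsingleton.elim _ (h₂' n) _ _) rfl
    obtain ⟨z, hz⟩ := Ext.covariant_sequence_exact₃ _ hS (edgeH g S.X₃ n w) rfl ((key w).symm.trans hx)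
    obtain ⟨z', hz'⟩ : ∃ z' : Sheaf.H ((CohTop.push g).obj S.X₂) n, edgeH g S.X₂ n z' = z := by
      cases n with
      | zero => exact (bijective_edgeH_zero g S.X₂).2 z
      | succ m => exact ⟨0, @Subsingleton.elim _ (h₂ m) _ _⟩
    have hw : Sheaf.H.map ((CohTop.push g).map S.g) n z' = w := ih.1 (by
      rw [edgeH_map, hz']
      exact hz)
    rw [← hw]
    exact Ext.comp_assoc_of_second_deg_zero _ _ _ _ |>.trans
      ((congrArg (fun t => Ext.comp z' t (by omega)) hS'.comp_extClass).trans (Ext.comp_zero ..))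
  · obtain ⟨v, rfl⟩ : ∃ v : Sheaf.H S.X₃ n, v.comp hS.extClass rfl = y :=
      Ext.covariant_sequence_exact₁ _ hS y (@Subsingleton.elim _ (h₂ n) _ _) rfl
    obtain ⟨w, rfl⟩ := ih.2 v
    exact ⟨_, key w⟩

variable {B : Opens Y → Prop} (hB : ∀ (W : Opens Y) (y : Y), y ∈ W → ∃ V, B V ∧ y ∈ V ∧ V ≤ W)

include hB in
/-- The edge map is bijective for push-acyclic sheaves. -/
theorem bijective_edgeH [(pushS g).PreservesZeroMorphisms] : ∀ (p : ℕ) {G : CohTop.Ab X},
    PushAcyclic g B G → Function.Bijective (edgeH g G p)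
  | 0, G, _ => bijective_edgeH_zero g G
  | n + 1, G, hG => by
    haveI : ∀ m, Subsingleton (HU (⊤ : Opens X) (injSeq G).X₂ (m + 1)) :=
      fun m => subsingleton_of_injective (⊤ : Opens X) (injSeq G).X₂ m
    haveI : ∀ m, Subsingleton (HU (⊤ : Opens Y) ((pushS g).obj (injSeq G).X₂) (m + 1)) :=
      fun m => push_injective_acyclic g (injSeq G).X₂ ⊤ m
    exact bijective_edgeH_shift g (injSeq_shortExact G) (push_shortExact g hB (injSeq_shortExact G) hG)
      (fun m => (HEquiv (X := X) _ (m + 1)).injective.subsingleton)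
      (fun m => (HEquiv (X := Y) ((pushS g).obj (injSeq G).X₂) (m + 1)).injective.subsingleton) n
      (bijective_edgeH n (hG.quot g))

end Groth.Agent.GenBCLib
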