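import Groth.Prelude.Def_RDer
import Groth.Agent.RDerLib.Horseshoe

/-!
# Edge maps for a square of functors, and connecting morphisms
-/

set_option autoImplicit false
set_option backward.isDefEq.respectTransparency false
set_option linter.style.haveILetI false

universe v₁ v₂ v₃ v₄ u₁ u₂ u₃ u₄

open CategoryTheory CategoryTheory.Limits HomologicalComplex

noncomputable section

namespace Groth.Agent.GenBCLib

section Homotopy

variable {A : Type u₁} [Category.{v₁} A] [Abelian A] {Y : A} (I : InjectiveResolution Y)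
  {L : CochainComplex A ℕ} [∀ n, Injective (L.X n)]

/-- A map to a complex of injectives that vanishes on the augmentation is null homotopic. -/
theorem nonempty_homotopy_zero (φ : I.cocomplex ⟶ L) (h : I.ι.f 0 ≫ φ.f 0 = 0) : Nonempty (Homotopy φ 0) := by
  let z₀ : I.cocomplex.X 1 ⟶ L.X 0 := I.exact₀.descToInjective (φ.f 0) h
  have hz₀ : I.cocomplex.d 0 1 ≫ z₀ = φ.f 0 := I.exact₀.comp_descToInjective _ _
  let z₁ : I.cocomplex.X 2 ⟶ L.X 1 := (I.exact_succ 0).descToInjective (φ.f 1 - z₀ ≫ L.d 0 1) (by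
    dsimp
    rw [Preadditive.comp_sub, reassoc_of% hz₀, HomologicalComplex.Hom.comm, sub_self])
  have hz₁ : I.cocomplex.d 1 2 ≫ z₁ = φ.f 1 - z₀ ≫ L.d 0 1 := (I.exact_succ 0).comp_descToInjective _ _
  exact ⟨Homotopy.mkCoinductive _ z₀ hz₀.symm z₁ (by rw [hz₁]; abel) fun n ⟨g, g', w⟩ =>
    ⟨(I.exact_succ (n + 1)).descToInjective (φ.f (n + 2) - g' ≫ L.d _ _) (by
        dsimp
        rw [Preadditive.comp_sub, ← HomologicalComplex.Hom.comm, w, Preadditive.add_comp, Category.assoc,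
          Category.assoc, HomologicalComplex.d_comp_d]
        simp),
      by
        rw [(I.exact_succ (n + 1)).comp_descToInjective]
        abel⟩⟩

/-- Two maps to a complex of injectives that agree on the augmentation induce the same map in cohomology. -/
theorem homologyMap_eq {C : Type u₂} [Category.{v₂} C] [Abelian C] (F : A ⥤ C) [F.Additive]
    (φ ψ : I.cocomplex ⟶ L) (h : I.ι.f 0 ≫ φ.f 0 = I.ι.f 0 ≫ ψ.f 0) (q : ℕ) :
    homologyMap ((F.mapHomologicalComplex _).map φ) q = homologyMap ((F.mapHomologicalComplex _).map ψ) q := by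
  obtain ⟨e⟩ := nonempty_homotopy_zero I (φ - ψ) (by
    rw [HomologicalComplex.sub_f_apply, Preadditive.comp_sub, h, sub_self])
  exact (F.mapHomotopy (Homotopy.equivSubZero.symm e)).homologyMap_eq q

end Homotopy

section Lift

variable {A : Type u₁} [Category.{v₁} A] [Abelian A]

/-- A morphism of short complexes extended to their resolutions, the target being a complex of injectives. -/
theorem exists_lift_cx {S : ShortComplex A} (T : RDer.SESRes S) {L : ShortComplex (CochainComplex A ℕ)}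
    [∀ n, Injective (L.X₁.X n)] [∀ n, Injective (L.X₂.X n)] [∀ n, Injective (L.X₃.X n)]
    {Y : ShortComplex A} (φ : S ⟶ Y) (η₁ : (CochainComplex.single₀ A).obj Y.X₁ ⟶ L.X₁)
    (η₂ : (CochainComplex.single₀ A).obj Y.X₂ ⟶ L.X₂) (η₃ : (CochainComplex.single₀ A).obj Y.X₃ ⟶ L.X₃)
    (hf : η₁.f 0 ≫ L.f.f 0 = Y.f ≫ η₂.f 0) (hg : η₂.f 0 ≫ L.g.f 0 = Y.g ≫ η₃.f 0) :
    ∃ Φ : T.cx ⟶ L, T.I₁.ι.f 0 ≫ Φ.τ₁.f 0 = φ.τ₁ ≫ η₁.f 0 ∧
      T.I₃.ι.f 0 ≫ Φ.τ₃.f 0 = φ.τ₃ ≫ η₃.f 0 := by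
  let a : T.I₁.cocomplex ⟶ L.X₁ := RDer.descToInjectives φ.τ₁ T.I₁.cocomplex T.I₁.ι L.X₁ η₁
  let b : T.I₂.cocomplex ⟶ L.X₂ := RDer.descToInjectives φ.τ₂ T.I₂.cocomplex T.I₂.ι L.X₂ η₂
  have ha : T.I₁.ι.f 0 ≫ a.f 0 = φ.τ₁ ≫ η₁.f 0 := RDer.ι_descToInjectives_f_zero _ _ _ _ _
  have hb : T.I₂.ι.f 0 ≫ b.f 0 = φ.τ₂ ≫ η₂.f 0 := RDer.ι_descToInjectives_f_zero _ _ _ _ _
  have f0 : T.I₁.ι.f 0 ≫ T.f.f 0 = S.f ≫ T.I₂.ι.f 0 := by
    simpa using congrArg (fun ψ => HomologicalComplex.Hom.f ψ 0) T.ι_f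
  have g0 : T.I₂.ι.f 0 ≫ T.g.f 0 = S.g ≫ T.I₃.ι.f 0 := by
    simpa using congrArg (fun ψ => HomologicalComplex.Hom.f ψ 0) T.ι_g
  obtain ⟨h⟩ := nonempty_homotopy_zero T.I₁ (a ≫ L.f - T.f ≫ b) (by
    rw [HomologicalComplex.sub_f_apply, HomologicalComplex.comp_f, HomologicalComplex.comp_f, Preadditive.comp_sub,
      reassoc_of% ha, reassoc_of% f0, hb, hf, φ.comm₁₂_assoc, sub_self])
  let h' : Homotopy (a ≫ L.f) (T.f ≫ b) := Homotopy.equivSubZero.symm h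
  let H : ∀ i j, T.I₂.cocomplex.X i ⟶ L.X₂.X j := fun i j => (T.splitting i).r ≫ h'.hom i j
  have hH : ∀ i j, T.f.f i ≫ H i j = h'.hom i j := fun i j => by
    show T.f.f i ≫ (T.splitting i).r ≫ h'.hom i j = _
    have e : T.f.f i ≫ (T.splitting i).r = 𝟙 _ := (T.splitting i).f_r
    rw [← Category.assoc, e, Category.id_comp]
  let b' : T.I₂.cocomplex ⟶ L.X₂ := b + Homotopy.nullHomotopicMap H
  have hfb : T.f ≫ b' = a ≫ L.f := by
    show T.f ≫ (b + Homotopy.nullHomotopicMap H) = _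
    rw [Preadditive.comp_add, Homotopy.comp_nullHomotopicMap,
      show (fun i j => T.f.f i ≫ H i j) = h'.hom from funext fun i => funext fun j => hH i j]
    ext n
    rw [HomologicalComplex.add_f_apply, h'.comm n, add_comm]
    rfl
  haveI := T.shortExact.epi_g
  let c : T.I₃.cocomplex ⟶ L.X₃ := T.shortExact.gIsCokernel.desc (CokernelCofork.ofπ (b' ≫ L.g) (by
    show T.f ≫ b' ≫ L.g = 0
    rw [← Category.assoc, hfb, Category.assoc, L.zero, comp_zero]))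
  have hc : T.g ≫ c = b' ≫ L.g := T.shortExact.gIsCokernel.fac _ WalkingParallelPair.one
  refine ⟨⟨a, b', c, hfb.symm, hc.symm⟩, ha, ?_⟩
  haveI := RDerLib.epi_g T
  have hN : T.I₂.ι.f 0 ≫ (Homotopy.nullHomotopicMap H).f 0 = 0 := by
    rw [Homotopy.nullHomotopicMap_f_of_not_rel_right (show (ComplexShape.up ℕ).Rel 0 1 from rfl)
      (fun l => Nat.succ_ne_zero l), ← Category.assoc, T.I₂.ι_f_zero_comp_complex_d, zero_comp]
  have hb' : T.I₂.ι.f 0 ≫ b'.f 0 = φ.τ₂ ≫ η₂.f 0 := by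
    show T.I₂.ι.f 0 ≫ (b.f 0 + (Homotopy.nullHomotopicMap H).f 0) = _
    rw [Preadditive.comp_add, hN, add_zero]
    exact hb
  have hc0 : T.g.f 0 ≫ c.f 0 = b'.f 0 ≫ L.g.f 0 := congrArg (fun ψ => HomologicalComplex.Hom.f ψ 0) hc
  rw [← cancel_epi S.g, ← Category.assoc, ← g0, Category.assoc, hc0, ← Category.assoc, hb', Category.assoc,
    hg, φ.comm₂₃_assoc]

end Lift

section Comparison

variable {B : Type u₁} [Category.{v₁} B] [Abelian B] {C : Type u₂} [Category.{v₂} C] [Abelian C]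
  (Ψ : B ⥤ C) [Ψ.Additive] [PreservesFiniteLimits Ψ]

theorem homologyComparison_naturality {K K' : CochainComplex B ℕ} (φ : K ⟶ K') (q : ℕ) :
    homologyMap ((Ψ.mapHomologicalComplex _).map φ) q ≫ RDer.homologyComparison Ψ K' q =
      RDer.homologyComparison Ψ K q ≫ Ψ.map (homologyMap φ q) := by
  have hc : cyclesMap ((Ψ.mapHomologicalComplex _).map φ) q ≫ RDer.cyclesComparison Ψ K' q =
      RDer.cyclesComparison Ψ K q ≫ Ψ.map (cyclesMap φ q) := by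
    rw [← cancel_mono (Ψ.map (K'.iCycles q)), Category.assoc, Category.assoc, RDer.cyclesComparison_i,
      cyclesMap_i, ← Ψ.map_comp, cyclesMap_i, Ψ.map_comp, RDer.cyclesComparison_i_assoc]
    rfl
  rw [← cancel_epi (((Ψ.mapHomologicalComplex _).obj K).homologyπ q), homologyπ_naturality_assoc,
    RDer.homologyπ_homologyComparison, reassoc_of% hc, RDer.homologyπ_homologyComparison_assoc,
    ← Ψ.map_comp, ← Ψ.map_comp, homologyπ_naturality]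

/-- The comparison commutes with the connecting maps of degreewise split sequences. -/
theorem homologyComparison_δ (K : ShortComplex (CochainComplex B ℕ)) (hK : K.ShortExact)
    (σ : ∀ n, (K.map (HomologicalComplex.eval B _ n)).Splitting)
    (hK' : (K.map (Ψ.mapHomologicalComplex (ComplexShape.up ℕ))).ShortExact) (i j : ℕ) (h : i + 1 = j) :
    hK'.δ i j h ≫ RDer.homologyComparison Ψ K.X₁ j =
      RDer.homologyComparison Ψ K.X₃ i ≫ Ψ.map (hK.δ i j h) := by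
  have hn : (ComplexShape.up ℕ).next i = j := (ComplexShape.up ℕ).next_eq' h
  let x₂ : K.X₃.cycles i ⟶ K.X₂.X i := K.X₃.iCycles i ≫ (σ i).s
  have hx₂ : x₂ ≫ K.g.f i = K.X₃.iCycles i := by
    show (K.X₃.iCycles i ≫ (σ i).s) ≫ K.g.f i = _
    rw [Category.assoc, show (σ i).s ≫ K.g.f i = 𝟙 _ from (σ i).s_g]
    exact Category.comp_id _
  let x₁ : K.X₃.cycles i ⟶ K.X₁.X j := x₂ ≫ K.X₂.d i j ≫ (σ j).r
  have hx₁ : x₁ ≫ K.f.f j = x₂ ≫ K.X₂.d i j := by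
    let r : K.X₂.X j ⟶ K.X₁.X j := (σ j).r
    let t : K.X₃.X j ⟶ K.X₂.X j := (σ j).s
    have hz : (x₂ ≫ K.X₂.d i j) ≫ K.g.f j = 0 := by
      rw [Category.assoc, ← K.g.comm i j, reassoc_of% hx₂, iCycles_d]
    have hid : r ≫ K.f.f j + K.g.f j ≫ t = 𝟙 (K.X₂.X j) := (σ j).id
    calc x₁ ≫ K.f.f j = (x₂ ≫ K.X₂.d i j) ≫ (r ≫ K.f.f j) := by simp [x₁, r]
      _ = (x₂ ≫ K.X₂.d i j) ≫ (r ≫ K.f.f j + K.g.f j ≫ t) := by
          rw [Preadditive.comp_add, ← Category.assoc _ (K.g.f j) t, hz, zero_comp, add_zero]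
      _ = _ := by rw [hid, Category.comp_id]
  let cc := RDer.cyclesComparison Ψ K.X₃ i
  let K' := K.map (Ψ.mapHomologicalComplex (ComplexShape.up ℕ))
  let y₂ : K'.X₃.cycles i ⟶ K'.X₂.X i := cc ≫ Ψ.map x₂
  let y₁ : K'.X₃.cycles i ⟶ K'.X₁.X j := cc ≫ Ψ.map x₁
  have hy₂ : y₂ ≫ K'.g.f i = K'.X₃.iCycles i := by
    show (cc ≫ Ψ.map x₂) ≫ Ψ.map (K.g.f i) = _
    rw [Category.assoc, ← Ψ.map_comp, hx₂]
    exact RDer.cyclesComparison_i Ψ K.X₃ i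
  have hy₁ : y₁ ≫ K'.f.f j = y₂ ≫ K'.X₂.d i j := by
    show (cc ≫ Ψ.map x₁) ≫ Ψ.map (K.f.f j) = (cc ≫ Ψ.map x₂) ≫ Ψ.map (K.X₂.d i j)
    rw [Category.assoc, ← Ψ.map_comp, hx₁, Ψ.map_comp, Category.assoc]
  have e := hK.δ_eq i j h (K.X₃.iCycles i) (iCycles_d _ _ _) x₂ hx₂ x₁ hx₁ _ rfl
  have e' := hK'.δ_eq i j h (K'.X₃.iCycles i) (iCycles_d _ _ _) y₂ hy₂ y₁ hy₁ _ rfl
  have l : ∀ {L : CochainComplex B ℕ}, L.liftCycles (L.iCycles i) j hn (iCycles_d _ _ _) = 𝟙 _ :=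
    fun {L} => by rw [← cancel_mono (L.iCycles i), liftCycles_i, Category.id_comp]
  have l' : ∀ {L : CochainComplex C ℕ}, L.liftCycles (L.iCycles i) j hn (iCycles_d _ _ _) = 𝟙 _ :=
    fun {L} => by rw [← cancel_mono (L.iCycles i), liftCycles_i, Category.id_comp]
  rw [l, Category.id_comp] at e
  rw [l', Category.id_comp] at e'
  have hcc : ∀ (h₁ : x₁ ≫ K.X₁.d j ((ComplexShape.up ℕ).next j) = 0)
      (h₂ : y₁ ≫ K'.X₁.d j ((ComplexShape.up ℕ).next j) = 0),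
      K'.X₁.liftCycles y₁ _ rfl h₂ ≫ RDer.cyclesComparison Ψ K.X₁ j =
        cc ≫ Ψ.map (K.X₁.liftCycles x₁ _ rfl h₁) := fun _ _ => by
    rw [← cancel_mono (Ψ.map (K.X₁.iCycles j)), Category.assoc, Category.assoc, RDer.cyclesComparison_i,
      ← Ψ.map_comp, liftCycles_i]
    exact liftCycles_i _ _ _ _ _
  refine (cancel_epi (K'.X₃.homologyπ i)).1 ?_
  calc K'.X₃.homologyπ i ≫ hK'.δ i j h ≫ RDer.homologyComparison Ψ K.X₁ j
      = K'.X₁.liftCycles y₁ _ rfl _ ≫ K'.X₁.homologyπ j ≫ RDer.homologyComparison Ψ K.X₁ j := by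
        rw [← Category.assoc, e', Category.assoc]
    _ = (K'.X₁.liftCycles y₁ _ rfl _ ≫ RDer.cyclesComparison Ψ K.X₁ j) ≫ Ψ.map (K.X₁.homologyπ j) :=
        (congrArg (_ ≫ ·) (RDer.homologyπ_homologyComparison Ψ K.X₁ j)).trans (Category.assoc _ _ _).symm
    _ = cc ≫ Ψ.map (K.X₃.homologyπ i ≫ hK.δ i j h) := by
        rw [hcc, Category.assoc, ← Ψ.map_comp, e]
    _ = (cc ≫ Ψ.map (K.X₃.homologyπ i)) ≫ Ψ.map (hK.δ i j h) := by
        rw [Ψ.map_comp, Category.assoc]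
    _ = K'.X₃.homologyπ i ≫ RDer.homologyComparison Ψ K.X₃ i ≫ Ψ.map (hK.δ i j h) :=
        (congrArg (· ≫ Ψ.map (hK.δ i j h)) (RDer.homologyπ_homologyComparison Ψ K.X₃ i).symm).trans
          (Category.assoc _ _ _)

end Comparison

section Assemble

variable {C : Type u₁} [Category.{v₁} C] {P Q₀ Q R₀ R T₀ T Z : C}

theorem assemble (H₀ : P ⟶ Q₀) (s₀ : Q₀ ⟶ R₀) (c₀ : R₀ ⟶ T₀) (i₀ : T₀ ⟶ Z) (H : P ⟶ Q) (s : Q ⟶ R) (c : R ⟶ T)
    (i : T ⟶ Z) (k : Q₀ ⟶ Q) (k' : R₀ ⟶ R) (k'' : T₀ ⟶ T) (hn : s₀ ≫ k' = k ≫ s) (hc : k' ≫ c = c₀ ≫ k'')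
    (hi : k'' ≫ i = i₀) (ha : H₀ ≫ k = H) : H₀ ≫ s₀ ≫ c₀ ≫ i₀ = H ≫ s ≫ c ≫ i := by
  rw [← hi, ← ha, ← reassoc_of% hc, reassoc_of% hn, Category.assoc]

theorem assemble_δ {U₃ U₁ A₃ A₁ B₃ B₁ C₃ C₁ D₃ D₁ E₃ E₁ : C} (iI₃ : U₃ ⟶ A₃) (iI₁' : A₁ ⟶ U₁) (iI₁ : U₁ ⟶ A₁)
    (dT : A₃ ⟶ A₁) (a₃ : A₃ ⟶ B₃) (a₁ : A₁ ⟶ B₁) (s₃ : B₃ ⟶ C₃) (s₁ : B₁ ⟶ C₁) (δ' : C₃ ⟶ C₁) (c₃ : C₃ ⟶ D₃)
    (c₁ : C₁ ⟶ D₁) (δ'' : D₃ ⟶ D₁) (j₃ : D₃ ⟶ E₃) (d : E₃ ⟶ E₁) (j₁ : D₁ ⟶ E₁) (hI : iI₁' ≫ iI₁ = 𝟙 _)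
    (hM : dT ≫ a₁ ≫ s₁ = (a₃ ≫ s₃) ≫ δ') (hc : δ' ≫ c₁ = c₃ ≫ δ'') (hj : j₃ ≫ d = δ'' ≫ j₁) :
    (iI₃ ≫ a₃ ≫ s₃ ≫ c₃ ≫ j₃) ≫ d = (iI₃ ≫ dT ≫ iI₁') ≫ iI₁ ≫ a₁ ≫ s₁ ≫ c₁ ≫ j₁ := by
  simp only [Category.assoc, reassoc_of% hI, reassoc_of% hM, hj]
  rw [← reassoc_of% hc]

end Assemble

section Square

variable {A : Type u₁} [Category.{v₁} A] [Abelian A] [HasInjectiveResolutions A]
  {A' : Type u₂} [Category.{v₂} A'] [Abelian A'] [HasInjectiveResolutions A']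
  {C : Type u₃} [Category.{v₃} C] [Abelian C] {C' : Type u₄} [Category.{v₄} C'] [Abelian C']
  (Φ : A' ⥤ A) [Φ.Additive] [Φ.PreservesInjectiveObjects] (Ψ : A ⥤ C) [Ψ.Additive]
  (Φ' : A' ⥤ C') [Φ'.Additive] (Ψ' : C' ⥤ C) [Ψ'.Additive] [PreservesFiniteLimits Ψ']
  (e : Φ ⋙ Ψ ≅ Φ' ⋙ Ψ')

omit [HasInjectiveResolutions A] [HasInjectiveResolutions A'] [Φ.PreservesInjectiveObjects] in
theorem mapAug_f_zero {Y : A'} {I : CochainComplex A' ℕ} (ι : (CochainComplex.single₀ A').obj Y ⟶ I) :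
    (RDer.mapAug Φ ι).f 0 = Φ.map (ι.f 0) := by
  simp only [RDer.mapAug, HomologicalComplex.comp_f, HomologicalComplex.singleMapHomologicalComplex_inv_app_self,
    Functor.mapHomologicalComplex_map_f, HomologicalComplex.singleObjXSelf]
  erw [CategoryTheory.Functor.map_id, Category.id_comp, Category.id_comp]

omit [HasInjectiveResolutions A] [HasInjectiveResolutions A'] [Φ.PreservesInjectiveObjects] in
theorem mapAug_comm {Y Y' : A'} {I J : CochainComplex A' ℕ} (ι : (CochainComplex.single₀ A').obj Y ⟶ I)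
    (ι' : (CochainComplex.single₀ A').obj Y' ⟶ J) (s : Y ⟶ Y') (p : I.X 0 ⟶ J.X 0) (h : ι.f 0 ≫ p = s ≫ ι'.f 0) :
    (RDer.mapAug Φ ι).f 0 ≫ Φ.map p = Φ.map s ≫ (RDer.mapAug Φ ι').f 0 := by
  rw [mapAug_f_zero, mapAug_f_zero]
  exact ((Φ.map_comp _ _).symm.trans (congrArg Φ.map h)).trans (Φ.map_comp _ _)

/-- The base change map of a square of functors. -/
def bcG {F : A} {G : A'} (u : F ⟶ Φ.obj G) (q : ℕ) :
    (Ψ.rightDerived q).obj F ⟶ Ψ'.obj ((Φ'.rightDerived q).obj G) :=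
  (Ψ.rightDerived q).map u ≫ RDer.edgeIn Φ Ψ q G ≫ (RDer.rightDerivedIso e q).hom.app G ≫ RDer.edgeOut Φ' Ψ' q G

/-- The square on a complex. -/
abbrev sqMap (L : CochainComplex A' ℕ) :
    (Ψ.mapHomologicalComplex _).obj ((Φ.mapHomologicalComplex _).obj L) ⟶
      (Ψ'.mapHomologicalComplex _).obj ((Φ'.mapHomologicalComplex (ComplexShape.up ℕ)).obj L) :=
  (NatTrans.mapHomologicalComplex e.hom (ComplexShape.up ℕ)).app L

/-- Computation from any resolutions. -/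
theorem bcG_eq {F : A} {G : A'} (u : F ⟶ Φ.obj G) (q : ℕ) (I : InjectiveResolution F) (J : InjectiveResolution G)
    (a : I.cocomplex ⟶ (Φ.mapHomologicalComplex _).obj J.cocomplex)
    (ha : I.ι.f 0 ≫ a.f 0 = u ≫ (RDer.mapAug Φ J.ι).f 0) :
    bcG Φ Ψ Φ' Ψ' e u q =
      (I.isoRightDerivedObj Ψ q).hom ≫ homologyMap ((Ψ.mapHomologicalComplex _).map a) q ≫
        homologyMap (sqMap Φ Ψ Φ' Ψ' e J.cocomplex) q ≫
        RDer.homologyComparison Ψ' ((Φ'.mapHomologicalComplex _).obj J.cocomplex) q ≫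
        Ψ'.map (J.isoRightDerivedObj Φ' q).inv := by
  let I₀ := injectiveResolution G
  let K₀ := injectiveResolution (Φ.obj G)
  let d₁ := InjectiveResolution.desc u K₀ I
  let d₂ := RDer.descToInjectives (𝟙 (Φ.obj G)) K₀.cocomplex K₀.ι ((Φ.mapHomologicalComplex _).obj I₀.cocomplex)
    (RDer.mapAug Φ I₀.ι)
  let k := InjectiveResolution.desc (𝟙 G) J I₀
  have h1 : (Ψ.rightDerived q).map u ≫ RDer.edgeIn Φ Ψ q G =
      (I.isoRightDerivedObj Ψ q).hom ≫ homologyMap ((Ψ.mapHomologicalComplex _).map (d₁ ≫ d₂)) q ≫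
        (I₀.isoRightDerivedObj (Φ ⋙ Ψ) q).inv := by
    rw [RDer.edgeIn, InjectiveResolution.isoRightDerivedObj_hom_naturality_assoc u I K₀ d₁
      (InjectiveResolution.desc_commutes_zero u K₀ I), Functor.map_comp, homologyMap_comp]
    simp only [Category.assoc]
    rfl
  have h2 : (RDer.rightDerivedIso e q).hom.app G = (I₀.isoRightDerivedObj (Φ ⋙ Ψ) q).hom ≫
      homologyMap (sqMap Φ Ψ Φ' Ψ' e I₀.cocomplex) q ≫ (I₀.isoRightDerivedObj (Φ' ⋙ Ψ') q).inv :=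
    InjectiveResolution.rightDerived_app_eq e.hom I₀ q
  have hk : homologyMap ((Φ'.mapHomologicalComplex _).map k) q ≫ (J.isoRightDerivedObj Φ' q).inv =
      (I₀.isoRightDerivedObj Φ' q).inv := by
    rw [Iso.comp_inv_eq, ← cancel_epi (I₀.isoRightDerivedObj Φ' q).hom, Iso.hom_inv_id_assoc]
    have h := InjectiveResolution.isoRightDerivedObj_hom_naturality (𝟙 G) I₀ J k
      (InjectiveResolution.desc_commutes_zero _ _ _) Φ' q
    rw [CategoryTheory.Functor.map_id, Category.id_comp] at h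
    exact h.symm
  have hn : homologyMap (sqMap Φ Ψ Φ' Ψ' e I₀.cocomplex) q ≫
      homologyMap ((Ψ'.mapHomologicalComplex _).map ((Φ'.mapHomologicalComplex _).map k)) q =
      homologyMap ((Ψ.mapHomologicalComplex _).map ((Φ.mapHomologicalComplex _).map k)) q ≫
        homologyMap (sqMap Φ Ψ Φ' Ψ' e J.cocomplex) q := by
    rw [← homologyMap_comp, ← homologyMap_comp]
    exact congrArg (homologyMap · q) ((NatTrans.mapHomologicalComplex e.hom (ComplexShape.up ℕ)).naturality k).symm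
  have ha' : homologyMap ((Ψ.mapHomologicalComplex _).map ((d₁ ≫ d₂) ≫ (Φ.mapHomologicalComplex _).map k)) q =
      homologyMap ((Ψ.mapHomologicalComplex _).map a) q := by
    refine homologyMap_eq I Ψ _ _ ?_ q
    rw [ha, HomologicalComplex.comp_f, HomologicalComplex.comp_f]
    rw [show I.ι.f 0 ≫ (d₁.f 0 ≫ d₂.f 0) ≫ ((Φ.mapHomologicalComplex _).map k).f 0 =
        (I.ι.f 0 ≫ d₁.f 0) ≫ d₂.f 0 ≫ ((Φ.mapHomologicalComplex _).map k).f 0 by simp only [Category.assoc],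
      InjectiveResolution.desc_commutes_zero, Category.assoc,
      RDer.ι_descToInjectives_f_zero_assoc]
    erw [Category.id_comp]
    congr 1
    simp only [RDer.mapAug, HomologicalComplex.comp_f, Category.assoc]
    congr 1
    show Φ.map (I₀.ι.f 0) ≫ Φ.map (k.f 0) = Φ.map (J.ι.f 0)
    rw [← Φ.map_comp, InjectiveResolution.desc_commutes_zero, Category.id_comp]
  rw [bcG, reassoc_of% h1, h2, RDer.edgeOut]
  simp only [I₀, Category.assoc, Iso.inv_hom_id_assoc] at hk hn ⊢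
  refine congrArg ((I.isoRightDerivedObj Ψ q).hom ≫ ·) ?_
  refine assemble _ _ _ _ _ _ _ _ _ (homologyMap ((Ψ'.mapHomologicalComplex _).map
      ((Φ'.mapHomologicalComplex (ComplexShape.up ℕ)).map k)) q)
    (Ψ'.map (homologyMap ((Φ'.mapHomologicalComplex (ComplexShape.up ℕ)).map k) q)) hn ?_ ?_ ?_
  · exact homologyComparison_naturality Ψ' ((Φ'.mapHomologicalComplex _).map k) q
  · exact ((Ψ'.map_comp _ _).symm.trans (congrArg Ψ'.map hk))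
  refine (homologyMap_comp _ _ _).symm.trans ((congrArg (homologyMap · q) (Functor.map_comp _ _ _).symm).trans ?_)
  exact ha'

/-- The base change map commutes with connecting morphisms. -/
theorem bcG_δ (Δ : RDer.DerivedLES Ψ) (Δ' : RDer.DerivedLES Φ') {S : ShortComplex A} (hS : S.ShortExact)
    {S' : ShortComplex A'} (hS' : S'.ShortExact) (v : S ⟶ S'.map Φ) (q : ℕ) :
    bcG Φ Ψ Φ' Ψ' e v.τ₃ q ≫ Ψ'.map (Δ'.δ S' hS' q (q + 1) rfl) =
      Δ.δ S hS q (q + 1) rfl ≫ bcG Φ Ψ Φ' Ψ' e v.τ₁ (q + 1) := by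
  haveI : EnoughInjectives A := ⟨fun Y => ⟨{ J := (injectiveResolution Y).cocomplex.X 0
                                             f := (injectiveResolution Y).ι.f 0 }⟩⟩
  haveI : EnoughInjectives A' := ⟨fun Y => ⟨{ J := (injectiveResolution Y).cocomplex.X 0
                                              f := (injectiveResolution Y).ι.f 0 }⟩⟩
  obtain ⟨T⟩ := RDerLib.nonempty_sesRes S hS
  obtain ⟨T'⟩ := RDerLib.nonempty_sesRes S' hS'
  let L := T'.cx.map (Φ.mapHomologicalComplex (ComplexShape.up ℕ))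
  haveI : ∀ n, Injective (L.X₁.X n) := fun n => Φ.injective_obj (T'.I₁.cocomplex.X n)
  haveI : ∀ n, Injective (L.X₂.X n) := fun n => Φ.injective_obj (T'.I₂.cocomplex.X n)
  haveI : ∀ n, Injective (L.X₃.X n) := fun n => Φ.injective_obj (T'.I₃.cocomplex.X n)
  obtain ⟨Θ, h₁, h₃⟩ := exists_lift_cx T (L := L) (Y := S'.map Φ) v (RDer.mapAug Φ T'.I₁.ι) (RDer.mapAug Φ T'.I₂.ι)
    (RDer.mapAug Φ T'.I₃.ι)
    (by
      have h : T'.I₁.ι.f 0 ≫ T'.f.f 0 = S'.f ≫ T'.I₂.ι.f 0 := by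
        simpa using congrArg (fun ψ => HomologicalComplex.Hom.f ψ 0) T'.ι_f
      exact mapAug_comm Φ _ _ S'.f (T'.f.f 0) h)
    (by
      have h : T'.I₂.ι.f 0 ≫ T'.g.f 0 = S'.g ≫ T'.I₃.ι.f 0 := by
        simpa using congrArg (fun ψ => HomologicalComplex.Hom.f ψ 0) T'.ι_g
      exact mapAug_comm Φ _ _ S'.g (T'.g.f 0) h)
  let K := T'.cx.map (Φ'.mapHomologicalComplex (ComplexShape.up ℕ))
  have hK : K.ShortExact := T'.map_shortExact Φ'
  let σ : ∀ n, (K.map (HomologicalComplex.eval C' _ n)).Splitting := fun n => (T'.splitting n).map Φ'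
  have hK' : (K.map (Ψ'.mapHomologicalComplex (ComplexShape.up ℕ))).ShortExact :=
    HomologicalComplex.shortExact_of_degreewise_shortExact _ fun n => ((σ n).map Ψ').shortExact
  let M : T.cx.map (Ψ.mapHomologicalComplex _) ⟶ K.map (Ψ'.mapHomologicalComplex _) :=
    (Ψ.mapHomologicalComplex _).mapShortComplex.map Θ ≫
      { τ₁ := sqMap Φ Ψ Φ' Ψ' e T'.I₁.cocomplex
        τ₂ := sqMap Φ Ψ Φ' Ψ' e T'.I₂.cocomplex
        τ₃ := sqMap Φ Ψ Φ' Ψ' e T'.I₃.cocomplex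
        comm₁₂ := ((NatTrans.mapHomologicalComplex e.hom (ComplexShape.up ℕ)).naturality T'.f).symm
        comm₂₃ := ((NatTrans.mapHomologicalComplex e.hom (ComplexShape.up ℕ)).naturality T'.g).symm }
  have hM := HomologicalComplex.HomologySequence.δ_naturality M (T.map_shortExact Ψ) hK' q (q + 1) rfl
  rw [bcG_eq Φ Ψ Φ' Ψ' e v.τ₃ q T.I₃ T'.I₃ Θ.τ₃ h₃, bcG_eq Φ Ψ Φ' Ψ' e v.τ₁ (q + 1) T.I₁ T'.I₁ Θ.τ₁ h₁,
    Δ'.δ_eq S' hS' T', Δ.δ_eq S hS T]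
  exact assemble_δ _ _ _ ((T.map_shortExact Ψ).δ q (q + 1) rfl) _ _ _ _ (hK'.δ q (q + 1) rfl) _ _
    (Ψ'.map (hK.δ q (q + 1) rfl)) _ _ _ (T.I₁.isoRightDerivedObj Ψ (q + 1)).inv_hom_id
    ((congrArg ((T.map_shortExact Ψ).δ q (q + 1) rfl ≫ ·) (homologyMap_comp _ _ _).symm).trans
      (hM.trans (congrArg (· ≫ hK'.δ q (q + 1) rfl) (homologyMap_comp _ _ _))))
    (homologyComparison_δ Ψ' K hK σ hK' q (q + 1) rfl)
    ((Ψ'.map_comp _ _).symm.trans ((congrArg Ψ'.map (Iso.inv_hom_id_assoc _ _)).trans (Ψ'.map_comp _ _)))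

end Square

end Groth.Agent.GenBCLib
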