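import Groth.Agent.GenBCLib.OnAb
import Groth.Agent.CohCmpLib.Inj
import Groth.Agent.RpushLib.Finite

/-!
# The comparison commutes with restriction and is linear
-/

set_option autoImplicit false
set_option backward.isDefEq.respectTransparency false
set_option linter.style.haveILetI false

universe u

open CategoryTheory CategoryTheory.Limits AlgebraicGeometry AlgebraicGeometry.Scheme.Modules TopologicalSpace Opposite
open Groth.Agent.CohBase Groth.Agent.CohCmpLib Groth.Agent.RpushLib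

noncomputable section

namespace Groth.Agent.GenBCLib

variable {X S : Scheme.{u}}

theorem sectH0_eq (F : X.Modules) (U : X.Opens) (s : Γ(F, U)) :
    Sheaf.H.equiv₀ (Coh.toAb (F.restrict U.ι)) isTerminalTop (CohPull.sectH0 F U s) =
      F.presheaf.map (homOfLE U.ι_image_top.le).op s :=
  (AddEquiv.apply_symm_apply _ _).trans rfl

theorem resLE_sectH0 (F : X.Modules) {U U' : X.Opens} (h : U' ≤ U) (s : Γ(F, U)) :
    CohPull.resLE F h 0 (CohPull.sectH0 F U s) = CohPull.sectH0 F U' (F.presheaf.map (homOfLE h).op s) := by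
  apply (Sheaf.H.equiv₀ (Coh.toAb (F.restrict U'.ι)) isTerminalTop).injective
  rw [sectH0_eq, resLE_eq_pullH]
  refine (equiv₀_pullH (resMor h).base (restrAb F h) _).trans ?_
  refine (congrArg ((restrAb F h).hom.app (op ⊤)) (sectH0_eq F U s)).trans ?_
  refine (restrAb_app F h ⊤ _).trans ?_
  rw [restr_trans, restr_trans]
  rfl

variable (f : X ⟶ S) [HasInjectiveResolutions X.Modules] {Δ : RDer.DerivedLES (pushforward f)}
  (E : CohCmp.SectCmp f Δ)

theorem cEps_cRes : ∀ (p : ℕ) (F : X.Modules) {V W : S.Opens} (h : W ≤ V) (x : cH F (f ⁻¹ᵁ V) p),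
    cEps f E W F p (cRes F (f.preimage_mono h) p x) =
      ((Coh.Rpush f p).obj F).presheaf.map (homOfLE h).op (cEps f E V F p x)
  | 0, F, V, W, h, x => by
    obtain ⟨s, rfl⟩ := (cSect F (f ⁻¹ᵁ V)).surjective x
    have hs : cRes F (f.preimage_mono h) 0 (cSect F (f ⁻¹ᵁ V) s) =
        cSect F (f ⁻¹ᵁ W) (F.presheaf.map (homOfLE (f.preimage_mono h)).op s) := resLE_sectH0 F _ s
    rw [hs, cEps_cSect, cEps_cSect]
    exact NatTrans.naturality_apply ((pushforward f).toRightDerivedZero.app F).mapPresheaf (homOfLE h).op s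
  | p + 1, F, V, W, h, x => by
    haveI : Injective (embSeq F).X₂ := inferInstanceAs (Injective (Injective.under F))
    obtain ⟨w, rfl⟩ := exists_cDelta_eq (shortExact_embSeq F) (f ⁻¹ᵁ V) p x
    refine ((congrArg (cEps f E W (embSeq F).X₁ (p + 1))
      (cRes_cDelta (shortExact_embSeq F) (f.preimage_mono h) p w)).trans
        ((cEps_cDelta f E (shortExact_embSeq F) W p _).trans ?_)).trans
      (congrArg (((Coh.Rpush f (p + 1)).obj (embSeq F).X₁).presheaf.map (homOfLE h).op)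
        (cEps_cDelta f E (shortExact_embSeq F) V p w)).symm
    rw [cEps_cRes p _ h w]
    exact NatTrans.naturality_apply (Δ.δ (embSeq F) (shortExact_embSeq F) p (p + 1) rfl).mapPresheaf (homOfLE h).op _

include E in
/-- The comparison commutes with restriction. -/
theorem eps_res (p : ℕ) (F : X.Modules) {V W : S.Opens} (h : W ≤ V) (x : Coh.HHon X F (f ⁻¹ᵁ V) p) :
    E.ε W F p (CohPull.resLE F (f.preimage_mono h) p x) =
      ((Coh.Rpush f p).obj F).presheaf.map (homOfLE h).op (E.ε V F p x) :=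
  cEps_cRes f E p F h x

/-- The action of a function on the base. -/
def cSmul (F : X.Modules) (V : S.Opens) (a : Γ(S, V)) (p : ℕ) : cH F (f ⁻¹ᵁ V) p →+ cH F (f ⁻¹ᵁ V) p :=
  Sheaf.H.map (Coh.smulAb (F.restrict (f ⁻¹ᵁ V).ι) (preTop f V a)) p

omit [HasInjectiveResolutions X.Modules] in
theorem cDelta_cSmul {T : ShortComplex X.Modules} (hT : T.ShortExact) (V : S.Opens) (a : Γ(S, V)) (p : ℕ)
    (w : cH T.X₃ (f ⁻¹ᵁ V) p) :
    cDelta hT (f ⁻¹ᵁ V) p (cSmul f T.X₃ V a p w) = cSmul f T.X₁ V a (p + 1) (cDelta hT (f ⁻¹ᵁ V) p w) := by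
  have hA := shortExact_toAbOn hT (f ⁻¹ᵁ V)
  let e : T.map (CohCmp.toAbOn X (f ⁻¹ᵁ V)) ⟶ T.map (CohCmp.toAbOn X (f ⁻¹ᵁ V)) :=
    ⟨Coh.smulAb _ (preTop f V a), Coh.smulAb _ (preTop f V a), Coh.smulAb _ (preTop f V a),
      ProjCoh.smulAb_natural ((restrictFunctor (f ⁻¹ᵁ V).ι).map T.f) _,
      ProjCoh.smulAb_natural ((restrictFunctor (f ⁻¹ᵁ V).ι).map T.g) _⟩
  show (Abelian.Ext.comp w (Abelian.Ext.mk₀ e.τ₃) (add_zero p)).comp hA.extClass rfl =
    (Abelian.Ext.comp w hA.extClass rfl).comp (Abelian.Ext.mk₀ e.τ₁) (add_zero (p + 1))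
  rw [Abelian.Ext.comp_assoc_of_second_deg_zero, Abelian.Ext.comp_assoc_of_third_deg_zero]
  exact congrArg (fun t => Abelian.Ext.comp w t rfl) (ShortComplex.ShortExact.extClass_naturality hA hA e).symm

omit [HasInjectiveResolutions X.Modules] in
theorem sect_smul (F : X.Modules) (U : X.Opens) (r : Γ(X, U)) (s : Γ(F, U)) :
    Sheaf.H.map (Coh.smulAb (F.restrict U.ι) (U.topIso.inv r)) 0 (CohPull.sectH0 F U s) =
      CohPull.sectH0 F U (r • s) := by
  apply (Sheaf.H.equiv₀ (Coh.toAb (F.restrict U.ι)) isTerminalTop).injective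
  rw [← Sheaf.H.equiv₀_naturality, sectH0_eq, sectH0_eq, Coh.smulAb_app]
  refine Eq.trans ?_ (rM_smul_restrict F U U.ι_image_top.le r s).symm
  have h1 : Coh.resTop U.toScheme (op ⊤) (U.topIso.inv r) = U.topIso.inv r :=
    congr($((U.toScheme.ringCatSheaf.obj.map_id (op ⊤))) (U.topIso.inv r))
  rw [h1]

omit [HasInjectiveResolutions X.Modules] in
theorem cSect_smul (F : X.Modules) (V : S.Opens) (a : Γ(S, V)) (s : Γ(F, f ⁻¹ᵁ V)) :
    cSmul f F V a 0 (cSect F (f ⁻¹ᵁ V) s) = cSect F (f ⁻¹ᵁ V) (f.app V a • s) :=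
  sect_smul F (f ⁻¹ᵁ V) (f.app V a) s

theorem cEps_cSmul : ∀ (p : ℕ) (F : X.Modules) (V : S.Opens) (a : Γ(S, V)) (x : cH F (f ⁻¹ᵁ V) p),
    cEps f E V F p (cSmul f F V a p x) = a • cEps f E V F p x
  | 0, F, V, a, x => by
    obtain ⟨s, rfl⟩ := (cSect F (f ⁻¹ᵁ V)).surjective x
    rw [cSect_smul, cEps_cSect, cEps_cSect]
    exact Scheme.Modules.Hom.app_smul ((pushforward f).toRightDerivedZero.app F) a
      (show Γ((pushforward f).obj F, V) from s)
  | p + 1, F, V, a, x => by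
    haveI : Injective (embSeq F).X₂ := inferInstanceAs (Injective (Injective.under F))
    obtain ⟨w, rfl⟩ := exists_cDelta_eq (shortExact_embSeq F) (f ⁻¹ᵁ V) p x
    refine ((congrArg (cEps f E V (embSeq F).X₁ (p + 1))
      (cDelta_cSmul f (shortExact_embSeq F) V a p w).symm).trans
        ((cEps_cDelta f E (shortExact_embSeq F) V p _).trans ?_)).trans
      (congrArg (fun t => a • t) (cEps_cDelta f E (shortExact_embSeq F) V p w)).symm
    rw [cEps_cSmul p _ V a w]
    exact Scheme.Modules.Hom.app_smul (Δ.δ (embSeq F) (shortExact_embSeq F) p (p + 1) rfl) a _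

include E in
/-- The comparison is linear over the functions on the base. -/
theorem eps_smul (p : ℕ) (F : X.Modules) (V : S.Opens) (a : Γ(S, V)) (x : Coh.HHon X F (f ⁻¹ᵁ V) p) :
    E.ε V F p (Sheaf.H.map (Coh.smulAb (F.restrict (f ⁻¹ᵁ V).ι) (preTop f V a)) p x) = a • E.ε V F p x :=
  cEps_cSmul f E p F V a x

end Groth.Agent.GenBCLib
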