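import Groth.Agent.GenBCLib.LocCech
import Groth.Agent.RpushLib.Main

/-!
# The comparison is bijective on affine opens
-/

set_option autoImplicit false
set_option backward.isDefEq.respectTransparency false
set_option backward.defeqAttrib.useBackward true
set_option linter.style.haveILetI false
set_option linter.unusedSectionVars false

universe u

open CategoryTheory CategoryTheory.Limits AlgebraicGeometry TopologicalSpace Opposite
open Groth.Agent.CohBase Groth.Agent.ProjCoh Groth.Agent.FormalLib Groth.Agent.BCLib Groth.Agent.RpushLib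
open Groth.Agent.CohCmpLib

noncomputable section

namespace Groth.Agent.GenBCLib

variable {X S : Scheme.{u}} (f : X ⟶ S) {V V' : S.Opens} (hV : IsAffineOpen V) (hV' : IsAffineOpen V')
  (h : V' ≤ V) (F : X.Modules) {ι : Type u} (W : ι → (f ⁻¹ᵁ V : Scheme.{u}).Opens)

theorem dL_resCoch (q : ℕ) :
    letI := overV f hV
    letI := overV f hV'
    ∀ c : Coch (str Γ(S, V) (f ⁻¹ᵁ V : Scheme.{u})) (F.restrict (f ⁻¹ᵁ V).ι) W q,
      dL (str Γ(S, V') (f ⁻¹ᵁ V' : Scheme.{u})) (F.restrict (f ⁻¹ᵁ V').ι) (resCov (f.preimage_mono h) W) q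
        (resCoch f hV hV' h F W q c) =
      resCoch f hV hV' h F W (q + 1) (dL (str Γ(S, V) (f ⁻¹ᵁ V : Scheme.{u})) (F.restrict (f ⁻¹ᵁ V).ι) W q c) := by
  letI := overV f hV
  letI := overV f hV'
  exact fun c => dL_fc (A := Γ(S, V)) (A' := Γ(S, V')) (resMor (f.preimage_mono h)) W _ (resCov_le _ W)
    (F.restrict (f ⁻¹ᵁ V).ι) (F.restrict (f ⁻¹ᵁ V').ι) (restrAb F (f.preimage_mono h)) q c

variable [Coh.IsQCoh F] (hcov : (⊤ : (f ⁻¹ᵁ V : Scheme.{u}).Opens) ≤ iSup W)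
  (haff : ∀ (m : ℕ) (i : Fin (m + 1) → ι), IsAffineOpen (inter W i))
  (haff' : ∀ (m : ℕ) (i : Fin (m + 1) → ι), IsAffineOpen (inter (resCov (f.preimage_mono h) W) i))
  [Coh.IsQCoh (F.restrict (f ⁻¹ᵁ V).ι)] [Coh.IsQCoh (F.restrict (f ⁻¹ᵁ V').ι)]

/-- Restriction of classes on cocycles. -/
theorem resLE_cls (p : ℕ) :
    letI := overV f hV
    letI := overV f hV'
    ∀ (z : ↥(LinearMap.ker (dL (str Γ(S, V) (f ⁻¹ᵁ V : Scheme.{u})) (F.restrict (f ⁻¹ᵁ V).ι) W p)))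
      (z' : ↥(LinearMap.ker (dL (str Γ(S, V') (f ⁻¹ᵁ V' : Scheme.{u})) (F.restrict (f ⁻¹ᵁ V').ι)
        (resCov (f.preimage_mono h) W) p))),
      z'.1 = resCoch f hV hV' h F W p z.1 →
      CohPull.resLE F (f.preimage_mono h) p (cls W hcov haff (F.restrict (f ⁻¹ᵁ V).ι) p z) =
        cls (resCov (f.preimage_mono h) W) (resCov_cov _ hcov) haff' (F.restrict (f ⁻¹ᵁ V').ι) p z' := by
  letI := overV f hV
  letI := overV f hV'
  intro z z' hz
  rw [resLE_eq_pullH]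
  exact pullH_cls (A := Γ(S, V)) (A' := Γ(S, V')) (resMor (f.preimage_mono h)) W _ (resCov_le _ W)
    (F.restrict (f ⁻¹ᵁ V).ι) (F.restrict (f ⁻¹ᵁ V').ι) (restrAb F (f.preimage_mono h)) hcov haff _ haff' p z z' hz

variable (a : Γ(S, V)) [Finite ι]

include hV hcov haff in
theorem loc_inj_cls [Coh.IsQCoh (F.restrict (f ⁻¹ᵁ S.basicOpen a).ι)] (p : ℕ) :
    letI := overV f hV
    ∀ z : ↥(LinearMap.ker (dL (str Γ(S, V) (f ⁻¹ᵁ V : Scheme.{u})) (F.restrict (f ⁻¹ᵁ V).ι) W p)),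
      CohPull.resLE F (f.preimage_mono (S.basicOpen_le a)) p (cls W hcov haff (F.restrict (f ⁻¹ᵁ V).ι) p z) = 0 →
      ∃ n : ℕ, cls W hcov haff (F.restrict (f ⁻¹ᵁ V).ι) p (a ^ n • z) = 0 := by
  letI := overV f hV
  letI := overV f (hV.basicOpen a)
  intro z hz
  have hd : dL (str Γ(S, S.basicOpen a) (f ⁻¹ᵁ S.basicOpen a : Scheme.{u})) _ _ p
      (resCoch f hV (hV.basicOpen a) (S.basicOpen_le a) F W p z.1) = 0 :=
    (dL_resCoch f hV (hV.basicOpen a) (S.basicOpen_le a) F W p z.1).trans (by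
      rw [LinearMap.mem_ker.1 z.2]; exact map_zero _)
  rw [resLE_cls f hV (hV.basicOpen a) (S.basicOpen_le a) F W hcov haff (resCov_haff f W a haff) p z ⟨_, hd⟩ rfl,
    cls_eq_zero_iff] at hz
  cases p with
  | zero =>
    obtain ⟨n, hn⟩ := exists_pow_smul_eq_zero f hV F W a haff 0 z.1 hz
    exact ⟨n, (congrArg (cls W hcov haff (F.restrict (f ⁻¹ᵁ V).ι) 0) (Subtype.ext hn : a ^ n • z = 0)).trans
      (map_zero _)⟩
  | succ q =>
    obtain ⟨b', -, hb'⟩ := hz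
    obtain ⟨n, b, hb⟩ := exists_resCC_eq f hV F W a haff q b'
    let dz := a ^ n • z.1 - dL (str Γ(S, V) (f ⁻¹ᵁ V : Scheme.{u})) (F.restrict (f ⁻¹ᵁ V).ι) W q b
    have h0 : resCoch f hV (hV.basicOpen a) (S.basicOpen_le a) F W (q + 1) dz = 0 := by
      rw [map_sub, resCoch_smul, ← dL_resCoch, hb, map_smul, map_pow, hb', sub_self]
    obtain ⟨m, hm⟩ := exists_pow_smul_eq_zero f hV F W a haff (q + 1) dz h0
    refine ⟨m + n, (cls_eq_zero_iff W hcov haff _ _ _).2 ⟨a ^ m • b, ?_, ?_⟩⟩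
    · rw [pow_zero, Ideal.one_eq_top, Submodule.top_smul]; trivial
    · show dL _ _ W q (a ^ m • b) = a ^ (m + n) • z.1
      rw [map_smul, pow_add, mul_smul, eq_comm, ← sub_eq_zero, ← smul_sub]
      exact hm

include hV hcov haff in
theorem loc_surj_cls [Coh.IsQCoh (F.restrict (f ⁻¹ᵁ S.basicOpen a).ι)] (p : ℕ) :
    letI := overV f hV
    letI := overV f (hV.basicOpen a)
    ∀ z' : ↥(LinearMap.ker (dL (str Γ(S, S.basicOpen a) (f ⁻¹ᵁ S.basicOpen a : Scheme.{u}))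
      (F.restrict (f ⁻¹ᵁ S.basicOpen a).ι) (resCov (f.preimage_mono (S.basicOpen_le a)) W) p)),
      ∃ (n : ℕ) (z : ↥(LinearMap.ker (dL (str Γ(S, V) (f ⁻¹ᵁ V : Scheme.{u})) (F.restrict (f ⁻¹ᵁ V).ι) W p))),
        CohPull.resLE F (f.preimage_mono (S.basicOpen_le a)) p (cls W hcov haff (F.restrict (f ⁻¹ᵁ V).ι) p z) =
          cls (resCov (f.preimage_mono (S.basicOpen_le a)) W) (resCov_cov _ hcov) (resCov_haff f W a haff)
            (F.restrict (f ⁻¹ᵁ S.basicOpen a).ι) p (S.presheaf.map (homOfLE (S.basicOpen_le a)).op a ^ n • z') := by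
  letI := overV f hV
  letI := overV f (hV.basicOpen a)
  intro z'
  obtain ⟨n, c, hc⟩ := exists_resCC_eq f hV F W a haff p z'.1
  have h0 : resCoch f hV (hV.basicOpen a) (S.basicOpen_le a) F W (p + 1)
      (dL (str Γ(S, V) (f ⁻¹ᵁ V : Scheme.{u})) (F.restrict (f ⁻¹ᵁ V).ι) W p c) = 0 := by
    rw [← dL_resCoch, hc, map_smul, LinearMap.mem_ker.1 z'.2, smul_zero]
  obtain ⟨m, hm⟩ := exists_pow_smul_eq_zero f hV F W a haff (p + 1) _ h0
  refine ⟨m + n, ⟨a ^ m • c, LinearMap.mem_ker.2 ((map_smul _ _ _).trans hm)⟩, ?_⟩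
  refine resLE_cls f hV (hV.basicOpen a) (S.basicOpen_le a) F W hcov haff (resCov_haff f W a haff) p _ _ ?_
  show S.presheaf.map (homOfLE (S.basicOpen_le a)).op a ^ (m + n) • z'.1 =
    resCoch f hV (hV.basicOpen a) (S.basicOpen_le a) F W p (a ^ m • c)
  rw [resCoch_smul, hc, map_pow, pow_add, mul_smul]

omit [Finite ι]

omit [Coh.IsQCoh F] [Coh.IsQCoh (F.restrict (f ⁻¹ᵁ V).ι)] [Coh.IsQCoh (F.restrict (f ⁻¹ᵁ V').ι)] in
theorem resLE_resLE {U U' U'' : X.Opens} (h : U' ≤ U) (h' : U'' ≤ U') (p : ℕ) (x : Coh.HHon X F U p) :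
    CohPull.resLE F h' p (CohPull.resLE F h p x) = CohPull.resLE F (h'.trans h) p x := by
  rw [resLE_eq_pullH, resLE_eq_pullH, resLE_eq_pullH]
  refine (pullH_pullH (resMor h').base (resMor h).base _ _ p x).trans ?_
  have e : (resMor h').base ≫ (resMor h).base = (resMor (h'.trans h)).base :=
    congrArg (fun k => k.base) (resMor_comp (𝟙 X) (le_preimage_id h) h')
  refine pullH_congr e _ _ (compOver_eq _ _ e _ _ _ fun T s i => ?_) p x
  show F.presheaf.map (homOfLE (U''.ι.image_mono i)).op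
    ((restrAb F h').hom.app (op (resMor h ⁻¹ᵁ T)) ((restrAb F h).hom.app (op T) s)) = _
  rw [restrAb_app, restrAb_app]
  erw [restrAb_app]
  rw [restr_trans, restr_trans]

variable [IsSeparated f] [QuasiCompact f]

omit [Coh.IsQCoh (F.restrict (f ⁻¹ᵁ V).ι)] [Coh.IsQCoh (F.restrict (f ⁻¹ᵁ V').ι)] in
include hV in
theorem loc_inj (p : ℕ) (x : Coh.HHon X F (f ⁻¹ᵁ V) p)
    (hx : CohPull.resLE F (f.preimage_mono (S.basicOpen_le a)) p x = 0) :
    ∃ n : ℕ, cSmul f F V (a ^ n) p x = 0 := by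
  letI := overV f hV
  haveI := isQCoh_restrict F (f ⁻¹ᵁ V)
  haveI := isQCoh_restrict F (f ⁻¹ᵁ S.basicOpen a)
  obtain ⟨κ, hκ, W, hcov, haff⟩ := exists_affine_cover (A := Γ(S, V)) (restOver f hV)
  obtain ⟨z, rfl⟩ := cls_surjective (A := Γ(S, V)) W hcov haff (F.restrict (f ⁻¹ᵁ V).ι) p x
  obtain ⟨n, hn⟩ := loc_inj_cls f hV F W hcov haff a p z hx
  exact ⟨n, (cls_smul_overV f hV F W hcov haff p (a ^ n) z).symm.trans hn⟩

omit [Coh.IsQCoh (F.restrict (f ⁻¹ᵁ V).ι)] [Coh.IsQCoh (F.restrict (f ⁻¹ᵁ V').ι)] in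
include hV in
theorem loc_surj (p : ℕ) (y : Coh.HHon X F (f ⁻¹ᵁ S.basicOpen a) p) :
    ∃ (n : ℕ) (x : Coh.HHon X F (f ⁻¹ᵁ V) p), CohPull.resLE F (f.preimage_mono (S.basicOpen_le a)) p x =
      cSmul f F (S.basicOpen a) (S.presheaf.map (homOfLE (S.basicOpen_le a)).op a ^ n) p y := by
  letI := overV f hV
  letI := overV f (hV.basicOpen a)
  haveI := isQCoh_restrict F (f ⁻¹ᵁ V)
  haveI := isQCoh_restrict F (f ⁻¹ᵁ S.basicOpen a)
  obtain ⟨κ, hκ, W, hcov, haff⟩ := exists_affine_cover (A := Γ(S, V)) (restOver f hV)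
  obtain ⟨z', rfl⟩ := cls_surjective (A := Γ(S, S.basicOpen a)) (resCov (f.preimage_mono (S.basicOpen_le a)) W)
    (resCov_cov _ hcov) (resCov_haff f W a haff) (F.restrict (f ⁻¹ᵁ S.basicOpen a).ι) p y
  obtain ⟨n, z, hz⟩ := loc_surj_cls f hV F W hcov haff a p z'
  exact ⟨n, _, hz.trans (cls_smul_overV f (hV.basicOpen a) F _ _ _ p _ z')⟩

variable [HasInjectiveResolutions X.Modules] {Δ : RDer.DerivedLES (Scheme.Modules.pushforward f)}
  (E : CohCmp.SectCmp f Δ)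

omit [Coh.IsQCoh (F.restrict (f ⁻¹ᵁ V).ι)] [Coh.IsQCoh (F.restrict (f ⁻¹ᵁ V').ι)] in
include E hV in
/-- The comparison is injective on affine opens. -/
theorem eps_injective (p : ℕ) : Function.Injective (E.ε V F p) := by
  letI : Module Γ(S, V) (Coh.HH (f ⁻¹ᵁ V).toScheme (F.restrict (f ⁻¹ᵁ V).ι) p) :=
    Module.compHom _ (preTop f V)
  refine (injective_iff_map_eq_zero _).2 fun x hx => ?_
  let x' : Coh.HH (f ⁻¹ᵁ V).toScheme (F.restrict (f ⁻¹ᵁ V).ι) p := x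
  let I : Ideal Γ(S, V) := LinearMap.ker (LinearMap.toSpanSingleton Γ(S, V) _ x')
  have hI : Ideal.span (I : Set Γ(S, V)) = ⊤ := by
    rw [← hV.self_le_iSup_basicOpen_iff]
    intro y hy
    obtain ⟨T, hT, hyT, h0⟩ := exists_resLE_eq_zero f E F p V x hx y hy
    obtain ⟨a, haT, hya⟩ := hV.exists_basicOpen_le ⟨y, hyT⟩ hy
    have h0' : CohPull.resLE F (f.preimage_mono (S.basicOpen_le a)) p x = 0 := by
      refine (Groth.Agent.GenBCLib.resLE_resLE F (f.preimage_mono hT) (f.preimage_mono haT) p x).symm.trans ?_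
      rw [h0]
      exact map_zero _
    obtain ⟨n, hn⟩ := loc_inj f hV F a p x h0'
    have hn' : a ^ n • x' = 0 := hn
    refine Opens.mem_iSup.2 ⟨⟨a ^ (n + 1), LinearMap.mem_ker.2 ?_⟩, ?_⟩
    · show a ^ (n + 1) • x' = 0
      rw [pow_succ', mul_smul, hn', smul_zero]
    · show y ∈ S.basicOpen (a ^ (n + 1))
      rwa [S.basicOpen_pow a n.succ_pos]
  rw [Ideal.span_eq] at hI
  have h1 : (1 : Γ(S, V)) ∈ I := hI ▸ Submodule.mem_top
  have h2 : (1 : Γ(S, V)) • x' = 0 := LinearMap.mem_ker.1 h1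
  rw [one_smul] at h2
  exact h2

omit [Coh.IsQCoh (F.restrict (f ⁻¹ᵁ V).ι)] [Coh.IsQCoh (F.restrict (f ⁻¹ᵁ V').ι)] in
include E hV in
/-- The comparison is surjective on affine opens. -/
theorem eps_surjective (p : ℕ) : Function.Surjective (E.ε V F p) := by
  intro t
  let M := (Coh.Rpush f p).obj F
  haveI : Coh.IsQCoh M := isQCoh_rpush f p
  haveI : M.IsQuasicoherent := inferInstance
  let N : Submodule Γ(S, V) Γ(M, V) :=
    { carrier := Set.range (E.ε V F p)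
      zero_mem' := ⟨0, map_zero _⟩
      add_mem' := by rintro _ _ ⟨x, rfl⟩ ⟨y, rfl⟩; exact ⟨x + y, map_add _ _ _⟩
      smul_mem' := by rintro a _ ⟨x, rfl⟩; exact ⟨_, eps_smul f E p F V a x⟩ }
  let t' : Γ(M, V) := t
  let I : Ideal Γ(S, V) := N.comap (LinearMap.toSpanSingleton Γ(S, V) _ t')
  have hI : Ideal.span (I : Set Γ(S, V)) = ⊤ := by
    rw [← hV.self_le_iSup_basicOpen_iff]
    intro y hy
    obtain ⟨T, hT, hyT, y₁, hy₁⟩ := exists_eps_eq f E F p V t y hy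
    obtain ⟨a, haT, hya⟩ := hV.exists_basicOpen_le ⟨y, hyT⟩ hy
    let r := S.presheaf.map (homOfLE (S.basicOpen_le a)).op a
    obtain ⟨n, x, hx⟩ := loc_surj f hV F a p (CohPull.resLE F (f.preimage_mono haT) p y₁)
    have h1 : M.presheaf.map (homOfLE (S.basicOpen_le a)).op (E.ε V F p x) =
        M.presheaf.map (homOfLE (S.basicOpen_le a)).op (a ^ n • t') := by
      rw [← eps_res f E p F (S.basicOpen_le a) x, hx]
      refine (eps_smul f E p F _ _ _).trans ?_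
      rw [eps_res f E p F haT y₁, hy₁]
      refine Eq.trans ?_ (M.val.map_smul (homOfLE (S.basicOpen_le a)).op (a ^ n) t').symm
      rw [← map_pow]
      exact congrArg _ (restr_trans M hT haT t)
    obtain ⟨m, hm⟩ := exists_pow_zero M hV a rfl (E.ε V F p x - a ^ n • t')
      (by rw [map_sub, sub_eq_zero]; exact h1)
    rw [sc_apply] at hm
    have hm' : a ^ m • (E.ε V F p x - a ^ n • t') = 0 := by
      refine Eq.trans (congrArg (fun c : Γ(S, V) => c • (E.ε V F p x - a ^ n • t')) ?_) hm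
      exact (congr($(S.presheaf.map_id (op V)) (a ^ m))).symm
    refine Opens.mem_iSup.2 ⟨⟨a ^ (m + n + 1), ?_⟩, ?_⟩
    · show a ^ (m + n + 1) • t' ∈ N
      rw [pow_succ', mul_smul, pow_add, mul_smul]
      refine N.smul_mem _ ?_
      rw [smul_sub, sub_eq_zero] at hm'
      rw [← hm']
      exact N.smul_mem _ ⟨x, rfl⟩
    · show y ∈ S.basicOpen (a ^ (m + n + 1))
      rwa [S.basicOpen_pow a (m + n).succ_pos]
  rw [Ideal.span_eq] at hI
  have h1 : (1 : Γ(S, V)) ∈ I := hI ▸ Submodule.mem_top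
  have h2 : (1 : Γ(S, V)) • t' ∈ N := h1
  rw [one_smul] at h2
  exact h2

end Groth.Agent.GenBCLib
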