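import Groth.Agent.GenBCLib.H0

/-!
# Pullback of cohomology classes in terms of Čech cocycles
-/

set_option autoImplicit false
set_option backward.isDefEq.respectTransparency false
set_option linter.style.haveILetI false

universe u

open CategoryTheory CategoryTheory.Limits Opposite TopologicalSpace CategoryTheory.Abelian
open Groth.Agent.CohBase

noncomputable section

namespace Groth.Agent.GenBCLib

variable {X Y : TopCat.{u}} (g : X ⟶ Y)

/-- A map over `g` on sections. -/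
def fsec {F : CohTop.Ab Y} {G : CohTop.Ab X} (ψ : F ⟶ (CohTop.push g).obj G) {W : Opens Y} {W' : Opens X}
    (h : W' ≤ (Opens.map g).obj W) : F.obj.obj (op W) →+ G.obj.obj (op W') :=
  (res G.obj h).comp (ψ.hom.app (op W)).hom

theorem fsec_res {F : CohTop.Ab Y} {G : CohTop.Ab X} (ψ : F ⟶ (CohTop.push g).obj G) {W W₁ : Opens Y}
    {W' W₁' : Opens X} (h : W' ≤ (Opens.map g).obj W) (h₁ : W₁' ≤ (Opens.map g).obj W₁) (i : W₁ ≤ W)
    (i' : W₁' ≤ W') (s : F.obj.obj (op W)) :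
    fsec g ψ h₁ (res F.obj i s) = res G.obj i' (fsec g ψ h s) := by
  show res G.obj h₁ (ψ.hom.app (op W₁) (F.obj.map (homOfLE i).op s)) = res G.obj i' (res G.obj h (ψ.hom.app (op W) s))
  rw [NatTrans.naturality_apply ψ.hom (homOfLE i).op s]
  show res G.obj h₁ (res G.obj (show (Opens.map g).obj W₁ ≤ (Opens.map g).obj W from fun _ hx => i hx) _) = _
  rw [res_res, res_res]

variable {ι : Type u} (U : ι → Opens Y) (V : ι → Opens X) (hV : ∀ a, V a ≤ (Opens.map g).obj (U a))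

include hV in
theorem inter_le_map {n : ℕ} (i : Fin n → ι) : inter V i ≤ (Opens.map g).obj (inter U i) := fun x hx =>
  show g x ∈ inter U i from (mem_inter_iff U).2 fun a => hV (i a) ((mem_inter_iff V).1 hx a)

/-- A map over `g` on cochains. -/
def fc {F : CohTop.Ab Y} {G : CohTop.Ab X} (ψ : F ⟶ (CohTop.push g).obj G) (n : ℕ) :
    CC U F.obj n →+ CC V G.obj n where
  toFun c i := fsec g ψ (inter_le_map g U V hV i) (c i)
  map_zero' := funext fun i => map_zero (fsec g ψ (inter_le_map g U V hV i))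
  map_add' a b := funext fun i => map_add (fsec g ψ (inter_le_map g U V hV i)) (a i) (b i)

theorem fc_cdiff {F : CohTop.Ab Y} {G : CohTop.Ab X} (ψ : F ⟶ (CohTop.push g).obj G) (n : ℕ) (c : CC U F.obj n) :
    cdiff V G.obj n (fc g U V hV ψ n c) = fc g U V hV ψ (n + 1) (cdiff U F.obj n c) := by
  funext i
  show cdiff V G.obj n (fc g U V hV ψ n c) i = fsec g ψ (inter_le_map g U V hV i) (cdiff U F.obj n c i)
  rw [cdiff_apply, cdiff_apply, map_sum]
  refine Finset.sum_congr rfl fun j _ => ?_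
  rw [map_zsmul]
  exact congrArg _ (fsec_res g ψ _ _ _ _ _).symm

theorem fc_ccMap {F F' : CohTop.Ab Y} {G G' : CohTop.Ab X} (ψ : F ⟶ (CohTop.push g).obj G)
    (ψ' : F' ⟶ (CohTop.push g).obj G') (a : F ⟶ F') (b : G ⟶ G')
    (h : a ≫ ψ' = ψ ≫ (CohTop.push g).map b) (n : ℕ) (c : CC U F.obj n) :
    fc g U V hV ψ' n (ccMap U a.hom n c) = ccMap V b.hom n (fc g U V hV ψ n c) := by
  funext i
  show res G'.obj _ (ψ'.hom.app _ (a.hom.app _ (c i))) = b.hom.app _ (res G.obj _ (ψ.hom.app _ (c i)))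
  rw [← res_map b.hom]
  exact congrArg _ (ConcreteCategory.congr_hom (congrArg (fun k : F ⟶ (CohTop.push g).obj G' =>
    k.hom.app (op (inter U i))) h) (c i))

/-- Pullback of classes along a map over `g`. -/
def pullH {F : CohTop.Ab Y} {G : CohTop.Ab X} (ψ : F ⟶ (CohTop.push g).obj G) (p : ℕ) :
    Sheaf.H F p →+ Sheaf.H G p :=
  (Sheaf.H.map (((CohPull.invPushAdj g).homEquiv _ _).symm ψ) p).comp (CohPull.pullAb g F p)

theorem equiv₀_pullH {F : CohTop.Ab Y} {G : CohTop.Ab X} (ψ : F ⟶ (CohTop.push g).obj G) (x : Sheaf.H F 0) :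
    Sheaf.H.equiv₀ G isTerminalTop (pullH g ψ 0 x) = ψ.hom.app (op ⊤) (Sheaf.H.equiv₀ F isTerminalTop x) := by
  show Sheaf.H.equiv₀ G isTerminalTop (Sheaf.H.map _ 0 (CohPull.pullAb g F 0 x)) = _
  rw [← Sheaf.H.equiv₀_naturality, CohPull.equiv₀_pullAb]
  let θ := ((CohPull.invPushAdj g).homEquiv _ _).symm ψ
  have h1 : (CohPull.invPushAdj g).unit.app F ≫ (CohTop.push g).map θ = ψ := by
    exact (Adjunction.homEquiv_unit _ _ _ θ).symm.trans (Equiv.apply_symm_apply _ _)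
  exact ConcreteCategory.congr_hom (congrArg (fun k : F ⟶ (CohTop.push g).obj G => k.hom.app (op ⊤)) h1)
    (Sheaf.H.equiv₀ F isTerminalTop x)

theorem pullAb_extClass {F₁ F₃ : CohTop.Ab Y} (p : ℕ) (e : Ext.{u} F₃ F₁ 1) (x : Sheaf.H F₃ p) :
    CohPull.pullAb g F₁ (p + 1) (x.comp e rfl) =
      (CohPull.pullAb g F₃ p x).comp (e.mapExactFunctor (CohPull.inv g)) rfl := by
  simp only [CohPull.pullAb, AddMonoidHom.coe_comp, Function.comp_apply, Functor.mapExtAddHom_apply,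
    Ext.mapExactFunctor_comp]
  exact (Ext.comp_assoc _ _ _ (zero_add p) rfl (by omega)).symm

theorem pullH_delta {S : ShortComplex (CohTop.Ab Y)} (hS : S.ShortExact) {S' : ShortComplex (CohTop.Ab X)}
    (hS' : S'.ShortExact) (ψ₁ : S.X₁ ⟶ (CohTop.push g).obj S'.X₁) (ψ₂ : S.X₂ ⟶ (CohTop.push g).obj S'.X₂)
    (ψ₃ : S.X₃ ⟶ (CohTop.push g).obj S'.X₃) (h₁₂ : ψ₁ ≫ (CohTop.push g).map S'.f = S.f ≫ ψ₂)
    (h₂₃ : ψ₂ ≫ (CohTop.push g).map S'.g = S.g ≫ ψ₃) (p : ℕ) (x : Sheaf.H S.X₃ p) :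
    pullH g ψ₁ (p + 1) (x.comp hS.extClass rfl) = (pullH g ψ₃ p x).comp hS'.extClass rfl := by
  let adj := CohPull.invPushAdj g
  let f : S.map (CohPull.inv g) ⟶ S' :=
    ⟨(adj.homEquiv _ _).symm ψ₁, (adj.homEquiv _ _).symm ψ₂, (adj.homEquiv _ _).symm ψ₃,
      by
        show (adj.homEquiv _ _).symm ψ₁ ≫ S'.f = (CohPull.inv g).map S.f ≫ (adj.homEquiv _ _).symm ψ₂
        rw [← adj.homEquiv_naturality_right_symm, ← adj.homEquiv_naturality_left_symm]
        exact congrArg _ h₁₂,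
      by
        show (adj.homEquiv _ _).symm ψ₂ ≫ S'.g = (CohPull.inv g).map S.g ≫ (adj.homEquiv _ _).symm ψ₃
        rw [← adj.homEquiv_naturality_right_symm, ← adj.homEquiv_naturality_left_symm]
        exact congrArg _ h₂₃⟩
  show Ext.comp (CohPull.pullAb g S.X₁ (p + 1) (x.comp hS.extClass rfl)) (Ext.mk₀ f.τ₁) (add_zero (p + 1)) =
    ((CohPull.pullAb g S.X₃ p x).comp (Ext.mk₀ f.τ₃) (add_zero p)).comp hS'.extClass rfl
  rw [pullAb_extClass, Ext.mapExactFunctor_extClass,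
    Ext.comp_assoc_of_third_deg_zero, ShortComplex.ShortExact.extClass_naturality (hS.map_of_exact _) hS' f,
    Ext.comp_assoc_of_second_deg_zero]

theorem HEquiv_hδ {X : Type u} [TopologicalSpace X] {S : ShortComplex (AbSh X)} (hS : S.ShortExact) (p : ℕ)
    (x : Sheaf.H.{u} S.X₃ p) :
    HEquiv (X := X) S.X₁ (p + 1) (x.comp hS.extClass rfl) = hδ hS ⊤ p (HEquiv S.X₃ p x) := by
  show (Ext.mk₀.{u} (constIso (X := X)).inv).comp (x.comp hS.extClass rfl) (zero_add (p + 1)) =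
    ((Ext.mk₀.{u} (constIso (X := X)).inv).comp x (zero_add p)).comp hS.extClass rfl
  exact (Ext.comp_assoc _ _ _ (zero_add p) rfl (by omega)).symm

/-- Pullback in the model `HU`. -/
def pullU {F : CohTop.Ab Y} {G : CohTop.Ab X} (ψ : F ⟶ (CohTop.push g).obj G) (p : ℕ) :
    HU (⊤ : Opens Y) F p →+ HU (⊤ : Opens X) G p :=
  ((HEquiv G p).toAddMonoidHom.comp (pullH g ψ p)).comp (HEquiv F p).symm.toAddMonoidHom

variable (hcov : ⊤ ≤ iSup U) (hcov' : ⊤ ≤ iSup V)

theorem pullU_isCmp : ∀ (p : ℕ) {F : CohTop.Ab Y} {G : CohTop.Ab X} (ψ : F ⟶ (CohTop.push g).obj G)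
    (Φ : Zc U F.obj p →+ HU (⊤ : Opens Y) F p) (Ψ : Zc V G.obj p →+ HU (⊤ : Opens X) G p),
    IsCmp U hcov p F Φ → IsCmp V hcov' p G Ψ → ∀ (z : Zc U F.obj p) (z' : Zc V G.obj p),
      z'.1 = fc g U V hV ψ p z.1 → Ψ z' = pullU g ψ p (Φ z)
  | 0, F, G, ψ, Φ, Ψ, hΦ, hΨ, z, z', hz' => by
    subst hΦ hΨ
    obtain ⟨s, rfl⟩ := (eps_bijective U F hcov).2 z
    have e1 : z'.1 = (eps V G (ψ.hom.app (op ⊤) s)).1 := hz'.trans (funext fun i => by
      show fsec g ψ (inter_le_map g U V hV i) (res F.obj le_top s) = res G.obj le_top (ψ.hom.app (op ⊤) s)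
      rw [fsec_res g ψ (W := ⊤) (W' := ⊤) (h := le_of_eq (show (⊤ : Opens X) = (Opens.map g).obj ⊤ from rfl)) (i' := le_top)]
      exact res_res G.obj _ _ _)
    obtain rfl : z' = eps V G (ψ.hom.app (op ⊤) s) := Subtype.ext e1
    simp only [AddEquiv.coe_toAddMonoidHom, Φ0_eps, pullU, AddMonoidHom.coe_comp, Function.comp_apply]
    apply (H0Equiv ⊤ G).injective
    rw [H0Equiv_HEquiv, equiv₀_pullH, AddEquiv.apply_symm_apply]
    refine congrArg (ψ.hom.app (op ⊤)) ?_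
    rw [← H0Equiv_HEquiv, AddEquiv.apply_symm_apply, AddEquiv.apply_symm_apply]
  | p + 1, F, G, ψ, Φ, Ψ, ⟨ΦQ, hQ, hΦ⟩, ⟨ΨQ, hQ', hΨ⟩, z, z', hz' => by
    have hS := injSeq_shortExact F
    have hS' := injSeq_shortExact G
    let adj := CohPull.invPushAdj g
    haveI : (CohTop.push g).PreservesMonomorphisms := by
      haveI : (CohTop.push g).IsRightAdjoint := adj.isRightAdjoint
      infer_instance
    haveI : Injective ((CohTop.push g).obj (Injective.under G)) :=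
      Injective.injective_of_adjoint adj (Injective.under G)
    let ψ₂ : Injective.under F ⟶ (CohTop.push g).obj (Injective.under G) :=
      Injective.factorThru (ψ ≫ (CohTop.push g).map (Injective.ι G)) (Injective.ι F)
    have hψ₂ : Injective.ι F ≫ ψ₂ = ψ ≫ (CohTop.push g).map (Injective.ι G) := Injective.comp_factorThru _ _
    let ψ₃ : (injSeq F).X₃ ⟶ (CohTop.push g).obj (injSeq G).X₃ :=
      cokernel.desc (Injective.ι F) (ψ₂ ≫ (CohTop.push g).map (injSeq G).g) (by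
        haveI : (CohTop.push g).PreservesZeroMorphisms := inferInstance
        rw [reassoc_of% hψ₂, ← Functor.map_comp, (injSeq G).zero, Functor.map_zero, comp_zero])
    have h12 : ψ ≫ (CohTop.push g).map (injSeq G).f = (injSeq F).f ≫ ψ₂ := hψ₂.symm
    have h23 : ψ₂ ≫ (CohTop.push g).map (injSeq G).g = (injSeq F).g ≫ ψ₃ := (cokernel.π_desc _ _ _).symm
    obtain ⟨e, he⟩ := injective_cexact U (injSeq F).X₂ p (ccMap U (injSeq F).f.hom (p + 1) z.1) (by
      rw [cdiff_ccMap, show cdiff U (injSeq F).X₁.obj (p + 1) z.1 = 0 from z.2, map_zero])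
    have heZ : ccMap U (injSeq F).g.hom p e ∈ Zc U (injSeq F).X₃.obj p := by
      show cdiff U _ p (ccMap U (injSeq F).g.hom p e) = 0
      rw [cdiff_ccMap, he, ccMap_comp U hS]
    have hgg : ccMap V (injSeq G).g.hom p (fc g U V hV ψ₂ p e) =
        fc g U V hV ψ₃ p (ccMap U (injSeq F).g.hom p e) :=
      (fc_ccMap g U V hV ψ₂ ψ₃ (injSeq F).g (injSeq G).g h23.symm p e).symm
    have heZ' : ccMap V (injSeq G).g.hom p (fc g U V hV ψ₂ p e) ∈ Zc V (injSeq G).X₃.obj p := by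
      rw [hgg]
      show cdiff V _ p _ = 0
      rw [fc_cdiff, show cdiff U _ p (ccMap U (injSeq F).g.hom p e) = 0 from heZ, map_zero]
    rw [hΦ z e he.symm heZ, hΨ z' (fc g U V hV ψ₂ p e) (by
      rw [hz', fc_cdiff, he]
      exact (fc_ccMap g U V hV ψ ψ₂ (injSeq F).f (injSeq G).f h12.symm (p + 1) z.1).symm) heZ',
      pullU_isCmp p ψ₃ ΦQ ΨQ hQ hQ' ⟨_, heZ⟩ ⟨_, heZ'⟩ hgg]
    show hδ hS' ⊤ p (HEquiv _ p (pullH g ψ₃ p _)) = HEquiv G (p + 1) (pullH g ψ (p + 1) ((HEquiv F (p + 1)).symm _))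
    rw [← HEquiv_hδ hS', ← pullH_delta g hS hS' ψ ψ₂ ψ₃ h12 h23]
    refine congrArg _ (congrArg _ ?_)
    apply (HEquiv F (p + 1)).injective
    rw [AddEquiv.apply_symm_apply]
    exact (HEquiv_hδ hS p _).trans (congrArg _ ((HEquiv _ p).apply_symm_apply _))

/-- The comparison commutes with pullback. -/
theorem pullU_cmp {F : CohTop.Ab Y} {G : CohTop.Ab X} (ψ : F ⟶ (CohTop.push g).obj G) (hF : Acyclic U F)
    (hG : Acyclic V G) {p : ℕ} (z : Zc U F.obj p) (z' : Zc V G.obj p) (h : z'.1 = fc g U V hV ψ p z.1) :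
    cmp V hcov' hG p z' = pullU g ψ p (cmp U hcov hF p z) :=
  pullU_isCmp g U V hV hcov hcov' p ψ _ _ (exists_isCmp U hcov hF p).choose_spec.1
    (exists_isCmp V hcov' hG p).choose_spec.1 z z' h

end Groth.Agent.GenBCLib
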