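import Groth.Agent.GenBCLib.GoodPoint
import Groth.Agent.BCLib.FlatBase
import Groth.Agent.FlatCx.Ext

/-!
# Complexes of flat modules with flat cohomology
-/

set_option autoImplicit false
set_option backward.isDefEq.respectTransparency false
set_option linter.style.haveILetI false
set_option linter.unusedSectionVars false

universe u

open TensorProduct LinearMap

noncomputable section

namespace Groth.Agent.BCLib.Cx

variable {R : Type u} [CommRing R] (K : Cx R) [∀ n, Module.Flat R (K.X n)]

theorem flat_ker_δ (n : ℕ) {H : Type u} [AddCommGroup H] [Module R H] [Module.Flat R H]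
    (ev : ↥(LinearMap.ker (K.d n)) →ₗ[R] H) (hs : Function.Surjective ev)
    (hk : ∀ z, ev z = 0 ↔ z.1 ∈ K.bd n) : Module.Flat R ↥(LinearMap.ker (K.δ n)) := by
  let pr : ↥(LinearMap.ker (K.d n)) →ₗ[R] ↥(LinearMap.ker (K.δ n)) :=
    ((K.bd n).mkQ.comp (LinearMap.ker (K.d n)).subtype).codRestrict _ fun z =>
      LinearMap.mem_ker.2 (LinearMap.mem_ker.1 z.2)
  have hpr : Function.Surjective pr := by
    rintro ⟨w, hw⟩
    obtain ⟨x, rfl⟩ := Submodule.mkQ_surjective _ w
    exact ⟨⟨x, LinearMap.mem_ker.2 (LinearMap.mem_ker.1 hw)⟩, rfl⟩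
  have hker : LinearMap.ker ev = LinearMap.ker pr := Submodule.ext fun z => (hk z).trans
    ((Submodule.Quotient.mk_eq_zero _).symm.trans
      ⟨fun h => LinearMap.mem_ker.2 (Subtype.ext h), fun h => congrArg Subtype.val (LinearMap.mem_ker.1 h)⟩)
  exact Module.Flat.of_linearEquiv
    ((pr.quotKerEquivOfSurjective hpr).symm ≪≫ₗ Submodule.quotEquivOfEq _ _ hker.symm ≪≫ₗ
      ev.quotKerEquivOfSurjective hs)

/-- All cokernels are flat. -/
theorem flat_quot_of_flat_cohom (H : ℕ → Type u) [∀ n, AddCommGroup (H n)] [∀ n, Module R (H n)]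
    [∀ n, Module.Flat R (H n)] (ev : ∀ n, ↥(LinearMap.ker (K.d n)) →ₗ[R] H n)
    (hs : ∀ n, Function.Surjective (ev n)) (hk : ∀ n z, ev n z = 0 ↔ z.1 ∈ K.bd n) (N : ℕ)
    (hex : ∀ n, N ≤ n → ∀ (M : Type u) [AddCommGroup M] [Module R M], K.Exact' M n) :
    ∀ n, Module.Flat R (K.X n ⧸ K.bd n) := by
  suffices key : ∀ k n, N + 1 ≤ n + k → Module.Flat R (K.X n ⧸ K.bd n) from fun n => key (N + 1) n (by omega)
  intro k
  induction k with
  | zero =>
    intro n hn
    obtain ⟨m, rfl⟩ : ∃ m, n = m + 1 := ⟨n - 1, by omega⟩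
    exact K.flat_quot_of_exact m inferInstance (hex m (by omega))
  | succ k ih =>
    intro n hn
    haveI := ih (n + 1) (by omega)
    haveI : Module.Flat R (K.X (n + 1) ⧸ LinearMap.range (K.δ n)) :=
      Module.Flat.of_linearEquiv (Submodule.quotEquivOfEq _ _ (K.range_δ n))
    haveI := K.flat_ker_δ n (ev n) (hs n) (hk n)
    exact FlatCx.flat_of_flat_ker (K.δ n)

theorem baseChange_injective_of_flat_quot (B : Type u) [CommRing B] [Algebra R B] {M : Type u} [AddCommGroup M]
    [Module R M] (N : Submodule R M) [Module.Flat R (M ⧸ N)] : Function.Injective (N.subtype.baseChange B) := by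
  have h := FlatCx.rTensor_injective_of_flat_quotient N B
  intro x y hxy
  obtain ⟨x, rfl⟩ := (TensorProduct.comm R N B).surjective x
  obtain ⟨y, rfl⟩ := (TensorProduct.comm R N B).surjective y
  have hc : ∀ z, N.subtype.baseChange B (TensorProduct.comm R N B z) =
      TensorProduct.comm R M B (N.subtype.rTensor B z) := fun z => by
    induction z using TensorProduct.induction_on with
    | zero => simp
    | tmul a b => simp
    | add a b ha hb => simp only [map_add, ha, hb]
  rw [hc, hc] at hxy
  exact congrArg _ (h ((TensorProduct.comm R M B).injective hxy))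

/-- A flat cokernel in the next degree gives base change. -/
theorem bcBij_of_flat_quot (B : Type u) [CommRing B] [Algebra R B] (n : ℕ)
    [Module.Flat R (K.X (n + 1) ⧸ K.bd (n + 1))] : K.BCBij B n := by
  let rr : K.X n →ₗ[R] ↥(K.bd (n + 1)) := (K.d n).rangeRestrict
  haveI : Module.Flat R ↥(K.bd (n + 1)) := FlatCx.flat_of_flat_quotient _
  haveI : Module.Flat R ↥(LinearMap.range (K.d n)) := ‹Module.Flat R ↥(K.bd (n + 1))›
  haveI : Module.Flat R (K.X n ⧸ LinearMap.ker (K.d n)) :=
    Module.Flat.of_linearEquiv (K.d n).quotKerEquivRange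
  refine ⟨fun z hz => ?_, fun w hw => ?_⟩
  · have hz' : rr.baseChange B z = 0 := baseChange_injective_of_flat_quot B (K.bd (n + 1)) (by
      rw [← LinearMap.comp_apply, ← LinearMap.baseChange_comp, map_zero]
      exact LinearMap.mem_ker.1 hz)
    have hex : Function.Exact (LinearMap.ker (K.d n)).subtype rr := by
      rw [LinearMap.exact_iff, Submodule.range_subtype]
      exact LinearMap.ker_rangeRestrict (K.d n)
    obtain ⟨w, hw⟩ := (lTensor_exact B hex (K.d n).surjective_rangeRestrict z).1 hz'
    refine ⟨w, ?_⟩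
    rw [show K.zIncl B n w = z from hw, sub_self]
    exact zero_mem _
  · have hinj := baseChange_injective_of_flat_quot B (LinearMap.ker (K.d n))
    cases n with
    | zero =>
      refine ⟨0, hinj ?_⟩
      rw [map_zero, map_zero]
      exact ((Submodule.mem_bot B).1 hw).symm
    | succ m =>
      obtain ⟨y, hy⟩ := hw
      let r' : K.X m →ₗ[R] ↥(K.bd (m + 1)) := (K.d m).rangeRestrict
      refine ⟨r'.baseChange B y, hinj ?_⟩
      show K.zIncl B (m + 1) (K.bIncl B (m + 1) (r'.baseChange B y)) = K.zIncl B (m + 1) w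
      rw [← LinearMap.comp_apply, ← LinearMap.comp_apply, ← LinearMap.baseChange_comp, ← LinearMap.baseChange_comp]
      exact hy

end Groth.Agent.BCLib.Cx

namespace Groth.Agent.BCLib.Cx

variable {R : Type u} [CommRing R] {A : Type u} [CommRing A] [Algebra R A] (K : Cx A)

/-- A complex seen over a smaller ring. -/
abbrev rs [∀ n, Module R (K.X n)] [∀ n, IsScalarTower R A (K.X n)] : Cx R where
  X := K.X
  d n := (K.d n).restrictScalars R
  d_d n := LinearMap.ext fun x => K.d_d_apply n x

variable [∀ n, Module R (K.X n)] [∀ n, IsScalarTower R A (K.X n)]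
  (R' : Type u) [CommRing R'] [Algebra R R'] (B : Type u) [CommRing B] [Algebra R B] [Algebra A B] [Algebra R' B]
  [IsScalarTower R A B] [IsScalarTower R R' B] [Algebra.IsPushout R R' A B]

theorem cancel_natural {M N : Type u} [AddCommGroup M] [Module A M] [Module R M] [IsScalarTower R A M]
    [AddCommGroup N] [Module A N] [Module R N] [IsScalarTower R A N] (g : M →ₗ[A] N) (z : B ⊗[A] M) :
    Algebra.IsPushout.cancelBaseChange R R' A B N (g.baseChange B z) =
      (g.restrictScalars R).baseChange R' (Algebra.IsPushout.cancelBaseChange R R' A B M z) := by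
  obtain ⟨z, rfl⟩ := (Algebra.IsPushout.cancelBaseChange R R' A B M).symm.surjective z
  rw [LinearEquiv.apply_symm_apply]
  induction z using TensorProduct.induction_on with
  | zero => simp only [map_zero]
  | tmul b m =>
    rw [Algebra.IsPushout.cancelBaseChange_symm_tmul, LinearMap.baseChange_tmul, LinearMap.baseChange_tmul]
    apply (Algebra.IsPushout.cancelBaseChange R R' A B N).symm.injective
    rw [LinearEquiv.symm_apply_apply, Algebra.IsPushout.cancelBaseChange_symm_tmul]
    rfl
  | add x y hx hy => simp only [map_add, hx, hy]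

theorem mem_range_cancel {M N : Type u} [AddCommGroup M] [Module A M] [Module R M] [IsScalarTower R A M]
    [AddCommGroup N] [Module A N] [Module R N] [IsScalarTower R A N] (g : M →ₗ[A] N) (z : B ⊗[A] N) :
    z ∈ LinearMap.range (g.baseChange B) ↔
      Algebra.IsPushout.cancelBaseChange R R' A B N z ∈ LinearMap.range ((g.restrictScalars R).baseChange R') := by
  constructor
  · rintro ⟨w, rfl⟩
    exact ⟨_, (cancel_natural (R := R) R' B g w).symm⟩
  · rintro ⟨w, hw⟩
    obtain ⟨w, rfl⟩ := (Algebra.IsPushout.cancelBaseChange R R' A B M).surjective w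
    exact ⟨w, (Algebra.IsPushout.cancelBaseChange R R' A B N).injective ((cancel_natural (R := R) R' B g w).trans hw)⟩

theorem mem_bBC_cancel (n : ℕ) (z : B ⊗[A] K.X n) :
    z ∈ K.bBC B n ↔ Algebra.IsPushout.cancelBaseChange R R' A B (K.X n) z ∈ (K.rs (R := R)).bBC R' n := by
  cases n with
  | zero =>
    show z ∈ (⊥ : Submodule B _) ↔ _ ∈ (⊥ : Submodule R' _)
    rw [Submodule.mem_bot, Submodule.mem_bot, map_eq_zero_iff _ (LinearEquiv.injective _)]
  | succ m => exact mem_range_cancel (R := R) R' B (K.d m) z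

/-- Base change along a pushout of rings can be checked over the smaller ring. -/
theorem bcBij_of_rs (n : ℕ) (h : (K.rs (R := R)).BCBij R' n) : K.BCBij B n := by
  let cX := Algebra.IsPushout.cancelBaseChange R R' A B (K.X n)
  let cZ := Algebra.IsPushout.cancelBaseChange R R' A B ↥(LinearMap.ker (K.d n))
  have hz : ∀ w, cX (K.zIncl B n w) = (K.rs (R := R)).zIncl R' n (cZ w) := fun w =>
    cancel_natural (R := R) R' B (LinearMap.ker (K.d n)).subtype w
  refine ⟨fun z hzz => ?_, fun w hw => ?_⟩
  · obtain ⟨w, hw⟩ := h.1 (cX z) (LinearMap.mem_ker.2 ((cancel_natural (R := R) R' B (K.d n) z).symm.trans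
      ((congrArg _ (LinearMap.mem_ker.1 hzz)).trans (map_zero _))))
    obtain ⟨w, rfl⟩ := cZ.surjective w
    refine ⟨w, (K.mem_bBC_cancel (R := R) R' B n _).2 ?_⟩
    show cX (z - _) ∈ _
    rw [map_sub, hz]
    exact hw
  · have h1 := (K.mem_bBC_cancel (R := R) R' B n _).1 hw
    change cX (K.zIncl B n w) ∈ _ at h1
    rw [hz] at h1
    obtain ⟨c, hc⟩ := h.2 (cZ w) h1
    have hbd : ∀ x : K.X n, x ∈ (K.rs (R := R)).bd n → x ∈ K.bd n := by
      cases n with
      | zero => exact fun x hx => hx
      | succ m => exact fun x hx => hx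
    let j : ↥((K.rs (R := R)).bd n) →ₗ[R] ↥(K.bd n) :=
      { toFun := fun x => ⟨x.1, hbd x.1 x.2⟩
        map_add' := fun x y => rfl
        map_smul' := fun r x => rfl }
    refine (mem_range_cancel (R := R) R' B (Submodule.inclusion (K.bd_le_ker n)) w).2 ⟨j.baseChange R' c, ?_⟩
    refine Eq.trans ?_ hc
    rw [← LinearMap.comp_apply, ← LinearMap.baseChange_comp]
    rfl

end Groth.Agent.BCLib.Cx
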