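import Groth.Agent.GenBCLib.EdgeBij
import Groth.Agent.GenBCLib.PullCls
import Groth.Agent.FlatBC.Scheme

/-!
# Flat base change for the pullback of classes
-/

set_option autoImplicit false
set_option backward.isDefEq.respectTransparency false
set_option linter.style.haveILetI false
set_option linter.unusedSectionVars false

universe u

open CategoryTheory CategoryTheory.Limits Opposite TopologicalSpace AlgebraicGeometry
open Groth.Agent.CohBase Groth.Agent.FlatBC
open scoped TensorProduct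

noncomputable section

namespace Groth.Agent.GenBCLib

theorem pullMod_eq {X X' : Scheme.{u}} (g : X' ⟶ X) (M : X.Modules) (p : ℕ) (x : Coh.HH X M p) :
    CohPull.pullMod g M p x = pullH g.base (unitAb g M) p x := rfl

section Abstract

universe v w

/-- A bijective comparison followed by an isomorphism. -/
theorem exists_equiv_of_good {C : Type (u + 1)} [Category.{v} C] [Abelian C] [HasExt.{w} C] {A B : Type u}
    [CommRing A] [CommRing B] [Algebra A B] (D : Datum C A B) (P : C) (n : ℕ) (hgood : Good D P n) {H : Type w}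
    [AddCommGroup H] (j : Abelian.Ext.{w} P D.N n ≃+ H) (act : B → H → H)
    (hact : ∀ c z, j (z.comp (Abelian.Ext.mk₀ (D.σ c)) (add_zero n)) = act c (j z)) :
    ∃ e : B ⊗[A] E D P n ≃+ H, (∀ c t, e (c • t) = act c (e t)) ∧
      ∀ x : E D P n, e (1 ⊗ₜ x) = j (Abelian.Ext.comp (show Abelian.Ext.{w} P D.F n from x) (Abelian.Ext.mk₀ D.η) (add_zero n)) := by
  refine ⟨(AddEquiv.ofBijective (θ D P n) hgood).trans j,
    fun c t => (congrArg j (θ_smul D P n c t)).trans (hact c _), fun x => congrArg j ?_⟩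
  refine (AddEquiv.ofBijective_apply _ _ _).trans ((θ_tmul D P n 1 x).trans ?_)
  rw [map_one]
  exact congrArg (fun k => Abelian.Ext.comp _ (Abelian.Ext.mk₀ k) _) (Category.comp_id _)

end Abstract

section Edge

variable {X X' : TopCat.{u}} (g : X' ⟶ X) (G : CohTop.Ab X') (n : ℕ) (hedge : Function.Bijective (edgeH g G n))

/-- The inverse of the edge map, on the whole space. -/
def edgeEquiv : HU (⊤ : Opens X) ((CohTop.push g).obj G) n ≃+ Sheaf.H.{u} G n :=
  (HEquiv (X := X) ((CohTop.push g).obj G) n).symm.trans (AddEquiv.ofBijective _ hedge)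

theorem edgeEquiv_HEquiv (z : Sheaf.H.{u} ((CohTop.push g).obj G) n) :
    edgeEquiv g G n hedge (HEquiv (X := X) ((CohTop.push g).obj G) n z) = edgeH g G n z :=
  (AddEquiv.trans_apply _ _ _).trans
    ((congrArg (fun t => AddEquiv.ofBijective (edgeH g G n) hedge t)
      (AddEquiv.symm_apply_apply (HEquiv (X := X) ((CohTop.push g).obj G) n) z)).trans
      (AddEquiv.ofBijective_apply _ _ z))

theorem edgeEquiv_push (τ : G ⟶ G) (z : HU (⊤ : Opens X) ((CohTop.push g).obj G) n) :
    edgeEquiv g G n hedge (hmap ⊤ ((CohTop.push g).map τ) n z) = Sheaf.H.map τ n (edgeEquiv g G n hedge z) := by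
  obtain ⟨w, rfl⟩ := (HEquiv (X := X) ((CohTop.push g).obj G) n).surjective z
  rw [← HEquiv_map, edgeEquiv_HEquiv, edgeEquiv_HEquiv, edgeH_map]

theorem edgeEquiv_map {F : CohTop.Ab X} (η : F ⟶ (CohTop.push g).obj G) (x : Sheaf.H.{u} F n) :
    edgeEquiv g G n hedge (hmap ⊤ η n (HEquiv (X := X) F n x)) = pullH g η n x := by
  rw [← HEquiv_map, edgeEquiv_HEquiv, edgeH, map_pullH, Category.comp_id]

end Edge

/-- Flat base change of cohomology is pullback of classes. -/
theorem exists_baseChange_pullMod {X X' : Scheme.{u}} (g : X' ⟶ X) [IsAffineHom g] (M : X.Modules) [Coh.IsQCoh M]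
    {A B : Type u} [CommRing A] [CommRing B] [Algebra A B] (ψ : A →+* Coh.Γtop X) (ψ' : B →+* Coh.Γtop X')
    (hψ : ∀ a, ψ' (algebraMap A B a) = ProperFin.gTop g (ψ a)) [Module.Flat A B] [CompactSpace X]
    [QuasiSeparatedSpace X] (h0 : ∀ U : X.Opens, IsAffineOpen U → Good.{u} (datum g M ψ ψ' hψ) (freeAb U) 0) (n : ℕ) :
    letI : Module A (Coh.HH X M n) := Module.compHom _ ψ
    letI : Module B (Coh.HH X' (gM g M) n) := Module.compHom _ ψ'
    ∃ e : B ⊗[A] Coh.HH X M n ≃ₗ[B] Coh.HH X' (gM g M) n, ∀ x, e (1 ⊗ₜ x) = CohPull.pullMod g M n x := by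
  letI : Module A (Coh.HH X M n) := Module.compHom _ ψ
  letI : Module B (Coh.HH X' (gM g M) n) := Module.compHom _ ψ'
  let D := datum g M ψ ψ' hψ
  haveI : Coh.IsQCoh ((Scheme.Modules.pushforward g).obj (gM g M)) := QCohLib.isQCoh_pushforward (gM g M) g
  have hgood := goodU_of_affine D (fun U hU m => affine_vanishing M hU m)
    (fun U hU m => affine_vanishing ((Scheme.Modules.pushforward g).obj (gM g M)) hU m) h0 ⊤ isCompact_univ n
  have hedge : Function.Bijective (edgeH g.base (Coh.toAb (gM g M)) n) :=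
    bijective_edgeH g.base (B := fun V : X.Opens => IsAffineOpen V)
      (fun W y hy => by
        obtain ⟨_, ⟨V : X.Opens, hV, rfl⟩, hyV, hVW⟩ :=
          X.isBasis_affineOpens.exists_subset_of_mem_open (a := y) hy W.2
        exact ⟨V, hV, hyV, hVW⟩) n (FlatBC.pushAcyclic g M)
  let i : B ⊗[A] Coh.HH X M n ≃ₗ[B] B ⊗[A] E.{u} D (freeAb ⊤) n :=
    TensorProduct.AlgebraTensorModule.congr (LinearEquiv.refl B B) (hhE g M ψ ψ' hψ n)
  obtain ⟨e, he, he'⟩ := exists_equiv_of_good D (freeAb ⊤) n hgood (H := Coh.HH X' (gM g M) n)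
    (edgeEquiv g.base (Coh.toAb (gM g M)) n hedge)
    (fun c y => Sheaf.H.map (Coh.smulAb (gM g M) (ψ' c)) n y)
    (fun c z => edgeEquiv_push g.base (Coh.toAb (gM g M)) n hedge (Coh.smulAb (gM g M) (ψ' c)) z)
  refine ⟨AddEquiv.toLinearEquiv (i.toAddEquiv.trans e)
    (fun c t => (congrArg e (map_smul i c t)).trans (he c (i t))), fun x => ?_⟩
  exact (he' (hhE g M ψ ψ' hψ n x)).trans (edgeEquiv_map g.base (Coh.toAb (gM g M)) n hedge (unitAb g M) x)

end Groth.Agent.GenBCLib
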