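import Groth.Agent.GenBCLib.FlatAlg
import Groth.Agent.GenBCLib.BCMain
import Groth.Agent.OmegaUnivLib.Compat
import Groth.Agent.FlatLocus.ModFlat
import Groth.Agent.PullbackMod.Flat

/-!
# Base change when the higher direct images are flat over a base
-/

set_option autoImplicit false
set_option backward.isDefEq.respectTransparency false
set_option backward.defeqAttrib.useBackward true
set_option linter.style.haveILetI false
set_option linter.unusedSectionVars false

universe u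

open CategoryTheory CategoryTheory.Limits AlgebraicGeometry TopologicalSpace Opposite TensorProduct
open Groth.Agent.CohBase Groth.Agent.ProjCoh Groth.Agent.FormalLib Groth.Agent.BCLib Groth.Agent.RpushLib

noncomputable section

namespace Groth.Agent.BCLib.Cx

variable {A : Type u} [CommRing A]

theorem exact'_of_iso {K K' : Cx A} (e : ∀ n, K.X n ≃ₗ[A] K'.X n)
    (he : ∀ n x, K'.d n (e n x) = e (n + 1) (K.d n x)) (n : ℕ) (M : Type u) [AddCommGroup M] [Module A M]
    (h : K.Exact' M n) : K'.Exact' M n := fun z hz => by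
  have hc : ∀ n, ∀ w : K.X n ⊗[A] M, K'.dT M n ((e n).rTensor M w) = (e (n + 1)).rTensor M (K.dT M n w) := fun n w => by
    induction w using TensorProduct.induction_on with
    | zero => simp only [map_zero]
    | tmul x m => simp [Cx.dT, he]
    | add a b ha hb => simp only [map_add, ha, hb]
  obtain ⟨z, rfl⟩ := ((e (n + 1)).rTensor M).surjective z
  have hz' : z ∈ LinearMap.ker (K.dT M (n + 1)) := LinearMap.mem_ker.2
    (((e (n + 1 + 1)).rTensor M).injective (((hc (n + 1) z).symm.trans (LinearMap.mem_ker.1 hz)).trans (map_zero _).symm))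
  obtain ⟨w, hw⟩ := h hz'
  exact ⟨(e n).rTensor M w, (hc n w).trans (congrArg _ hw)⟩

variable {R : Type u} [CommRing R] [Algebra R A] (K : Cx A) [∀ n, Module R (K.X n)] [∀ n, IsScalarTower R A (K.X n)]

theorem exact'_rs (n : ℕ) (M : Type u) [AddCommGroup M] [Module R M] (h : K.Exact' (A ⊗[R] M) n) :
    (K.rs (R := R)).Exact' M n := fun z hz => by
  let c : ∀ m, K.X m ⊗[A] (A ⊗[R] M) ≃ₗ[A] K.X m ⊗[R] M := fun m =>
    TensorProduct.AlgebraTensorModule.cancelBaseChange R A A (K.X m) M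
  have hc : ∀ m (w : K.X m ⊗[A] (A ⊗[R] M)),
      (K.rs (R := R)).dT M m (c m w) = c (m + 1) (K.dT (A ⊗[R] M) m w) := fun m w => by
    induction w using TensorProduct.induction_on with
    | zero => simp only [map_zero]
    | tmul x y =>
      induction y using TensorProduct.induction_on with
      | zero => simp only [TensorProduct.tmul_zero, map_zero]
      | tmul a m' => simp [c, Cx.dT]
      | add a b ha hb => simp only [TensorProduct.tmul_add, map_add, ha, hb]
    | add a b ha hb => simp only [map_add, ha, hb]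
  obtain ⟨z, rfl⟩ := (c (n + 1)).surjective z
  have hz' : z ∈ LinearMap.ker (K.dT (A ⊗[R] M) (n + 1)) := LinearMap.mem_ker.2
    ((c (n + 1 + 1)).injective (((hc (n + 1) z).symm.trans (LinearMap.mem_ker.1 hz)).trans (map_zero _).symm))
  obtain ⟨w, hw⟩ := h hz'
  exact ⟨c n w, (hc n w).trans (congrArg _ hw)⟩

theorem rs_mem_bd (n : ℕ) (x : K.X n) : x ∈ (K.rs (R := R)).bd n ↔ x ∈ K.bd n := by
  cases n with
  | zero => exact Iff.rfl
  | succ k => exact Iff.rfl

/-- A complex of flat modules with flat cohomology has base change along pushouts. -/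
theorem bcBij_of_flat_cohom (R' : Type u) [CommRing R'] [Algebra R R'] (B : Type u) [CommRing B] [Algebra R B]
    [Algebra A B] [Algebra R' B] [IsScalarTower R A B] [IsScalarTower R R' B] [Algebra.IsPushout R R' A B]
    (hflat : ∀ m, Module.Flat R (K.X m)) (H : ℕ → Type u) [∀ m, AddCommGroup (H m)] [∀ m, Module A (H m)]
    [∀ m, Module R (H m)] [∀ m, IsScalarTower R A (H m)] (hH : ∀ m, Module.Flat R (H m))
    (ev : ∀ m, ↥(LinearMap.ker (K.d m)) →ₗ[A] H m) (hs : ∀ m, Function.Surjective (ev m))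
    (hk : ∀ m z, ev m z = 0 ↔ z.1 ∈ K.bd m) (N : ℕ)
    (hex : ∀ m, N ≤ m → ∀ (M : Type u) [AddCommGroup M] [Module A M], K.Exact' M m) (n : ℕ) : K.BCBij B n := by
  haveI : ∀ m, Module.Flat R ((K.rs (R := R)).X m) := hflat
  haveI := hH
  let ev' : ∀ m, ↥(LinearMap.ker ((K.rs (R := R)).d m)) →ₗ[R] H m := fun m =>
    { toFun := fun z => ev m ⟨z.1, z.2⟩
      map_add' := fun z w => map_add (ev m) ⟨z.1, z.2⟩ ⟨w.1, w.2⟩
      map_smul' := fun r z => by
        have h := map_smul (ev m) (algebraMap R A r) ⟨z.1, z.2⟩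
        rw [algebraMap_smul] at h
        refine Eq.trans (Eq.trans ?_ h) (algebraMap_smul A r _)
        rfl }
  have hq := (K.rs (R := R)).flat_quot_of_flat_cohom H ev'
    (fun m t => by
      obtain ⟨z, hz⟩ := hs m t
      exact ⟨⟨z.1, z.2⟩, hz⟩)
    (fun m z => (hk m ⟨z.1, z.2⟩).trans (K.rs_mem_bd (R := R) m z.1).symm)
    N (fun m hm M _ _ => K.exact'_rs m M (hex m hm (A ⊗[R] M)))
  haveI := hq (n + 1)
  exact K.bcBij_of_rs (R := R) R' B n ((K.rs (R := R)).bcBij_of_flat_quot R' n)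

end Groth.Agent.BCLib.Cx

namespace Groth.Agent.GenBCLib

/-- Sections of a module flat over the base are flat. -/
theorem flat_sections_over {X S : Scheme.{u}} (a : X ⟶ S) (M : X.Modules) [Coh.IsQCoh M]
    (h : FlatMod.IsFlatOver a M) {U : S.Opens} (hU : IsAffineOpen U) {W : X.Opens} (hW : IsAffineOpen W)
    (e : W ≤ a ⁻¹ᵁ U) :
    letI := Module.compHom Γ(M, W) (a.appLE U W e).hom
    Module.Flat Γ(S, U) Γ(M, W) := by
  letI := (a.appLE U W e).hom.toAlgebra
  letI := Module.compHom Γ(M, W) (a.appLE U W e).hom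
  haveI : IsScalarTower Γ(S, U) Γ(X, W) Γ(M, W) := .of_algebraMap_smul fun _ _ => rfl
  refine Module.flat_of_isLocalized_maximal (R := Γ(S, U)) Γ(X, W) Γ(M, W)
    (fun P _ => LocalizedModule P.primeCompl Γ(M, W)) (fun P _ => LocalizedModule.mkLinearMap _ _) fun P _ => ?_
  have hx : hW.fromSpec ⟨P, inferInstance⟩ ∈ W := by
    have : hW.fromSpec ⟨P, inferInstance⟩ ∈ Set.range hW.fromSpec := ⟨_, rfl⟩
    rwa [hW.range_fromSpec] at this
  have hP : hW.primeIdealOf ⟨_, hx⟩ = ⟨P, inferInstance⟩ :=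
    hW.fromSpec.isOpenEmbedding.injective (hW.fromSpec_primeIdealOf ⟨_, hx⟩)
  have := (FlatLocus.isFlatOverAt_iff a M hU hW e _ hx).1 (h _)
  rwa [hP] at this

variable {X Y S X' Y' S' : Scheme.{u}} (a : X ⟶ S) (b : Y ⟶ S) (f : X ⟶ Y)
  (g : S' ⟶ S) (gY : Y' ⟶ Y) (b' : Y' ⟶ S') (gX : X' ⟶ X) (f' : X' ⟶ Y')
  [IsSeparated f] [QuasiCompact f] (F : X.Modules) [Coh.IsQCoh F]

theorem appLE_comp_app {U : S.Opens} {V : Y.Opens} (hVU : V ≤ b ⁻¹ᵁ U) {O : X.Opens} (le : O ≤ f ⁻¹ᵁ V)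
    (e : O ≤ (f ≫ b) ⁻¹ᵁ U) (r : Γ(S, U)) :
    X.presheaf.map (homOfLE le).op (f.app V (b.appLE U V hVU r)) = (f ≫ b).appLE U O e r :=
  congr($(Scheme.Hom.appLE_comp_appLE f b U V O hVU le) r)

/-- The terms of the Čech complex are flat over the base. -/
theorem flat_upCx_X (hf : f ≫ b = a) (hF : FlatMod.IsFlatOver a F) {U : S.Opens} (hU : IsAffineOpen U)
    {V : Y.Opens} (hV : IsAffineOpen V) (hVU : V ≤ b ⁻¹ᵁ U) {ι : Type u} [Finite ι]
    (W : ι → (f ⁻¹ᵁ V : Scheme.{u}).Opens)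
    (haff : ∀ (m : ℕ) (i : Fin (m + 1) → ι), IsAffineOpen (inter W i)) (m : ℕ) :
    letI := (b.appLE U V hVU).hom.toAlgebra
    letI := Module.compHom ((upCx f hV F W).X m) (algebraMap Γ(S, U) Γ(Y, V))
    Module.Flat Γ(S, U) ((upCx f hV F W).X m) := by
  classical
  subst hf
  letI := (b.appLE U V hVU).hom.toAlgebra
  letI := Module.compHom ((upCx f hV F W).X m) (algebraMap Γ(S, U) Γ(Y, V))
  letI := overV f hV
  haveI : Fintype (Fin (m + 1) → ι) := Fintype.ofFinite _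
  let T : (Fin (m + 1) → ι) → Type u := fun i =>
    Sec (cst Γ(Y, V) (f ⁻¹ᵁ V : Scheme.{u})) (F.restrict (f ⁻¹ᵁ V).ι) (inter W i)
  letI (i : Fin (m + 1) → ι) : Module Γ(S, U) (T i) := Module.compHom (T i) (algebraMap Γ(S, U) Γ(Y, V))
  haveI : ∀ i, Module.Flat Γ(S, U) (T i) := fun i => by
    have le : (f ⁻¹ᵁ V).ι ''ᵁ inter W i ≤ f ⁻¹ᵁ V := by
      rintro _ ⟨x, -, rfl⟩
      exact x.2
    have hO : IsAffineOpen ((f ⁻¹ᵁ V).ι ''ᵁ inter W i) := (haff m i).image_of_isOpenImmersion _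
    have e : (f ⁻¹ᵁ V).ι ''ᵁ inter W i ≤ (f ≫ b) ⁻¹ᵁ U := le.trans (f.preimage_mono hVU)
    letI := Module.compHom Γ(F, (f ⁻¹ᵁ V).ι ''ᵁ inter W i) ((f ≫ b).appLE U _ e).hom
    haveI := flat_sections_over (f ≫ b) F hF hU hO e
    let ev : T i ≃ₗ[Γ(S, U)] Γ(F, (f ⁻¹ᵁ V).ι ''ᵁ inter W i) :=
      { toFun := fun x => x
        invFun := fun x => x
        left_inv := fun _ => rfl
        right_inv := fun _ => rfl
        map_add' := fun _ _ => rfl
        map_smul' := fun r x => by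
          refine (sec_smul_overV f hV F _ le (b.appLE U V hVU r) _).trans ?_
          rw [sc_apply, appLE_comp_app b f hVU le e]
          rfl }
    exact Module.Flat.of_linearEquiv ev
  let E' : (∀ i, T i) ≃ₗ[Γ(S, U)] (upCx f hV F W).X m :=
    { toFun := fun x => x
      invFun := fun x => x
      left_inv := fun _ => rfl
      right_inv := fun _ => rfl
      map_add' := fun _ _ => rfl
      map_smul' := fun _ _ => rfl }
  haveI : Module.Flat Γ(S, U) (∀ i, T i) :=
    Module.Flat.of_linearEquiv (DFinsupp.linearEquivFunOnFintype (R := Γ(S, U)) (M := T)).symm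
  exact Module.Flat.of_linearEquiv E'.symm

/-- The Čech complex is universally exact in large degrees. -/
theorem exact'_upCx {V : Y.Opens} (hV : IsAffineOpen V) {ι : Type u} [Finite ι]
    (W : ι → (f ⁻¹ᵁ V : Scheme.{u}).Opens)
    (haff : ∀ (m : ℕ) (i : Fin (m + 1) → ι), IsAffineOpen (inter W i)) (m : ℕ) (hm : Nat.card ι ≤ m + 1)
    (M : Type u) [AddCommGroup M] [Module Γ(Y, V) M] : (upCx f hV F W).Exact' M m := by
  letI := overV f hV
  haveI := isQCoh_restrict F (f ⁻¹ᵁ V)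
  exact Cx.exact'_of_iso (K' := upCx f hV F W)
    (fun q => cochEquiv W (tensorASelfIso Γ(Y, V) (F.restrict (f ⁻¹ᵁ V).ι)) q)
    (fun q x => dL_cochMap W (tensorASelfIso Γ(Y, V) (F.restrict (f ⁻¹ᵁ V).ι)).hom q x) m M
    (exact'_cechCx (A := Γ(Y, V)) W (F.restrict (f ⁻¹ᵁ V).ι) haff m hm M)

variable [HasInjectiveResolutions X.Modules] {Δ : RDer.DerivedLES (Scheme.Modules.pushforward f)}
  (E : CohCmp.SectCmp f Δ)

include E in
/-- The Čech complex has base change along any change of the base. -/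
theorem bcBij_upCx (hf : f ≫ b = a) (hF : FlatMod.IsFlatOver a F)
    (hR : ∀ n : ℕ, FlatMod.IsFlatOver b ((Coh.Rpush f n).obj F)) {U : S.Opens} (hU : IsAffineOpen U)
    {V : Y.Opens} (hV : IsAffineOpen V) (hVU : V ≤ b ⁻¹ᵁ U) {ι : Type u} [Finite ι]
    (W : ι → (f ⁻¹ᵁ V : Scheme.{u}).Opens) (hcov : (⊤ : (f ⁻¹ᵁ V : Scheme.{u}).Opens) ≤ iSup W)
    (haff : ∀ (m : ℕ) (i : Fin (m + 1) → ι), IsAffineOpen (inter W i))
    (R' : Type u) [CommRing R'] [Algebra Γ(S, U) R'] (B : Type u) [CommRing B] [Algebra Γ(S, U) B]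
    [Algebra Γ(Y, V) B] [Algebra R' B] [IsScalarTower Γ(S, U) R' B]
    (hAB : letI := (b.appLE U V hVU).hom.toAlgebra; IsScalarTower Γ(S, U) Γ(Y, V) B)
    (hpo : letI := (b.appLE U V hVU).hom.toAlgebra; haveI := hAB; Algebra.IsPushout Γ(S, U) R' Γ(Y, V) B) (n : ℕ) :
    (upCx f hV F W).BCBij B n := by
  classical
  letI := (b.appLE U V hVU).hom.toAlgebra
  haveI := hAB
  haveI := hpo
  letI (m : ℕ) : Module Γ(S, U) ((upCx f hV F W).X m) :=
    Module.compHom ((upCx f hV F W).X m) (algebraMap Γ(S, U) Γ(Y, V))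
  haveI (m : ℕ) : IsScalarTower Γ(S, U) Γ(Y, V) ((upCx f hV F W).X m) := .of_algebraMap_smul fun _ _ => rfl
  letI (m : ℕ) : Module Γ(S, U) Γ((Coh.Rpush f m).obj F, V) :=
    Module.compHom Γ((Coh.Rpush f m).obj F, V) (algebraMap Γ(S, U) Γ(Y, V))
  haveI (m : ℕ) : IsScalarTower Γ(S, U) Γ(Y, V) Γ((Coh.Rpush f m).obj F, V) := .of_algebraMap_smul fun _ _ => rfl
  exact Cx.bcBij_of_flat_cohom (upCx f hV F W) R' B (fun m => flat_upCx_X a b f F hf hF hU hV hVU W haff m)
    (fun m => Γ((Coh.Rpush f m).obj F, V))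
    (fun m => by
      haveI : Coh.IsQCoh ((Coh.Rpush f m).obj F) := isQCoh_rpush f m
      exact flat_sections_over b _ (hR m) hU hV hVU)
    (fun m => evDown F hV W hcov haff E m) (fun m => evDown_surjective F hV W hcov haff (E := E) m)
    (fun m z => evDown_eq_zero_iff F hV W hcov haff (E := E) m z)
    (Nat.card ι) (fun m hm M _ _ => exact'_upCx f F hV W haff m (by omega) M) n

include E in
/-- The base change map is bijective over the affine pieces of the fibre product. -/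
theorem bijective_bc_app (hf : f ≫ b = a) (hY : IsPullback gY b' b g) (hX : IsPullback gX f' f gY)
    (hF : FlatMod.IsFlatOver a F) (hR : ∀ n : ℕ, FlatMod.IsFlatOver b ((Coh.Rpush f n).obj F))
    [HasInjectiveResolutions X'.Modules] {Δ' : RDer.DerivedLES (Scheme.Modules.pushforward f')}
    {E' : CohCmp.SectCmp f' Δ'} (B : CohCmp.GenBC f gY f' gX hX.w E E') (n : ℕ)
    {U : S.Opens} (hU : IsAffineOpen U) {V : Y.Opens} (hV : IsAffineOpen V) (hVU : V ≤ b ⁻¹ᵁ U)
    {U' : S'.Opens} (hU' : IsAffineOpen U') (hU'U : U' ≤ g ⁻¹ᵁ U) :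
    IsAffineOpen (gY ⁻¹ᵁ V ⊓ b' ⁻¹ᵁ U') ∧ Function.Bijective ((B.bc n F).app (gY ⁻¹ᵁ V ⊓ b' ⁻¹ᵁ U')) := by
  obtain ⟨hO, hpo⟩ := PullbackMod.isPushout_appLE hY hU hV hU' hVU hU'U
  refine ⟨hO, ?_⟩
  let O := gY ⁻¹ᵁ V ⊓ b' ⁻¹ᵁ U'
  haveI : IsSeparated f' := MorphismProperty.of_isPullback (P := @IsSeparated) hX inferInstance
  haveI : QuasiCompact f' := MorphismProperty.of_isPullback (P := @QuasiCompact) hX inferInstance
  haveI : Coh.IsQCoh ((Scheme.Modules.pullback gX).obj F) := PullbackMod.isQCoh_pullback _ F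
  haveI := isQCoh_restrict F (f ⁻¹ᵁ V)
  haveI := isQCoh_restrict ((Scheme.Modules.pullback gX).obj F) (f' ⁻¹ᵁ O)
  letI := overV f hV
  haveI : IsSeparated (str Γ(Y, V) (f ⁻¹ᵁ V : Scheme.{u})) :=
    MorphismProperty.of_isPullback (P := @IsSeparated) (isPullback_restOver f hV) inferInstance
  haveI : QuasiCompact (str Γ(Y, V) (f ⁻¹ᵁ V : Scheme.{u})) :=
    MorphismProperty.of_isPullback (P := @QuasiCompact) (isPullback_restOver f hV) inferInstance
  obtain ⟨ι, hι, W, hcov, haff⟩ := exists_affine_cover (str Γ(Y, V) (f ⁻¹ᵁ V : Scheme.{u}))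
  obtain ⟨k1, k2⟩ := bc_app_criterion hX B F hV hO inf_le_left W hcov haff n
  letI : Algebra Γ(S, U) Γ(S', U') := (g.appLE U U' hU'U).hom.toAlgebra
  letI : Algebra Γ(Y, V) Γ(Y', O) := (gY.appLE V O inf_le_left).hom.toAlgebra
  letI : Algebra Γ(S', U') Γ(Y', O) := (b'.appLE U' O inf_le_right).hom.toAlgebra
  letI : Algebra Γ(S, U) Γ(Y', O) := ((gY.appLE V O inf_le_left).hom.comp (b.appLE U V hVU).hom).toAlgebra
  haveI : IsScalarTower Γ(S, U) Γ(S', U') Γ(Y', O) := .of_algebraMap_eq' (by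
    show ((b.appLE U V hVU) ≫ gY.appLE V O inf_le_left).hom =
      ((g.appLE U U' hU'U) ≫ b'.appLE U' O inf_le_right).hom
    simp only [Scheme.Hom.appLE_comp_appLE, hY.w])
  have hAB : letI := (b.appLE U V hVU).hom.toAlgebra; IsScalarTower Γ(S, U) Γ(Y, V) Γ(Y', O) :=
    letI := (b.appLE U V hVU).hom.toAlgebra
    .of_algebraMap_eq fun _ => rfl
  obtain ⟨b1, b2⟩ := bcBij_upCx a b f F E hf hF hR hU hV hVU W hcov haff Γ(S', U') Γ(Y', O) hAB
    (by
      letI := (b.appLE U V hVU).hom.toAlgebra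
      haveI := hAB
      first
        | exact hpo
        | exact Algebra.IsPushout.symm hpo) n
  exact ⟨k2.2 b2, k1.2 b1⟩

end Groth.Agent.GenBCLib
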