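import Groth.Agent.GenBCLib.BCAlg
import Mathlib.LinearAlgebra.Matrix.Charpoly.LinearMap
import Mathlib.Algebra.Polynomial.Module.AEval
import Mathlib.RingTheory.LocalRing.Module

/-!
# Cohomology and base change for a complex of finite projective modules

`L.Good a n` says that the coboundaries in degree `n + 1` split off from `L.X (n + 1)` after
inverting `a`, in the elementary form of a linear map which is multiplication by `a` on them.
-/

set_option autoImplicit false
set_option backward.isDefEq.respectTransparency false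
set_option linter.unusedSectionVars false

universe u

open TensorProduct LinearMap

noncomputable section

namespace Groth.Agent.BCLib.Cx

variable {A : Type u} [CommRing A] (L : Cx A)

/-- The coboundaries in degree `n` split off after inverting `a`. -/
def Split (a : A) (n : ℕ) : Prop := ∃ r : L.X n →ₗ[A] ↥(L.bd n), ∀ x : ↥(L.bd n), r x.1 = a • x

/-- Cohomology in degree `n` commutes with base change after inverting `a`. -/
def Good (a : A) (n : ℕ) : Prop := L.Split a (n + 1)

theorem split_zero (a : A) : L.Split a 0 :=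
  ⟨0, fun x => by
    have hx : x = 0 := Subtype.ext ((Submodule.mem_bot A).1 x.2)
    rw [hx, smul_zero]; rfl⟩

theorem Split.mul_right {L : Cx A} {a : A} {n : ℕ} (h : L.Split a n) (b : A) : L.Split (a * b) n := by
  obtain ⟨r, hr⟩ := h
  exact ⟨b • r, fun x => by rw [LinearMap.smul_apply, hr, smul_smul, mul_comm b a]⟩

theorem Split.mul_left {L : Cx A} {a : A} {n : ℕ} (h : L.Split a n) (b : A) : L.Split (b * a) n :=
  mul_comm a b ▸ h.mul_right b

theorem Good.mul_right {L : Cx A} {a : A} {n : ℕ} (h : L.Good a n) (b : A) : L.Good (a * b) n :=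
  Split.mul_right h b

theorem Good.mul_left {L : Cx A} {a : A} {n : ℕ} (h : L.Good a n) (b : A) : L.Good (b * a) n :=
  Split.mul_left h b

variable [∀ n, Module.Projective A (L.X n)]

/-- A projection onto the cocycles after inverting `a`. -/
theorem exists_ker_proj {a : A} {n : ℕ} (h : L.Good a n) :
    ∃ e : L.X n →ₗ[A] ↥(LinearMap.ker (L.d n)), ∀ x : ↥(LinearMap.ker (L.d n)), e x.1 = a • x := by
  obtain ⟨r, hr⟩ := h
  obtain ⟨l, hl⟩ := Module.projective_lifting_property (L.d n).rangeRestrict r (L.d n).surjective_rangeRestrict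
  have hl' : ∀ y, L.d n (l y) = (r y).1 := fun y => congrArg Subtype.val (congr($hl y))
  let e₀ : L.X n →ₗ[A] L.X n := a • LinearMap.id - l ∘ₗ L.d n
  refine ⟨e₀.codRestrict _ fun x => LinearMap.mem_ker.2 ?_, fun x => Subtype.ext ?_⟩
  · show L.d n (a • x - l (L.d n x)) = 0
    rw [map_sub, map_smul, hl', hr ⟨L.d n x, x, rfl⟩, sub_eq_zero]
    rfl
  · show a • x.1 - l (L.d n x.1) = a • x.1
    rw [LinearMap.mem_ker.1 x.2, map_zero, sub_zero]

/-- Base change in a good degree. -/
theorem Good.bcBij {L : Cx A} [∀ n, Module.Projective A (L.X n)] {a : A} {n : ℕ} (h : L.Good a n)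
    (B : Type u) [CommRing B] [Algebra A B] (ha : IsUnit (algebraMap A B a)) : L.BCBij B n := by
  obtain ⟨e, he⟩ := L.exists_ker_proj h
  obtain ⟨r, hr⟩ := h
  obtain ⟨l, hl⟩ := Module.projective_lifting_property (L.d n).rangeRestrict r (L.d n).surjective_rangeRestrict
  obtain ⟨u, hu⟩ := ha
  have hae : ∀ w : B ⊗[A] ↥(LinearMap.ker (L.d n)),
      e.baseChange B (L.zIncl B n w) = algebraMap A B a • w := fun w => by
    rw [← LinearMap.comp_apply, ← LinearMap.baseChange_comp,
      show e ∘ₗ (LinearMap.ker (L.d n)).subtype = a • LinearMap.id from LinearMap.ext he,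
      LinearMap.baseChange_smul, LinearMap.smul_apply, LinearMap.baseChange_id, LinearMap.id_apply,
      algebraMap_smul]
  refine ⟨fun z hz => ?_, fun w hw => ?_⟩
  · -- `a • z` comes from `e`, as `z` is killed by `d`
    let e₀ : L.X n →ₗ[A] L.X n := a • LinearMap.id - l ∘ₗ L.d n
    have he₀ : ∀ x, ∃ y : ↥(LinearMap.ker (L.d n)), y.1 = e₀ x := fun x => by
      refine ⟨⟨e₀ x, LinearMap.mem_ker.2 ?_⟩, rfl⟩
      show L.d n (a • x - l (L.d n x)) = 0
      rw [map_sub, map_smul, show L.d n (l (L.d n x)) = (r (L.d n x)).1 from congrArg Subtype.val (congr($hl _)),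
        hr ⟨L.d n x, x, rfl⟩, sub_eq_zero]
      rfl
    choose e' he' using he₀
    let e'' : L.X n →ₗ[A] ↥(LinearMap.ker (L.d n)) :=
      { toFun := e'
        map_add' := fun x y => Subtype.ext (by rw [he', Submodule.coe_add, he', he', map_add])
        map_smul' := fun c x => Subtype.ext (by rw [he', RingHom.id_apply, Submodule.coe_smul, he', map_smul]) }
    have h1 : L.zIncl B n (e''.baseChange B z) = algebraMap A B a • z := by
      rw [← LinearMap.comp_apply, ← LinearMap.baseChange_comp,
        show (LinearMap.ker (L.d n)).subtype ∘ₗ e'' = a • LinearMap.id - l ∘ₗ L.d n from LinearMap.ext he',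
        LinearMap.baseChange_sub, LinearMap.sub_apply, LinearMap.baseChange_comp, LinearMap.comp_apply,
        LinearMap.mem_ker.1 hz, map_zero, sub_zero, LinearMap.baseChange_smul, LinearMap.smul_apply,
        LinearMap.baseChange_id, LinearMap.id_apply, algebraMap_smul]
    refine ⟨(↑u⁻¹ : B) • e''.baseChange B z, ?_⟩
    rw [map_smul, h1, ← hu, smul_smul, Units.inv_mul, one_smul, sub_self]
    exact zero_mem _
  · have key : algebraMap A B a • w ∈ LinearMap.range (L.bIncl B n) := by
      rw [← hae]
      cases n with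
      | zero =>
        rw [(Submodule.mem_bot B).1 hw, map_zero]
        exact zero_mem _
      | succ m =>
        obtain ⟨y, hy⟩ := hw
        let rr : L.X m →ₗ[A] ↥(L.bd (m + 1)) := (L.d m).rangeRestrict
        refine ⟨algebraMap A B a • rr.baseChange B y, ?_⟩
        rw [← hy, map_smul]
        have hb : Submodule.inclusion (L.bd_le_ker (m + 1)) ∘ₗ rr =
            (L.d m).codRestrict _ fun x => LinearMap.mem_ker.2 (L.d_d_apply m x) := rfl
        have he1 : e ∘ₗ L.d m = a • ((L.d m).codRestrict _ fun x => LinearMap.mem_ker.2 (L.d_d_apply m x)) :=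
          LinearMap.ext fun x => he ⟨L.d m x, LinearMap.mem_ker.2 (L.d_d_apply m x)⟩
        show algebraMap A B a • ((Submodule.inclusion (L.bd_le_ker (m + 1))).baseChange B)
          (rr.baseChange B y) = _
        rw [← LinearMap.comp_apply, ← LinearMap.baseChange_comp, hb, ← LinearMap.comp_apply (f := e.baseChange B),
          ← LinearMap.baseChange_comp, he1, LinearMap.baseChange_smul, LinearMap.smul_apply, algebraMap_smul]
    have := Submodule.smul_mem _ (↑u⁻¹ : B) key
    rwa [← hu, smul_smul, Units.inv_mul, one_smul] at this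

/-- The class in cohomology is killed by `a` when the cocycles are coboundaries up to `a`. -/
theorem split_of_kills {a b : A} {n : ℕ} (h : L.Good a n)
    (hk : ∀ x : ↥(LinearMap.ker (L.d n)), b • x.1 ∈ L.bd n) : L.Split (b * a) n := by
  obtain ⟨e, he⟩ := L.exists_ker_proj h
  let r₀ : L.X n →ₗ[A] L.X n := b • ((LinearMap.ker (L.d n)).subtype ∘ₗ e)
  refine ⟨r₀.codRestrict _ fun x => hk (e x), fun x => Subtype.ext ?_⟩
  show b • (e x.1).1 = (b * a) • x.1
  rw [mul_smul, show e x.1 = a • (⟨x.1, L.bd_le_ker n x.2⟩ : ↥(LinearMap.ker (L.d n))) from he ⟨x.1, L.bd_le_ker n x.2⟩]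
  rfl

end Groth.Agent.BCLib.Cx

namespace Groth.Agent.GenBCLib

theorem exists_comp_eq_pow {A : Type u} [CommRing A] {K : Type u} [AddCommGroup K] [Module A K] [Module.Finite A K]
    (φ : Module.End A K) (u : A) (h : ∀ m, ∃ m', φ m' = u • m) :
    ∃ (ψ : Module.End A K) (k : ℕ), ∀ m, ψ (φ m) = u ^ k • m := by
  let M' := Module.AEval' φ
  let f : Module.End (Polynomial A) M' := algebraMap (Polynomial A) _ (Polynomial.C u)
  have hf : LinearMap.range f ≤ (Ideal.span {Polynomial.X} : Ideal (Polynomial A)) • ⊤ := by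
    rintro _ ⟨m, rfl⟩
    obtain ⟨m', hm'⟩ := h ((Module.AEval'.of φ).symm m)
    have : f m = (Polynomial.X : Polynomial A) • Module.AEval'.of φ m' := by
      rw [show f m = Polynomial.C u • m from rfl]
      rw [Module.AEval.X_smul_of, Module.AEval.C_smul]
      rw [show φ • m' = φ m' from rfl, hm', map_smul, LinearEquiv.apply_symm_apply]
    rw [this]
    exact Submodule.smul_mem_smul (Ideal.mem_span_singleton_self _) Submodule.mem_top
  obtain ⟨P, hmon, -, hcoeff, hP⟩ :=
    LinearMap.exists_monic_and_natDegree_eq_and_coeff_mem_pow_and_aeval_eq_zero (Polynomial A) f _ hf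
  let R : Polynomial A := P.eval (Polynomial.C u)
  have hR : ∀ m : M', R • m = 0 := fun m => by
    have h1 : Polynomial.aeval f P = algebraMap (Polynomial A) (Module.End (Polynomial A) M') R :=
      Polynomial.aeval_algebraMap_apply_eq_algebraMap_eval (Polynomial.C u) P
    have h2 := congr($(h1.symm.trans hP) m)
    rwa [Module.algebraMap_end_apply, LinearMap.zero_apply] at h2
  have h0 : R.coeff 0 = u ^ P.natDegree := by
    have h1 : P.map Polynomial.constantCoeff = Polynomial.X ^ P.natDegree := by
      ext k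
      rw [Polynomial.coeff_map, Polynomial.coeff_X_pow]
      rcases lt_trichotomy k P.natDegree with hk | hk | hk
      · rw [if_neg hk.ne]
        have hmem : P.coeff k ∈ Ideal.span {(Polynomial.X : Polynomial A)} :=
          Ideal.pow_le_self (by omega) (hcoeff k)
        obtain ⟨q, hq⟩ := Ideal.mem_span_singleton'.1 hmem
        rw [← hq, map_mul, Polynomial.constantCoeff_apply, Polynomial.constantCoeff_apply,
          Polynomial.coeff_X_zero, mul_zero]
      · rw [if_pos hk, hk, hmon.coeff_natDegree, map_one]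
      · rw [if_neg hk.ne', Polynomial.coeff_eq_zero_of_natDegree_lt hk, map_zero]
    have h2 : Polynomial.constantCoeff R =
        (P.map Polynomial.constantCoeff).eval (Polynomial.constantCoeff (Polynomial.C u)) := by
      rw [Polynomial.eval_map, Polynomial.eval₂_hom]
    rw [h1, Polynomial.eval_pow, Polynomial.eval_X, Polynomial.constantCoeff_apply,
      Polynomial.constantCoeff_apply, Polynomial.coeff_C_zero] at h2
    exact h2
  refine ⟨-(Polynomial.aeval φ R.divX), P.natDegree, fun m => ?_⟩
  have h3 : Polynomial.aeval φ R m = 0 := by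
    have := congrArg (Module.AEval'.of φ).symm (hR (Module.AEval'.of φ m))
    rwa [Module.AEval.of_symm_smul, map_zero, LinearEquiv.symm_apply_apply] at this
  rw [← Polynomial.divX_mul_X_add R, map_add, map_mul, Polynomial.aeval_X, Polynomial.aeval_C,
    LinearMap.add_apply, Module.algebraMap_end_apply, Module.End.mul_apply, h0] at h3
  rw [LinearMap.neg_apply]
  exact neg_eq_of_add_eq_zero_right h3

variable {A : Type u} [CommRing A] {K : Type u} [AddCommGroup K] [Module A K] (p : Ideal A) [p.IsPrime]

theorem exists_smul_eq_one_tmul (y : p.ResidueField ⊗[A] K) :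
    ∃ (t : A) (m : K), t ∉ p ∧ t • y = (1 : p.ResidueField) ⊗ₜ[A] m := by
  have h1 : ∀ c : p.ResidueField, ∃ (t : A) (s : A), t ∉ p ∧ t • c = algebraMap A p.ResidueField s := fun c => by
    obtain ⟨x, y, hy, hxy⟩ := IsFractionRing.div_surjective (A := A ⧸ p) c
    obtain ⟨x, rfl⟩ := Ideal.Quotient.mk_surjective x
    obtain ⟨y, rfl⟩ := Ideal.Quotient.mk_surjective y
    have hy' : y ∉ p := fun h => nonZeroDivisors.ne_zero hy (Ideal.Quotient.eq_zero_iff_mem.2 h)
    refine ⟨y, x, hy', ?_⟩
    have hne : algebraMap (A ⧸ p) p.ResidueField (Ideal.Quotient.mk p y) ≠ 0 :=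
      IsFractionRing.to_map_ne_zero_of_mem_nonZeroDivisors hy
    rw [← hxy, Algebra.smul_def, IsScalarTower.algebraMap_apply A (A ⧸ p) p.ResidueField y,
      IsScalarTower.algebraMap_apply A (A ⧸ p) p.ResidueField x, Ideal.Quotient.algebraMap_eq]
    field_simp
  induction y using TensorProduct.induction_on with
  | zero => exact ⟨1, 0, p.primeCompl.one_mem, by simp⟩
  | tmul c m =>
    obtain ⟨t, s, ht, hts⟩ := h1 c
    refine ⟨t, s • m, ht, ?_⟩
    rw [TensorProduct.smul_tmul', hts, TensorProduct.tmul_smul, TensorProduct.smul_tmul',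
      Algebra.algebraMap_eq_smul_one]
  | add a b ha hb =>
    obtain ⟨t, m, ht, htm⟩ := ha
    obtain ⟨t', m', ht', htm'⟩ := hb
    refine ⟨t * t', t' • m + t • m', p.primeCompl.mul_mem ht ht', ?_⟩
    rw [TensorProduct.tmul_add, TensorProduct.tmul_smul, TensorProduct.tmul_smul, ← htm, ← htm', smul_smul,
      smul_smul, smul_add, mul_comm t' t]

theorem exists_smul_mem_range [Module.Finite A K] {N : Type u} [AddCommGroup N] [Module A N] (φ : N →ₗ[A] K)
    (h : Function.Surjective (φ.baseChange p.ResidueField)) : ∃ u ∉ p, ∀ m, ∃ m', φ m' = u • m := by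
  let Q := K ⧸ LinearMap.range φ
  have h0 : (LinearMap.range φ).mkQ.baseChange p.ResidueField = 0 := LinearMap.ext fun y => by
    obtain ⟨w, rfl⟩ := h y
    rw [← LinearMap.comp_apply, ← LinearMap.baseChange_comp, LinearMap.range_mkQ_comp,
      LinearMap.baseChange_zero, LinearMap.zero_apply, LinearMap.zero_apply]
  haveI : Subsingleton (p.ResidueField ⊗[A] Q) := subsingleton_of_forall_eq 0 fun y => by
    have hs : Function.Surjective ((LinearMap.range φ).mkQ.baseChange p.ResidueField) := by
      rw [LinearMap.baseChange_eq_ltensor]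
      exact LinearMap.lTensor_surjective _ (Submodule.mkQ_surjective _)
    obtain ⟨w, rfl⟩ := hs y
    rw [h0]; rfl
  have hns : (⟨p, inferInstance⟩ : PrimeSpectrum A) ∉ Module.support A Q := by
    rw [Module.mem_support_iff_nontrivial_residueField_tensorProduct, not_nontrivial_iff_subsingleton]
    infer_instance
  obtain ⟨S, hS⟩ := Module.Finite.fg_top (R := A) (M := Q)
  rw [Module.notMem_support_iff'] at hns
  choose r hr hrq using hns
  refine ⟨∏ q ∈ S, r q, fun hmem => ?_, fun m => ?_⟩
  · obtain ⟨q, -, hq⟩ := (Ideal.IsPrime.prod_mem_iff (p := p)).1 hmem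
    exact hr q hq
  · have hall : ∀ y : Q, (∏ q ∈ S, r q) • y = 0 := by
      intro y
      have hy : y ∈ Submodule.span A (S : Set Q) := hS ▸ Submodule.mem_top
      induction hy using Submodule.span_induction with
      | mem y hy =>
        obtain ⟨c, hc⟩ := Finset.dvd_prod_of_mem r hy
        rw [hc, mul_comm, mul_smul, hrq, smul_zero]
      | zero => rw [smul_zero]
      | add a b _ _ ha hb => rw [smul_add, ha, hb, add_zero]
      | smul c a _ ha => rw [smul_comm, ha, smul_zero]
    have := hall (Submodule.Quotient.mk m)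
    rw [← Submodule.Quotient.mk_smul, Submodule.Quotient.mk_eq_zero] at this
    exact this

/-- A finitely generated submodule of a finite projective module which stays a submodule at `p` splits off near `p`. -/
theorem exists_retraction {F : Type u} [AddCommGroup F] [Module A F] [Module.Finite A F] [Module.Projective A F]
    (ι : K →ₗ[A] F) [Module.Finite A K] (h : Function.Injective (ι.baseChange p.ResidueField)) :
    ∃ (a : A) (r : F →ₗ[A] K), a ∉ p ∧ ∀ m, r (ι m) = a • m := by
  classical
  let k := p.ResidueField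
  obtain ⟨ρ, hρ⟩ := LinearMap.exists_leftInverse_of_injective (ι.baseChange k) (LinearMap.ker_eq_bot.2 h)
  let g₀ : F →ₗ[A] k ⊗[A] K := (ρ.restrictScalars A).comp (TensorProduct.mk A k F 1)
  let π : K →ₗ[A] k ⊗[A] K := TensorProduct.mk A k K 1
  obtain ⟨S, hS⟩ := Module.Finite.fg_top (R := A) (M := F)
  choose t m ht htm using fun y => exists_smul_eq_one_tmul p (g₀ y)
  let T := ∏ y ∈ S, t y
  have hT : T ∉ p := fun hmem => by
    obtain ⟨q, -, hq⟩ := (Ideal.IsPrime.prod_mem_iff (p := p)).1 hmem
    exact ht q hq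
  have hmem : ∀ x : F, (T • g₀) x ∈ LinearMap.range π := by
    intro x
    have hx : x ∈ Submodule.span A (S : Set F) := hS ▸ Submodule.mem_top
    induction hx using Submodule.span_induction with
    | mem y hy =>
      obtain ⟨c, hc⟩ := Finset.dvd_prod_of_mem t hy
      refine ⟨c • m y, ?_⟩
      rw [map_smul, show π (m y) = (1 : k) ⊗ₜ[A] m y from rfl, ← htm, LinearMap.smul_apply, smul_smul]
      exact congrArg (· • g₀ y) (mul_comm c (t y) |>.trans hc.symm)
    | zero => rw [map_zero]; exact zero_mem _
    | add a b _ _ ha hb => rw [map_add]; exact add_mem ha hb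
    | smul c a _ ha => rw [map_smul]; exact Submodule.smul_mem _ c ha
  obtain ⟨r, hr⟩ := Module.projective_lifting_property π.rangeRestrict
    ((T • g₀).codRestrict (LinearMap.range π) hmem) π.surjective_rangeRestrict
  let φ : Module.End A K := r ∘ₗ ι
  have hφ : ∀ x, (1 : k) ⊗ₜ[A] φ x = T • ((1 : k) ⊗ₜ[A] x) := fun x => by
    refine (congrArg Subtype.val (congr($hr (ι x)))).trans ?_
    show T • ρ ((1 : k) ⊗ₜ[A] ι x) = _
    rw [← LinearMap.baseChange_tmul, ← LinearMap.comp_apply, hρ, LinearMap.id_apply]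
  have hsurj : Function.Surjective (φ.baseChange k) := fun y => by
    have hTk : algebraMap A k T ≠ 0 := fun h0 => hT (Ideal.algebraMap_residueField_eq_zero.1 h0)
    refine ⟨(algebraMap A k T)⁻¹ • y, ?_⟩
    have e : φ.baseChange k = algebraMap A k T • LinearMap.id := by
      refine TensorProduct.AlgebraTensorModule.curry_injective (LinearMap.ext_ring (LinearMap.ext fun x => ?_))
      show φ.baseChange k ((1 : k) ⊗ₜ[A] x) = algebraMap A k T • ((1 : k) ⊗ₜ[A] x)
      rw [LinearMap.baseChange_tmul, hφ, algebraMap_smul]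
    rw [map_smul, e, LinearMap.smul_apply, LinearMap.id_apply, smul_smul, inv_mul_cancel₀ hTk, one_smul]
  obtain ⟨u, hu, hu'⟩ := exists_smul_mem_range p φ hsurj
  obtain ⟨ψ, N, hψ⟩ := exists_comp_eq_pow φ u hu'
  exact ⟨u ^ N, ψ ∘ₗ r, fun h => hu (Ideal.IsPrime.mem_of_pow_mem inferInstance N h), hψ⟩

end Groth.Agent.GenBCLib

namespace Groth.Agent.BCLib.Cx

variable {A : Type u} [CommRing A] (L : Cx A) [∀ n, Module.Finite A (L.X n)] [∀ n, Module.Projective A (L.X n)]

/-- The local criterion: surjectivity at a point gives base change near it. -/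
theorem exists_good_of_bcSurj (p : Ideal A) [p.IsPrime] (n : ℕ) (h : L.BCSurj p.ResidueField n) :
    ∃ a ∉ p, L.Good a n := by
  let k := p.ResidueField
  haveI : Module.Finite A ↥(L.bd (n + 1)) := Module.Finite.range (L.d n)
  let rr : L.X n →ₗ[A] ↥(L.bd (n + 1)) := (L.d n).rangeRestrict
  suffices hinj : Function.Injective ((L.bd (n + 1)).subtype.baseChange k) by
    obtain ⟨a, r, ha, hr⟩ := GenBCLib.exists_retraction p (L.bd (n + 1)).subtype hinj
    exact ⟨a, ha, r, hr⟩
  refine (injective_iff_map_eq_zero _).2 fun w hw => ?_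
  have hs : Function.Surjective (rr.baseChange k) := by
    rw [LinearMap.baseChange_eq_ltensor]
    exact LinearMap.lTensor_surjective _ (show Function.Surjective rr from (L.d n).surjective_rangeRestrict)
  obtain ⟨z, rfl⟩ := hs w
  have hz : z ∈ L.zBC k n := by
    rw [LinearMap.mem_ker]
    rw [← LinearMap.comp_apply, ← LinearMap.baseChange_comp] at hw
    exact hw
  obtain ⟨v, hv⟩ := h z hz
  have h1 : rr.baseChange k (L.zIncl k n v) = 0 := by
    rw [← LinearMap.comp_apply, ← LinearMap.baseChange_comp,
      show rr ∘ₗ (LinearMap.ker (L.d n)).subtype = 0 from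
        LinearMap.ext fun x => Subtype.ext (LinearMap.mem_ker.1 x.2),
      LinearMap.baseChange_zero, LinearMap.zero_apply]
  have h2 : rr.baseChange k (z - L.zIncl k n v) = 0 := by
    cases n with
    | zero => rw [(Submodule.mem_bot k).1 hv, map_zero]
    | succ m =>
      obtain ⟨y, hy⟩ := hv
      rw [← hy, ← LinearMap.comp_apply, ← LinearMap.baseChange_comp,
        show rr ∘ₗ L.d m = 0 from LinearMap.ext fun x => Subtype.ext (L.d_d_apply m x),
        LinearMap.baseChange_zero, LinearMap.zero_apply]
  rw [map_sub, h1, sub_zero] at h2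
  exact h2

/-- Vanishing at a point gives vanishing and base change in two degrees near it. -/
theorem exists_split_of_vanish (p : Ideal A) [p.IsPrime] (n : ℕ) (h : L.zBC p.ResidueField n ≤ L.bBC p.ResidueField n) :
    ∃ a ∉ p, L.Good a n ∧ L.Split a n ∧ ∀ x : ↥(LinearMap.ker (L.d n)), a • x.1 ∈ L.bd n := by
  let k := p.ResidueField
  obtain ⟨a, ha, hg⟩ := L.exists_good_of_bcSurj p n fun z hz => ⟨0, by rw [map_zero, sub_zero]; exact h hz⟩
  obtain ⟨e, he⟩ := L.exists_ker_proj hg
  have hak : IsUnit (algebraMap A k a) :=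
    isUnit_iff_ne_zero.2 fun h0 => ha (Ideal.algebraMap_residueField_eq_zero.1 h0)
  -- the finite module of classes of `e`
  let qe : L.X n →ₗ[A] ↥(LinearMap.ker (L.d n)) ⧸ LinearMap.range (Submodule.inclusion (L.bd_le_ker n)) :=
    (Submodule.mkQ _).comp e
  let K₁ := LinearMap.range qe
  haveI : Module.Finite A ↥K₁ := Module.Finite.range qe
  suffices hK : ∀ y, (0 : L.X n →ₗ[A] ↥K₁).baseChange k (0 : k ⊗[A] L.X n) = y by
    obtain ⟨u, hu, hu'⟩ := GenBCLib.exists_smul_mem_range p (0 : L.X n →ₗ[A] ↥K₁) fun y => ⟨0, hK y⟩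
    refine ⟨u * a * a, p.primeCompl.mul_mem (p.primeCompl.mul_mem hu ha) ha, hg.mul_left (u * a), ?_, fun x => ?_⟩
    · refine L.split_of_kills (b := u * a) hg fun x => ?_
      obtain ⟨m', hm'⟩ := hu' ⟨qe x.1, x.1, rfl⟩
      have := congrArg Subtype.val hm'.symm
      rw [LinearMap.zero_apply, Submodule.coe_smul, Submodule.coe_zero] at this
      show (u * a) • x.1 ∈ L.bd n
      have h3 : u • (Submodule.Quotient.mk (e x.1) : ↥(LinearMap.ker (L.d n)) ⧸ LinearMap.range (Submodule.inclusion (L.bd_le_ker n))) = 0 := this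
      rw [he, ← Submodule.Quotient.mk_smul, Submodule.Quotient.mk_eq_zero, L.bd_mem_iff, smul_smul] at h3
      exact h3
    · obtain ⟨m', hm'⟩ := hu' ⟨qe x.1, x.1, rfl⟩
      have h3 : u • (Submodule.Quotient.mk (e x.1) : ↥(LinearMap.ker (L.d n)) ⧸ LinearMap.range (Submodule.inclusion (L.bd_le_ker n))) = 0 := by
        have := congrArg Subtype.val hm'.symm
        rwa [LinearMap.zero_apply, Submodule.coe_smul, Submodule.coe_zero] at this
      rw [he, ← Submodule.Quotient.mk_smul, Submodule.Quotient.mk_eq_zero, L.bd_mem_iff, smul_smul] at h3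
      rw [mul_comm (u * a) a, mul_smul]
      exact Submodule.smul_mem _ a h3
  intro y
  obtain ⟨hsurj, hinj⟩ := hg.bcBij k hak
  have hs : Function.Surjective (qe.rangeRestrict.baseChange k) := by
    rw [LinearMap.baseChange_eq_ltensor]
    exact LinearMap.lTensor_surjective _ qe.surjective_rangeRestrict
  obtain ⟨w, rfl⟩ := hs y
  rw [map_zero]
  obtain ⟨b, hb⟩ := hinj (e.baseChange k w) (h (L.zIncl_mem k n _))
  obtain ⟨u', hu'⟩ := hak
  -- multiply by the unit `a` and use that classes of `e ∘ incl` are `a` times classes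
  have hq : (algebraMap A k a) • qe.rangeRestrict.baseChange k w =
      (qe.rangeRestrict ∘ₗ (LinearMap.ker (L.d n)).subtype).baseChange k (e.baseChange k w) := by
    rw [← LinearMap.comp_apply, ← LinearMap.baseChange_comp, algebraMap_smul, ← LinearMap.smul_apply,
      ← LinearMap.baseChange_smul]
    congr 2
    refine LinearMap.ext fun x => Subtype.ext ?_
    show a • (Submodule.Quotient.mk (e x) : ↥(LinearMap.ker (L.d n)) ⧸ _) = Submodule.Quotient.mk (e (e x).1)
    rw [he, Submodule.Quotient.mk_smul]
  have h0 : (qe.rangeRestrict ∘ₗ (LinearMap.ker (L.d n)).subtype) ∘ₗ Submodule.inclusion (L.bd_le_ker n) = 0 :=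
    LinearMap.ext fun x => Subtype.ext (by
      show (Submodule.Quotient.mk (e x.1) : ↥(LinearMap.ker (L.d n)) ⧸ LinearMap.range (Submodule.inclusion (L.bd_le_ker n))) = 0
      rw [he ⟨x.1, L.bd_le_ker n x.2⟩, Submodule.Quotient.mk_smul]
      exact smul_eq_zero_of_right a
        ((Submodule.Quotient.mk_eq_zero _).2 (LinearMap.mem_range_self (Submodule.inclusion (L.bd_le_ker n)) x)))
  rw [← hb, ← LinearMap.comp_apply, ← LinearMap.baseChange_comp, h0, LinearMap.baseChange_zero,
    LinearMap.zero_apply, ← hu', ← Units.smul_def, smul_eq_zero_iff_eq] at hq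
  exact hq.symm

end Groth.Agent.BCLib.Cx
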