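import Groth.Agent.GenBCLib.GoodAlg
import Groth.Agent.BCLib.Semi
import Mathlib.Algebra.Module.FinitePresentation

/-!
# Splitting of coboundaries and projectivity after localization
-/

set_option autoImplicit false
set_option backward.isDefEq.respectTransparency false
set_option linter.unusedSectionVars false
set_option linter.style.haveILetI false

universe u

open TensorProduct LinearMap

noncomputable section

namespace Groth.Agent.GenBCLib

variable {A : Type u} [CommRing A] (a : A)

/-- The localization of a module away from `a`, as a base change. -/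
abbrev toAway (M : Type u) [AddCommGroup M] [Module A M] : M →ₗ[A] Localization.Away a ⊗[A] M :=
  TensorProduct.mk A (Localization.Away a) M 1

instance isLocalizedModule_toAway (M : Type u) [AddCommGroup M] [Module A M] :
    IsLocalizedModule (Submonoid.powers a) (toAway a M) :=
  (isLocalizedModule_iff_isBaseChange (Submonoid.powers a) (Localization.Away a) _).2 (TensorProduct.isBaseChange A M _)

/-- A retract up to a power of `a` localizes to a retract. -/
theorem projective_away_of_retract {M N : Type u} [AddCommGroup M] [Module A M] [AddCommGroup N] [Module A N]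
    [Module.Projective A N] (i : M →ₗ[A] N) (p : N →ₗ[A] M) (k : ℕ) (h : ∀ m, p (i m) = a ^ k • m) :
    Module.Projective (Localization.Away a) (Localization.Away a ⊗[A] M) := by
  let B := Localization.Away a
  obtain ⟨u, hu⟩ : IsUnit (algebraMap A B (a ^ k)) :=
    IsLocalization.map_units B (⟨a ^ k, k, rfl⟩ : Submonoid.powers a)
  refine Module.Projective.of_split ((↑u⁻¹ : B) • i.baseChange B) (p.baseChange B) ?_
  rw [LinearMap.comp_smul, ← LinearMap.baseChange_comp, show p ∘ₗ i = a ^ k • LinearMap.id from LinearMap.ext h,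
    LinearMap.baseChange_smul, LinearMap.baseChange_id]
  refine LinearMap.ext fun x => ?_
  simp only [LinearMap.smul_apply, LinearMap.id_apply]
  rw [← algebraMap_smul B (a ^ k) x, smul_smul, ← hu, Units.inv_mul, one_smul]

/-- A retract up to a power of `a` of a finite module localizes to a finite module. -/
theorem finite_away_of_retract {M N : Type u} [AddCommGroup M] [Module A M] [AddCommGroup N] [Module A N]
    [Module.Finite A N] (i : M →ₗ[A] N) (p : N →ₗ[A] M) (k : ℕ) (h : ∀ m, p (i m) = a ^ k • m) :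
    Module.Finite (Localization.Away a) (Localization.Away a ⊗[A] M) := by
  let B := Localization.Away a
  obtain ⟨u, hu⟩ : IsUnit (algebraMap A B (a ^ k)) :=
    IsLocalization.map_units B (⟨a ^ k, k, rfl⟩ : Submonoid.powers a)
  refine Module.Finite.of_surjective (p.baseChange B) fun x => ⟨(↑u⁻¹ : B) • i.baseChange B x, ?_⟩
  rw [map_smul, ← LinearMap.comp_apply, ← LinearMap.baseChange_comp,
    show p ∘ₗ i = a ^ k • LinearMap.id from LinearMap.ext h, LinearMap.baseChange_smul, LinearMap.baseChange_id,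
    LinearMap.smul_apply, LinearMap.id_apply, ← algebraMap_smul B (a ^ k) x, smul_smul, ← hu, Units.inv_mul, one_smul]

/-- A surjection onto a module projective after localization has a section up to a power of `a`. -/
theorem exists_section_pow {N C : Type u} [AddCommGroup N] [Module A N] [AddCommGroup C] [Module A C]
    [Module.FinitePresentation A C] (π : N →ₗ[A] C) (hπ : Function.Surjective π)
    [Module.Projective (Localization.Away a) (Localization.Away a ⊗[A] C)] :
    ∃ (k : ℕ) (s : C →ₗ[A] N), ∀ c, π (s c) = a ^ k • c := by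
  let B := Localization.Away a
  have hπB : Function.Surjective (π.baseChange B) := by
    rw [LinearMap.baseChange_eq_ltensor]
    exact LinearMap.lTensor_surjective B hπ
  obtain ⟨σ, hσ⟩ := Module.projective_lifting_property (π.baseChange B) LinearMap.id hπB
  obtain ⟨s₀, ⟨_, j, rfl⟩, hs₀⟩ := Module.FinitePresentation.exists_lift_of_isLocalizedModule (Submonoid.powers a)
    (toAway a N) ((σ.restrictScalars A).comp (toAway a C))
  have hcomp : (toAway a C).comp (π ∘ₗ s₀) = (toAway a C).comp (a ^ j • LinearMap.id) := LinearMap.ext fun c => by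
    have h1 : (1 : B) ⊗ₜ[A] s₀ c = a ^ j • σ ((1 : B) ⊗ₜ[A] c) := congr($hs₀ c)
    show (1 : B) ⊗ₜ[A] π (s₀ c) = (1 : B) ⊗ₜ[A] (a ^ j • c)
    rw [← LinearMap.baseChange_tmul, h1, LinearMap.map_smul_of_tower, ← LinearMap.comp_apply, hσ,
      LinearMap.id_apply, TensorProduct.tmul_smul]
  obtain ⟨⟨_, m, rfl⟩, hm⟩ :=
    Module.Finite.exists_smul_of_comp_eq_of_isLocalizedModule (Submonoid.powers a) (toAway a C) _ _ hcomp
  refine ⟨m + j, a ^ m • s₀, fun c => ?_⟩
  rw [LinearMap.smul_apply, map_smul, pow_add, mul_smul]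
  exact congr($hm c)

end Groth.Agent.GenBCLib

namespace Groth.Agent.BCLib.Cx

variable {A : Type u} [CommRing A] (L : Cx A) [∀ n, Module.Finite A (L.X n)] [∀ n, Module.Projective A (L.X n)]

instance finitePresentation_quot_bd (n : ℕ) : Module.FinitePresentation A (L.X n ⧸ L.bd n) := by
  haveI : Module.FinitePresentation A (L.X n) := Module.finitePresentation_of_projective A _
  refine Module.finitePresentation_of_surjective (L.bd n).mkQ (Submodule.mkQ_surjective _) ?_
  rw [Submodule.ker_mkQ]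
  cases n with
  | zero => exact Submodule.fg_bot
  | succ m =>
    show (LinearMap.range (L.d m)).FG
    rw [LinearMap.range_eq_map]
    exact Module.Finite.fg_top.map _

theorem exists_split_section {a : A} {n : ℕ} (h : L.Split a n) :
    ∃ s : (L.X n ⧸ L.bd n) →ₗ[A] L.X n, ∀ c, (L.bd n).mkQ (s c) = a • c := by
  obtain ⟨r, hr⟩ := h
  refine ⟨(L.bd n).liftQ (a • LinearMap.id - (L.bd n).subtype ∘ₗ r) fun x hx => ?_, fun c => ?_⟩
  · rw [LinearMap.mem_ker]
    show a • x - (r x).1 = 0
    rw [hr ⟨x, hx⟩]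
    exact sub_self _
  · obtain ⟨x, rfl⟩ := Submodule.mkQ_surjective _ c
    show (L.bd n).mkQ (a • x - (r x).1) = _
    rw [map_sub, map_smul, sub_eq_self]
    exact (Submodule.Quotient.mk_eq_zero _).2 (r x).2

theorem projective_away_of_split {a : A} {n : ℕ} (h : L.Split a n) :
    Module.Projective (Localization.Away a) (Localization.Away a ⊗[A] (L.X n ⧸ L.bd n)) := by
  obtain ⟨s, hs⟩ := L.exists_split_section h
  exact GenBCLib.projective_away_of_retract a s (L.bd n).mkQ 1 fun c => by rw [pow_one]; exact hs c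

theorem exists_split_of_projective_away (a : A) (n : ℕ)
    [Module.Projective (Localization.Away a) (Localization.Away a ⊗[A] (L.X n ⧸ L.bd n))] :
    ∃ k, L.Split (a ^ k) n := by
  obtain ⟨k, s, hs⟩ := GenBCLib.exists_section_pow a (L.bd n).mkQ (Submodule.mkQ_surjective _)
  have hmem : ∀ x : L.X n, (a ^ k • LinearMap.id - s ∘ₗ (L.bd n).mkQ : L.X n →ₗ[A] L.X n) x ∈ L.bd n := fun x => by
    rw [← Submodule.Quotient.mk_eq_zero]
    show (L.bd n).mkQ (a ^ k • x - s ((L.bd n).mkQ x)) = 0
    rw [map_sub, map_smul, hs, sub_self]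
  refine ⟨k, (a ^ k • LinearMap.id - s ∘ₗ (L.bd n).mkQ).codRestrict _ hmem, fun x => Subtype.ext ?_⟩
  show a ^ k • x.1 - s ((L.bd n).mkQ x.1) = a ^ k • x.1
  rw [show (L.bd n).mkQ x.1 = 0 from (Submodule.Quotient.mk_eq_zero _).2 x.2, map_zero, sub_zero]

variable {H : Type u} [AddCommGroup H] [Module A H] {n : ℕ} {ev : ↥(LinearMap.ker (L.d n)) →ₗ[A] H}
  (hs : Function.Surjective ev) (hk : ∀ z, ev z = 0 ↔ z.1 ∈ L.bd n)

include hk in
theorem exists_toQuot (hs : Function.Surjective ev) :
    ∃ ι : H →ₗ[A] L.X n ⧸ L.bd n, ∀ z, ι (ev z) = (L.bd n).mkQ z.1 := by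
  refine ⟨((LinearMap.ker ev).liftQ ((L.bd n).mkQ ∘ₗ (LinearMap.ker (L.d n)).subtype) fun z hz =>
      LinearMap.mem_ker.2 ((Submodule.Quotient.mk_eq_zero _).2 ((hk z).1 hz))).comp
    (ev.quotKerEquivOfSurjective hs).symm.toLinearMap, fun z => ?_⟩
  simp

include hs hk in
/-- Good in two neighbouring degrees: cohomology is a retract of the terms. -/
theorem exists_retract_cohom {a b : A} (hg : L.Good a n) (hsp : L.Split b n) :
    ∃ (i : H →ₗ[A] L.X n) (p : L.X n →ₗ[A] H), ∀ y, p (i y) = (a * b) • y := by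
  obtain ⟨e, he⟩ := L.exists_ker_proj hg
  obtain ⟨s, hs'⟩ := L.exists_split_section hsp
  obtain ⟨ι, hι⟩ := L.exists_toQuot hk hs
  refine ⟨s ∘ₗ ι, ev ∘ₗ e, fun y => ?_⟩
  obtain ⟨z, rfl⟩ := hs y
  show ev (e (s (ι (ev z)))) = _
  rw [hι]
  obtain ⟨x, hx⟩ : ∃ x : ↥(L.bd n), s ((L.bd n).mkQ z.1) = b • z.1 + x.1 := by
    refine ⟨⟨s ((L.bd n).mkQ z.1) - b • z.1, ?_⟩, by simp⟩
    rw [← Submodule.Quotient.mk_eq_zero]
    show (L.bd n).mkQ _ = 0
    rw [map_sub, hs', map_smul, sub_self]
  rw [hx, map_add, map_smul, he, map_add, map_smul, map_smul, smul_smul,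
    show e x.1 = a • (⟨x.1, L.bd_le_ker n x.2⟩ : ↥(LinearMap.ker (L.d n))) from he ⟨x.1, L.bd_le_ker n x.2⟩,
    map_smul, (hk ⟨x.1, L.bd_le_ker n x.2⟩).2 x.2, smul_zero, add_zero, mul_comm b a]

include hs hk in
theorem projective_away_cohom {a : A} (hg : L.Good a n) (hsp : L.Split a n) :
    Module.Projective (Localization.Away a) (Localization.Away a ⊗[A] H) ∧
      Module.Finite (Localization.Away a) (Localization.Away a ⊗[A] H) := by
  obtain ⟨i, p, h⟩ := L.exists_retract_cohom hs hk hg hsp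
  have h' : ∀ y, p (i y) = a ^ 2 • y := fun y => by rw [h, pow_two]
  exact ⟨GenBCLib.projective_away_of_retract a i p 2 h', GenBCLib.finite_away_of_retract a i p 2 h'⟩

include hs hk in
/-- Projective cohomology in a good degree gives a split in that degree. -/
theorem exists_split_of_projective_cohom {a : A} (hg : L.Good a n)
    [Module.Projective (Localization.Away a) (Localization.Away a ⊗[A] H)] : ∃ k, L.Split (a ^ k) n := by
  let B := Localization.Away a
  obtain ⟨r, hr⟩ := hg
  obtain ⟨l, hl⟩ := Module.projective_lifting_property (L.d n).rangeRestrict r (L.d n).surjective_rangeRestrict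
  have hmem : ∀ x, (a • LinearMap.id - l ∘ₗ L.d n : L.X n →ₗ[A] L.X n) x ∈ LinearMap.ker (L.d n) := fun x => by
    rw [LinearMap.mem_ker]
    show L.d n (a • x - l (L.d n x)) = 0
    rw [map_sub, map_smul, show L.d n (l (L.d n x)) = (r (L.d n x)).1 from congrArg Subtype.val (congr($hl _)),
      hr ⟨L.d n x, x, rfl⟩, sub_eq_zero]
    rfl
  let e : L.X n →ₗ[A] ↥(LinearMap.ker (L.d n)) := (a • LinearMap.id - l ∘ₗ L.d n).codRestrict _ hmem
  have he : ∀ z : ↥(LinearMap.ker (L.d n)), e z.1 = a • z := fun z => Subtype.ext (by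
    show a • z.1 - l (L.d n z.1) = a • z.1
    rw [LinearMap.mem_ker.1 z.2, map_zero, sub_zero])
  obtain ⟨ι, hι⟩ := L.exists_toQuot hk hs
  let q : (L.X n ⧸ L.bd n) →ₗ[A] H := (L.bd n).liftQ (ev ∘ₗ e) fun x hx => by
    rw [LinearMap.mem_ker]
    show ev (e x) = 0
    rw [show e x = a • (⟨x, L.bd_le_ker n hx⟩ : ↥(LinearMap.ker (L.d n))) from he ⟨x, L.bd_le_ker n hx⟩, map_smul,
      (hk ⟨x, L.bd_le_ker n hx⟩).2 hx, smul_zero]
  have hret : ∀ c, ι (q c) + (L.bd n).mkQ (l (L.δ n c)) = a • c := fun c => by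
    obtain ⟨x, rfl⟩ := Submodule.mkQ_surjective _ c
    show ι (ev (e x)) + (L.bd n).mkQ (l (L.d n x)) = a • (L.bd n).mkQ x
    rw [hι, ← map_add, ← map_smul]
    rw [show (e x).1 = a • x - l (L.d n x) from rfl, sub_add_cancel]
  haveI : Module.Projective B (B ⊗[A] (L.X n ⧸ L.bd n)) := by
    obtain ⟨u, hu⟩ : IsUnit (algebraMap A B a) :=
      IsLocalization.map_units B (⟨a, 1, pow_one a⟩ : Submonoid.powers a)
    let α : B ⊗[A] (L.X n ⧸ L.bd n) →ₗ[B] (B ⊗[A] H) × (B ⊗[A] L.X (n + 1)) :=
      (↑u⁻¹ : B) • (q.baseChange B).prod ((L.δ n).baseChange B)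
    let β : (B ⊗[A] H) × (B ⊗[A] L.X (n + 1)) →ₗ[B] B ⊗[A] (L.X n ⧸ L.bd n) :=
      (ι.baseChange B).coprod (((L.bd n).mkQ ∘ₗ l).baseChange B)
    refine Module.Projective.of_split α β (LinearMap.ext fun y => ?_)
    show β (α y) = y
    simp only [α, LinearMap.smul_apply, map_smul]
    show (↑u⁻¹ : B) • (ι.baseChange B (q.baseChange B y) + ((L.bd n).mkQ ∘ₗ l).baseChange B ((L.δ n).baseChange B y)) = y
    rw [← LinearMap.comp_apply, ← LinearMap.comp_apply, ← LinearMap.baseChange_comp, ← LinearMap.baseChange_comp,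
      ← LinearMap.add_apply, ← LinearMap.baseChange_add,
      show ι ∘ₗ q + ((L.bd n).mkQ ∘ₗ l) ∘ₗ L.δ n = a • LinearMap.id from LinearMap.ext hret,
      LinearMap.baseChange_smul, LinearMap.baseChange_id, LinearMap.smul_apply, LinearMap.id_apply,
      ← algebraMap_smul B a y, smul_smul, ← hu, Units.inv_mul, one_smul]
  exact L.exists_split_of_projective_away a n

end Groth.Agent.BCLib.Cx
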