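import Groth.Agent.CohBase.Functorial
import Groth.Prelude.Def_CohPull

/-!
# The two identifications of degree zero cohomology with global sections agree
-/

set_option autoImplicit false
set_option backward.isDefEq.respectTransparency false
set_option linter.style.haveILetI false

universe u

open CategoryTheory CategoryTheory.Limits Opposite TopologicalSpace CategoryTheory.Abelian
open Groth.Agent.CohBase

noncomputable section

namespace Groth.Agent.GenBCLib

variable {X : Type u} [TopologicalSpace X]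

theorem constPreIso_inv_one :
    (constPreIso (X := X)).inv.app (op ⊤) (FreeAbelianGroup.of (𝟙 (⊤ : Opens X))) = ULift.up 1 := by
  have h : (constPreIso (X := X)).hom.app (op ⊤) (ULift.up (1 : ℤ)) = FreeAbelianGroup.of (𝟙 (⊤ : Opens X)) := by
    change (1 : ℤ) • FreeAbelianGroup.of (_ : (⊤ : Opens X) ⟶ ⊤) = _
    rw [one_zsmul]
    exact congrArg _ (Subsingleton.elim _ _)
  rw [← h]
  exact ConcreteCategory.congr_hom ((constPreIso (X := X)).hom_inv_id_app (op ⊤)) _

theorem H0Equiv_HEquiv (F : AbSh X) (x : Sheaf.H.{u} F 0) :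
    H0Equiv ⊤ F (HEquiv F 0 x) = Sheaf.H.equiv₀ F isTerminalTop x := by
  obtain ⟨φ, rfl⟩ : ∃ φ : (constantSheaf (Opens.grothendieckTopology X) AddCommGrpCat.{u}).obj
      (AddCommGrpCat.of (ULift.{u} ℤ)) ⟶ F, x = Ext.mk₀ φ :=
    ⟨Ext.homEquiv₀ x, (Ext.mk₀_homEquiv₀_apply x).symm⟩
  have h2 : ∀ {A : AbSh X} (ψ : A ⟶ F), Ext.addEquiv₀ (Ext.mk₀ ψ) = ψ := by
    intro A ψ
    apply (Ext.mk₀_bijective _ _).1
    simp [Ext.addEquiv₀, Ext.mk₀_homEquiv₀_apply]
  rw [HEquiv, extIsoLeft_apply, Ext.mk₀_comp_mk₀]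
  simp only [H0Equiv, Sheaf.H.equiv₀, AddEquiv.trans_apply, Adjunction.homAddEquiv_apply, h2]
  rw [secEquiv_apply]
  change φ.hom.app (op ⊤) (constIso.inv.hom.app (op ⊤) _) = _
  have hnat : ∀ (w : (freePre (⊤ : Opens X)).obj (op ⊤)),
      (sheafifyMap (Opens.grothendieckTopology X) (constPreIso (X := X)).inv).app (op ⊤)
        ((toSheafify (Opens.grothendieckTopology X) (freePre ⊤)).app (op ⊤) w) =
      (toSheafify (Opens.grothendieckTopology X) ((Functor.const (Opens X)ᵒᵖ).obj (AddCommGrpCat.of (ULift.{u} ℤ)))).app (op ⊤) ((constPreIso (X := X)).inv.app (op ⊤) w) := fun w =>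
    (ConcreteCategory.congr_hom (NatTrans.congr_app
      (toSheafify_naturality (Opens.grothendieckTopology X) (constPreIso (X := X)).inv) (op ⊤)) w).symm
  refine (congrArg (φ.hom.app (op ⊤)) (hnat _)).trans ?_
  rw [constPreIso_inv_one]
  rfl

end Groth.Agent.GenBCLib
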