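import Groth.Agent.GenBCLib.Ring
import Mathlib.RingTheory.DedekindDomain.IntegralClosure
import Mathlib.RingTheory.LocalProperties.Reduced

/-!
# Finite type algebras over noetherian domains are flat and generically integrally closed over a dense open
-/

set_option autoImplicit false
set_option linter.unusedSectionVars false
set_option linter.style.haveILetI false
set_option backward.isDefEq.respectTransparency false
set_option maxHeartbeats 1000000

universe u

open CategoryTheory CategoryTheory.Limits AlgebraicGeometry TensorProduct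
open Groth.Agent.ZeroAcycLib

noncomputable section

namespace Groth.Agent.GenBCLib

/-- Generic flatness. -/
theorem exists_flat_away (D P : Type u) [CommRing D] [IsDomain D] [CommRing P] [Algebra D P] [Algebra.FiniteType D P] :
    ∃ a : D, a ≠ 0 ∧ ∀ (B : Type u) [CommRing B] [Algebra D B], IsUnit (algebraMap D B a) →
      Module.Flat B (B ⊗[D] P) := by
  obtain ⟨U, hUo, hUd, hU⟩ := Groth.Agent.S9158.result D P P
  obtain ⟨u, hu⟩ := hUd.nonempty
  obtain ⟨a, ha, -, -, hfree, -, -⟩ := hU u hu
  refine ⟨a, fun h => ha (by rw [h]; exact u.asIdeal.zero_mem), fun B _ _ hB => ?_⟩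
  haveI := hfree
  haveI : Module.Flat (Localization.Away a) (Localization.Away a ⊗[D] P) :=
    Module.Flat.of_linearEquiv (LocalizedModule.equivTensorProduct (Submonoid.powers a) P).symm
  letI : Algebra (Localization.Away a) B := (IsLocalization.Away.lift a hB).toAlgebra
  haveI : IsScalarTower D (Localization.Away a) B :=
    IsScalarTower.of_algebraMap_eq fun d => (IsLocalization.Away.lift_eq a hB d).symm
  exact Module.Flat.of_linearEquiv
    (Algebra.TensorProduct.cancelBaseChange D (Localization.Away a) B B P).symm.toLinearEquiv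

/-- Geometric reducedness of the fibres spreads out from the generic one. -/
theorem exists_reduced_away (D Q : Type u) [CommRing D] [IsDomain D] [CommRing Q] [Algebra D Q]
    [Algebra.FiniteType D Q]
    (hgen : ∀ (F : Type u) [Field F] [Algebra D F], Function.Injective (algebraMap D F) →
      _root_.IsReduced (F ⊗[D] Q)) :
    ∃ a : D, a ≠ 0 ∧ ∀ (L : Type u) [Field L] [Algebra D L], algebraMap D L a ≠ 0 → _root_.IsReduced (L ⊗[D] Q) := by
  let f := Spec.map (CommRingCat.ofHom (algebraMap D Q))
  haveI : LocallyOfFiniteType f :=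
    (HasRingHomProperty.Spec_iff (P := @LocallyOfFiniteType)).2 (RingHom.finiteType_algebraMap.2 ‹_›)
  let η := genericPoint ↥(Spec (CommRingCat.of D))
  have hη : η.asIdeal = ⊥ := by
    have h1 : η = (⊥ : PrimeSpectrum D) := genericPoint_eq_bot_of_affine (CommRingCat.of D)
    rw [h1]
    rfl
  have hG : GeometricallyReduced (f.fiberToSpecResidueField η) := by
    refine ⟨fun F _ y Z fst snd h => ?_⟩
    have hsq : IsPullback (fst ≫ f.fiberι η) snd f (y ≫ (Spec (CommRingCat.of D)).fromSpecResidueField η) :=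
      h.paste_horiz (IsPullback.of_hasPullback f ((Spec (CommRingCat.of D)).fromSpecResidueField η))
    obtain ⟨ψ, hψ⟩ := Spec.map_surjective (y ≫ (Spec (CommRingCat.of D)).fromSpecResidueField η)
    letI : Algebra D F := ψ.hom.toAlgebra
    have hinj : Function.Injective (algebraMap D F) := by
      rw [RingHom.injective_iff_ker_eq_bot, ← hη]
      let z : ↥(Spec (CommRingCat.of F)) := (⊥ : PrimeSpectrum F)
      have h1 : Spec.map ψ z = η := by
        rw [hψ, Scheme.Hom.comp_apply]
        exact Scheme.fromSpecResidueField_apply η (y z)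
      rw [← h1]
      exact (RingHom.ker_eq_comap_bot _)
    haveI := hgen F hinj
    haveI : _root_.IsReduced (Q ⊗[D] F) := isReduced_of_injective (Algebra.TensorProduct.comm D Q F).toRingEquiv.toRingHom
      (Algebra.TensorProduct.comm D Q F).injective
    haveI : _root_.IsReduced (CommRingCat.of (Q ⊗[D] F)) := ‹_›
    haveI : IsReduced (pullback (Spec.map (CommRingCat.ofHom (algebraMap D Q)))
        (Spec.map (CommRingCat.ofHom (algebraMap D F)))) :=
      isReduced_of_isOpenImmersion (pullbackSpecIso D Q F).hom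
    rw [← hψ] at hsq
    exact isReduced_of_isOpenImmersion hsq.isoPullback.hom
  obtain ⟨V, ⟨v, hv⟩, hV⟩ := Groth.Agent.S0434.result f hG
  obtain ⟨_, ⟨_, ⟨a, rfl⟩, rfl⟩, hva, haV⟩ :=
    PrimeSpectrum.isBasis_basic_opens.exists_subset_of_mem_open hv V.2
  refine ⟨a, fun h => ?_, fun L _ _ hL => ?_⟩
  · exact hva (by rw [h]; exact v.asIdeal.zero_mem)
  let y := Spec.map (CommRingCat.ofHom (algebraMap D L))
  have hy : Set.range y ⊆ Set.range V.ι := by
    rw [Scheme.Opens.range_ι]
    rintro _ ⟨z, rfl⟩
    refine haV ?_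
    show a ∉ (Spec.map (CommRingCat.ofHom (algebraMap D L)) z).asIdeal
    intro hmem
    exact z.isPrime.ne_top (Ideal.eq_top_of_isUnit_mem _ hmem (isUnit_iff_ne_zero.2 hL))
  let y' := IsOpenImmersion.lift V.ι y hy
  haveI := hV
  haveI : IsReduced (pullback (f ∣_ V) y') :=
    GeometricallyReduced.geometrically_isReduced _ _ _ (IsPullback.of_hasPullback _ y')
  have hsq := (IsPullback.of_hasPullback (f ∣_ V) y').paste_horiz (isPullback_morphismRestrict f V).flip
  have hsq' : IsPullback (pullback.fst (f ∣_ V) y' ≫ (f ⁻¹ᵁ V).ι) (pullback.snd (f ∣_ V) y') f y := by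
    rwa [show y' ≫ V.ι = y from IsOpenImmersion.lift_fac _ _ _] at hsq
  haveI : IsReduced (pullback f y) := isReduced_of_isOpenImmersion hsq'.isoPullback.inv
  haveI : IsReduced (Spec (CommRingCat.of (Q ⊗[D] L))) :=
    isReduced_of_isOpenImmersion (pullbackSpecIso D Q L).inv
  haveI : _root_.IsReduced (Q ⊗[D] L) := (affine_isReduced_iff (CommRingCat.of (Q ⊗[D] L))).1 inferInstance
  exact isReduced_of_injective (Algebra.TensorProduct.comm D L Q).toRingEquiv.toRingHom
    (Algebra.TensorProduct.comm D L Q).injective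

/-- Localizing a reduced algebra to the fraction field keeps it reduced. -/
theorem isReduced_frac_tensor (D K Q : Type u) [CommRing D] [CommRing K] [Algebra D K] [IsFractionRing D K]
    [CommRing Q] [Algebra D Q] [_root_.IsReduced Q] : _root_.IsReduced (K ⊗[D] Q) := by
  letI := Algebra.TensorProduct.rightAlgebra (R := D) (A := K) (B := Q)
  exact isReduced_localizationPreserves (Algebra.algebraMapSubmonoid Q (nonZeroDivisors D)) (K ⊗[D] Q)
    (inferInstance : _root_.IsReduced Q)

/-- The reduced generic fibre over the extension is the geometrically reduced algebra. -/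
theorem isReduced_generic {D P K D' K' F : Type u} [CommRing D] [CommRing P] [Algebra D P] [Field K] [Algebra D K]
    [CommRing D'] [Algebra D D'] [Field K'] [Algebra D' K'] [Algebra D K'] [Algebra K K'] [IsScalarTower D K K']
    [IsScalarTower D D' K'] [IsFractionRing D' K'] [Field F] [Algebra D' F]
    (hF : Function.Injective (algebraMap D' F))
    (hred : ∀ (L : Type u) [Field L] [Algebra K' L],
      _root_.IsReduced (L ⊗[K'] ((K' ⊗[K] (K ⊗[D] P)) ⧸ nilradical (K' ⊗[K] (K ⊗[D] P))))) :
    _root_.IsReduced (F ⊗[D'] ((D' ⊗[D] P) ⧸ nilradical (D' ⊗[D] P))) := by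
  let Q := (D' ⊗[D] P) ⧸ nilradical (D' ⊗[D] P)
  haveI : _root_.IsReduced Q := (Ideal.isRadical_iff_quotient_reduced _).1 (Ideal.radical_isRadical _)
  haveI : _root_.IsReduced (K' ⊗[D'] Q) := isReduced_frac_tensor D' K' Q
  let π : D' ⊗[D] P →ₐ[D'] Q := Ideal.Quotient.mkₐ D' _
  have hπ : Function.Surjective π := Ideal.Quotient.mk_surjective
  let m : K' ⊗[D'] (D' ⊗[D] P) →ₐ[K'] K' ⊗[D'] Q := Algebra.TensorProduct.map (AlgHom.id K' K') π
  let e : K' ⊗[K] (K ⊗[D] P) ≃ₐ[K'] K' ⊗[D'] (D' ⊗[D] P) :=
    (Algebra.TensorProduct.cancelBaseChange D K K' K' P).trans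
      (Algebra.TensorProduct.cancelBaseChange D D' K' K' P).symm
  let φ : K' ⊗[K] (K ⊗[D] P) →ₐ[K'] K' ⊗[D'] Q := m.comp e.toAlgHom
  have hφ : Function.Surjective φ :=
    (TensorProduct.map_surjective Function.surjective_id hπ :
      Function.Surjective (Algebra.TensorProduct.map (AlgHom.id D' K') π)).comp e.surjective
  have hker : RingHom.ker φ = nilradical (K' ⊗[K] (K ⊗[D] P)) := by
    refine le_antisymm (fun z hz => ?_) fun z hz => ?_
    · rw [mem_nilradical, ← IsNilpotent.map_iff (f := e) e.injective]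
      have h1 : e z ∈ RingHom.ker (Algebra.TensorProduct.map (AlgHom.id D' K') π) := hz
      rw [Algebra.TensorProduct.lTensor_ker π hπ] at h1
      refine mem_nilradical.1 (Ideal.map_le_iff_le_comap.2 (fun w hw => ?_) h1)
      exact Ideal.mem_comap.2 (mem_nilradical.2 ((mem_nilradical.1 (Ideal.Quotient.eq_zero_iff_mem.1 hw)).map _))
    · exact RingHom.mem_ker.2 ((mem_nilradical.1 hz).map φ).eq_zero
  let j : K' →+* F := IsFractionRing.lift (A := D') hF
  letI : Algebra K' F := j.toAlgebra
  haveI : IsScalarTower D' K' F :=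
    IsScalarTower.of_algebraMap_eq fun x => (IsFractionRing.lift_algebraMap hF x).symm
  haveI := hred F
  let e1 : ((K' ⊗[K] (K ⊗[D] P)) ⧸ nilradical (K' ⊗[K] (K ⊗[D] P))) ≃ₐ[K'] K' ⊗[D'] Q :=
    (Ideal.quotientEquivAlgOfEq K' hker.symm).trans (Ideal.quotientKerAlgEquivOfSurjective hφ)
  let e2 : F ⊗[D'] Q ≃+* F ⊗[K'] ((K' ⊗[K] (K ⊗[D] P)) ⧸ nilradical (K' ⊗[K] (K ⊗[D] P))) :=
    (Algebra.TensorProduct.cancelBaseChange D' K' F F Q).symm.toRingEquiv.trans
      (Algebra.TensorProduct.congr (AlgEquiv.refl : F ≃ₐ[F] F) e1.symm).toRingEquiv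
  exact isReduced_of_injective e2.toRingHom e2.injective

/-- A finite injective extension of `D` over which the reduced generic fibre becomes geometrically reduced. -/
theorem exists_extension (D P : Type u) [CommRing D] [IsDomain D] [IsNoetherianRing D] [CommRing P] [Algebra D P]
    [Algebra.FiniteType D P] :
    ∃ (D' : Type u) (_ : CommRing D') (_ : IsDomain D') (_ : Algebra D D'), Module.Finite D D' ∧
      Function.Injective (algebraMap D D') ∧
      ∀ (F : Type u) [Field F] [Algebra D' F], Function.Injective (algebraMap D' F) →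
        _root_.IsReduced (F ⊗[D'] ((D' ⊗[D] P) ⧸ nilradical (D' ⊗[D] P))) := by
  classical
  let K := FractionRing D
  obtain ⟨K', _, _, hfin, hred⟩ := exists_geomReduced_ext K (K ⊗[D] P)
  letI : Algebra D K' := ((algebraMap K K').comp (algebraMap D K)).toAlgebra
  haveI : IsScalarTower D K K' := IsScalarTower.of_algebraMap_eq fun _ => rfl
  haveI := hfin
  obtain ⟨s, b, hb⟩ := FiniteDimensional.exists_is_basis_integral D K K'
  let D' : Subalgebra D K' := Algebra.adjoin D (Set.range b)
  haveI : Module.Finite D D' :=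
    Module.Finite.of_fg (fg_adjoin_of_finite (Set.finite_range b) (by rintro _ ⟨i, rfl⟩; exact hb i))
  have hinj : Function.Injective (algebraMap D D') := fun x y h => by
    have h1 := congrArg Subtype.val h
    exact IsFractionRing.injective D K ((algebraMap K K').injective h1)
  haveI : FaithfulSMul D' K' := (faithfulSMul_iff_algebraMap_injective _ _).2 Subtype.val_injective
  haveI : IsFractionRing D' K' := by
    refine IsFractionRing.of_field D' K' fun z => ?_
    obtain ⟨d, hd⟩ := IsLocalization.exist_integer_multiples (nonZeroDivisors D) Finset.univ fun i => b.repr z i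
    have hmem : algebraMap D K' d * z ∈ D' := by
      rw [← b.sum_repr z, Finset.mul_sum]
      refine sum_mem fun i _ => ?_
      obtain ⟨c, hc⟩ := hd i (Finset.mem_univ i)
      have : algebraMap D K' d * (b.repr z i • b i) = algebraMap D K' c * b i := by
        rw [Algebra.smul_def, ← mul_assoc, IsScalarTower.algebraMap_apply D K K' (d : D), ← map_mul,
          IsScalarTower.algebraMap_apply D K K' c, hc, Algebra.smul_def]
      rw [this]
      exact mul_mem (D'.algebraMap_mem c) (Algebra.subset_adjoin ⟨i, rfl⟩)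
    refine ⟨⟨_, hmem⟩, ⟨_, D'.algebraMap_mem (d : D)⟩, ?_⟩
    have hd0 : algebraMap D K' d ≠ 0 := fun h => nonZeroDivisors.ne_zero d.2
      (IsFractionRing.injective D K ((algebraMap K K').injective (h.trans (by rw [map_zero, map_zero]))))
    show _ = algebraMap D K' d * z / algebraMap D K' d
    rw [mul_div_cancel_left₀ _ hd0]
  refine ⟨D', inferInstance, inferInstance, inferInstance, inferInstance, hinj, fun F _ _ hF => ?_⟩
  haveI : IsScalarTower D D' K' := IsScalarTower.of_algebraMap_eq fun _ => rfl
  exact isReduced_generic (K := K) (K' := K') hF hred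

/-- Generic flatness and generic integral closedness. -/
theorem exists_genClosed_away (D P : Type u) [CommRing D] [IsDomain D] [IsNoetherianRing D] [CommRing P] [Algebra D P]
    [Algebra.FiniteType D P] :
    ∃ a : D, a ≠ 0 ∧ ∀ (B : Type u) [CommRing B] [Algebra D B], IsUnit (algebraMap D B a) →
      Module.Flat B (B ⊗[D] P) ∧ GenClosed B (B ⊗[D] P) := by
  classical
  obtain ⟨a₀, ha₀, hflatP⟩ := exists_flat_away D P
  obtain ⟨D', _, _, _, hfin, hinj, hgen⟩ := exists_extension D P
  haveI := hfin
  let Q := (D' ⊗[D] P) ⧸ nilradical (D' ⊗[D] P)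
  obtain ⟨a₁, ha₁, hflatQ⟩ := exists_flat_away D' Q
  obtain ⟨a₂, ha₂, hredQ⟩ := exists_reduced_away D' Q fun F _ _ hF => hgen F hF
  obtain ⟨c, hc, hc0⟩ := Submodule.exists_mem_ne_zero_of_ne_bot
    (Ideal.comap_ne_bot_of_integral_mem (R := D) (mul_ne_zero ha₁ ha₂) (Ideal.mem_span_singleton_self (a₁ * a₂))
      (Algebra.IsIntegral.isIntegral _))
  obtain ⟨t, ht⟩ := Ideal.mem_span_singleton.1 (Ideal.mem_comap.1 hc)
  let a := a₀ * c
  have ha : a ≠ 0 := mul_ne_zero ha₀ hc0
  refine ⟨a, ha, fun B _ _ hB => ⟨hflatP B (isUnit_of_mul_isUnit_left (by rwa [map_mul] at hB)), ?_⟩⟩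
  let Da := Localization.Away a
  let D'a := Localization.Away (algebraMap D D' a)
  have hu : IsUnit (algebraMap D D'a a) := by
    rw [IsScalarTower.algebraMap_apply D D' D'a a]
    exact IsLocalization.Away.algebraMap_isUnit _
  letI : Algebra Da D'a := (IsLocalization.Away.lift a hu).toAlgebra
  haveI : IsScalarTower D Da D'a :=
    IsScalarTower.of_algebraMap_eq fun d => (IsLocalization.Away.lift_eq a hu d).symm
  have hDD'a : Function.Injective (algebraMap D D'a) := by
    rw [IsScalarTower.algebraMap_eq D D' D'a, RingHom.coe_comp]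
    refine (IsLocalization.injective D'a (M := Submonoid.powers (algebraMap D D' a)) ?_).comp hinj
    exact powers_le_nonZeroDivisors_of_noZeroDivisors ((map_ne_zero_iff _ hinj).2 ha)
  haveI : FaithfulSMul Da D'a := (faithfulSMul_iff_algebraMap_injective _ _).2
    ((injective_iff_map_eq_zero _).2 fun x hx => by
      obtain ⟨d, s, rfl⟩ := IsLocalization.exists_mk'_eq (Submonoid.powers a) x
      have h1 : algebraMap D D'a d = 0 := by
        rw [IsScalarTower.algebraMap_apply D Da D'a, ← IsLocalization.mk'_spec Da d s, map_mul, hx, zero_mul]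
      rw [hDD'a (h1.trans (map_zero _).symm), IsLocalization.mk'_zero])
  haveI : Algebra.IsIntegral Da D'a := ⟨fun y => by
    obtain ⟨x, ⟨s, hs⟩, rfl⟩ := IsLocalization.exists_mk'_eq (Submonoid.powers (algebraMap D D' a)) y
    obtain ⟨k, hk⟩ := hs
    subst hk
    have e : IsLocalization.mk' D'a x (⟨algebraMap D D' a ^ k, k, rfl⟩ : Submonoid.powers (algebraMap D D' a)) =
        algebraMap D' D'a x * algebraMap Da D'a (IsLocalization.mk' Da 1 (⟨a ^ k, k, rfl⟩ : Submonoid.powers a)) := by
      rw [IsLocalization.mk'_eq_iff_eq_mul, mul_assoc]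
      show algebraMap D' D'a x = algebraMap D' D'a x * (_ * algebraMap D' D'a (algebraMap D D' a ^ k))
      rw [← map_pow, ← IsScalarTower.algebraMap_apply D D' D'a, IsScalarTower.algebraMap_apply D Da D'a, ← map_mul]
      rw [show IsLocalization.mk' Da 1 (⟨a ^ k, k, rfl⟩ : Submonoid.powers a) * algebraMap D Da (a ^ k) =
        algebraMap D Da 1 from IsLocalization.mk'_spec Da 1 (⟨a ^ k, k, rfl⟩ : Submonoid.powers a),
        map_one, map_one, mul_one]
    rw [e]
    exact (((Algebra.IsIntegral.isIntegral (R := D) x).map (IsScalarTower.toAlgHom D D' D'a)).tower_top).mul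
      isIntegral_algebraMap⟩
  have hu' : IsUnit (algebraMap D' D'a a₁ * algebraMap D' D'a a₂) := by
    have h1 : algebraMap D D' a = algebraMap D D' a₀ * ((a₁ * a₂) * t) := (map_mul _ a₀ c).trans (congrArg _ ht)
    have h2 : IsUnit (algebraMap D' D'a (algebraMap D D' a)) := IsLocalization.Away.algebraMap_isUnit _
    have h3 : IsUnit (algebraMap D' D'a (algebraMap D D' a₀) *
        ((algebraMap D' D'a a₁ * algebraMap D' D'a a₂) * algebraMap D' D'a t)) := by
      refine Eq.mp (congrArg IsUnit ?_) h2
      exact (congrArg _ h1).trans ((map_mul _ _ _).trans (congrArg₂ _ rfl ((map_mul _ _ _).trans (congrArg₂ _ (map_mul _ _ _) rfl))))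
    exact isUnit_of_mul_isUnit_left (isUnit_of_mul_isUnit_right h3)
  haveI := hflatQ D'a (isUnit_of_mul_isUnit_left hu')
  have hQgen : GenClosed D'a (D'a ⊗[D'] Q) := by
    haveI : IsNoetherianRing D' := IsNoetherianRing.of_finite D D'
    haveI : IsNoetherianRing D'a := IsLocalization.isNoetherianRing (Submonoid.powers (algebraMap D D' a)) D'a inferInstance
    refine genClosed_of_noetherian fun L _ _ => ?_
    letI : Algebra D' L := ((algebraMap D'a L).comp (algebraMap D' D'a)).toAlgebra
    haveI : IsScalarTower D' D'a L := IsScalarTower.of_algebraMap_eq fun _ => rfl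
    haveI := hredQ L (by
      rw [IsScalarTower.algebraMap_apply D' D'a L]
      exact ((isUnit_of_mul_isUnit_right hu').map (algebraMap D'a L)).ne_zero)
    exact isReduced_of_injective (Algebra.TensorProduct.cancelBaseChange D' D'a L L Q).toRingEquiv.toRingHom
      (Algebra.TensorProduct.cancelBaseChange D' D'a L L Q).injective
  let π : D' ⊗[D] P →ₐ[D'] Q := Ideal.Quotient.mkₐ D' _
  let m : D'a ⊗[D'] (D' ⊗[D] P) →ₐ[D'a] D'a ⊗[D'] Q := Algebra.TensorProduct.map (AlgHom.id D'a D'a) π
  let e : D'a ⊗[Da] (Da ⊗[D] P) ≃ₐ[D'a] D'a ⊗[D'] (D' ⊗[D] P) :=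
    (Algebra.TensorProduct.cancelBaseChange D Da D'a D'a P).trans
      (Algebra.TensorProduct.cancelBaseChange D D' D'a D'a P).symm
  have hπ : Function.Surjective π := Ideal.Quotient.mk_surjective
  have hcore : GenClosed Da (Da ⊗[D] P) := by
    refine genClosed_of_integral (m.comp e.toAlgHom) ((TensorProduct.map_surjective Function.surjective_id hπ :
      Function.Surjective (Algebra.TensorProduct.map (AlgHom.id D' D'a) π)).comp e.surjective) (fun z hz => ?_) hQgen
    rw [← IsNilpotent.map_iff (f := e) e.injective]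
    have h1 : e z ∈ RingHom.ker (Algebra.TensorProduct.map (AlgHom.id D' D'a) π) := hz
    rw [Algebra.TensorProduct.lTensor_ker π hπ] at h1
    refine mem_nilradical.1 (Ideal.map_le_iff_le_comap.2 (fun w hw => ?_) h1)
    exact Ideal.mem_comap.2 (mem_nilradical.2 ((mem_nilradical.1 (Ideal.Quotient.eq_zero_iff_mem.1 hw)).map _))
  letI : Algebra Da B := (IsLocalization.Away.lift a hB).toAlgebra
  haveI : IsScalarTower D Da B := IsScalarTower.of_algebraMap_eq fun d => (IsLocalization.Away.lift_eq a hB d).symm
  exact hcore.baseChange.congr (Algebra.TensorProduct.cancelBaseChange D Da B B P)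

end Groth.Agent.GenBCLib
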