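import Groth.Agent.GenBCLib.EdgeGen
import Groth.Agent.GenBCLib.SectExists
import Groth.Agent.GenBCLib.EpsQS
import Groth.Agent.OmegaUnivLib.Compat

/-!
# The second edge map for an affine morphism
-/

set_option autoImplicit false
set_option backward.isDefEq.respectTransparency false
set_option backward.defeqAttrib.useBackward true
set_option linter.style.haveILetI false
set_option linter.unusedSectionVars false

universe v₁ v₂ v₃ u₁ u₂ u₃ u

open CategoryTheory CategoryTheory.Limits AlgebraicGeometry TopologicalSpace Opposite HomologicalComplex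
open Groth.Agent.CohCmpLib

noncomputable section

namespace Groth.Agent.GenBCLib

section Gen

variable {A : Type u₁} [Category.{v₁} A] [Abelian A] [HasInjectiveResolutions A]
  {B : Type u₂} [Category.{v₂} B] [Abelian B] {C : Type u₃} [Category.{v₃} C] [Abelian C]

instance preservesInjectiveObjects_id : (𝟭 A).PreservesInjectiveObjects := ⟨fun h => h⟩

/-- A complex under the identity functor. -/
def toIdCx (K : CochainComplex A ℕ) : K ⟶ ((𝟭 A).mapHomologicalComplex (ComplexShape.up ℕ)).obj K where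
  f n := 𝟙 (K.X n)
  comm' i j _ := (Category.id_comp _).trans (Category.comp_id _).symm

variable (Φ' : A ⥤ B) [Φ'.Additive] (Ψ' : B ⥤ C) [Ψ'.Additive] [PreservesFiniteLimits Ψ']
  (Ψ : A ⥤ C) [Ψ.Additive] (e : Φ' ⋙ Ψ' ≅ Ψ)

/-- The second edge map transported along an isomorphism. -/
theorem edgeOut_eq_bcG (q : ℕ) (X : A) :
    (RDer.rightDerivedIso e q).inv.app X ≫ RDer.edgeOut Φ' Ψ' q X =
      bcG (𝟭 A) Ψ Φ' Ψ' (Ψ.leftUnitor ≪≫ e.symm) (𝟙 X) q := by
  let I := injectiveResolution X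
  rw [bcG_eq (𝟭 A) Ψ Φ' Ψ' (Ψ.leftUnitor ≪≫ e.symm) (𝟙 X) q I I (toIdCx I.cocomplex)
    (by
      rw [mapAug_f_zero]
      exact (Category.comp_id _).trans (Category.id_comp _).symm)]
  rw [show (RDer.rightDerivedIso e q).inv.app X = (I.isoRightDerivedObj Ψ q).hom ≫
      homologyMap ((NatTrans.mapHomologicalComplex e.inv (ComplexShape.up ℕ)).app I.cocomplex) q ≫
        (I.isoRightDerivedObj (Φ' ⋙ Ψ') q).inv from InjectiveResolution.rightDerived_app_eq e.inv I q,
    RDer.edgeOut]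
  simp only [I, Category.assoc, Iso.inv_hom_id_assoc]
  refine congrArg ((I.isoRightDerivedObj Ψ q).hom ≫ ·) ?_
  rw [← Category.assoc (homologyMap ((Ψ.mapHomologicalComplex _).map (toIdCx I.cocomplex)) q)]
  refine congrArg (· ≫ _) ?_
  refine Eq.trans ?_ (homologyMap_comp _ _ _)
  refine congrArg (homologyMap · q) ?_
  ext n
  simp [toIdCx, I, sqMap]

/-- The second edge map commutes with connecting morphisms. -/
theorem edgeOut_δ (Δ : RDer.DerivedLES Ψ) (Δ' : RDer.DerivedLES Φ') {S : ShortComplex A} (hS : S.ShortExact) (q : ℕ) :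
    ((RDer.rightDerivedIso e q).inv.app S.X₃ ≫ RDer.edgeOut Φ' Ψ' q S.X₃) ≫ Ψ'.map (Δ'.δ S hS q (q + 1) rfl) =
      Δ.δ S hS q (q + 1) rfl ≫
        (RDer.rightDerivedIso e (q + 1)).inv.app S.X₁ ≫ RDer.edgeOut Φ' Ψ' (q + 1) S.X₁ := by
  rw [edgeOut_eq_bcG, edgeOut_eq_bcG]
  exact bcG_δ (𝟭 A) Ψ Φ' Ψ' (Ψ.leftUnitor ≪≫ e.symm) Δ Δ' hS hS
    (v := ({ τ₁ := 𝟙 _, τ₂ := 𝟙 _, τ₃ := 𝟙 _,
             comm₁₂ := (Category.id_comp _).trans (Category.comp_id _).symm,
             comm₂₃ := (Category.id_comp _).trans (Category.comp_id _).symm } : S ⟶ S.map (𝟭 A))) q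

end Gen

variable {X Y Z : Scheme.{u}} (f : X ⟶ Y) (g : Y ⟶ Z) [HasInjectiveResolutions X.Modules]
  {Δ : RDer.DerivedLES (Scheme.Modules.pushforward (f ≫ g))} {Δ' : RDer.DerivedLES (Scheme.Modules.pushforward f)}
  (E : CohCmp.SectCmp (f ≫ g) Δ) (E' : CohCmp.SectCmp f Δ')

theorem lerayEdgeOut_zero_app (F : X.Modules) (W : Z.Opens) (s : Γ(F, (f ≫ g) ⁻¹ᵁ W)) :
    (CohBC.lerayEdgeOut f g 0 F).app W (((Scheme.Modules.pushforward (f ≫ g)).toRightDerivedZero.app F).app W s) =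
      ((Scheme.Modules.pushforward f).toRightDerivedZero.app F).app (g ⁻¹ᵁ W) s := by
  have h : (Scheme.Modules.pushforward (f ≫ g)).toRightDerivedZero.app F ≫ CohBC.lerayEdgeOut f g 0 F =
      (Scheme.Modules.pushforwardComp f g).inv.app F ≫
        (Scheme.Modules.pushforward g).map ((Scheme.Modules.pushforward f).toRightDerivedZero.app F) := by
    dsimp only [CohBC.lerayEdgeOut]
    rw [show (RDer.rightDerivedIso (Scheme.Modules.pushforwardComp f g) 0).inv.app F =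
        (RDer.rightDerivedIso (Scheme.Modules.pushforwardComp f g).symm 0).hom.app F from rfl,
      RDer.toRightDerivedZero_rightDerivedIso_assoc, RDer.toRightDerivedZero_edgeOut]
    rfl
  exact congr($h |>.app W s)

theorem lerayEdgeOut_δ_app {T : ShortComplex X.Modules} (hT : T.ShortExact) (p : ℕ) (W : Z.Opens)
    (y : Γ((Coh.Rpush (f ≫ g) p).obj T.X₃, W)) :
    (CohBC.lerayEdgeOut f g (p + 1) T.X₁).app W ((Δ.δ T hT p (p + 1) rfl).app W y) =
      (Δ'.δ T hT p (p + 1) rfl).app (g ⁻¹ᵁ W) ((CohBC.lerayEdgeOut f g p T.X₃).app W y) := by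
  have h : CohBC.lerayEdgeOut f g p T.X₃ ≫ (Scheme.Modules.pushforward g).map (Δ'.δ T hT p (p + 1) rfl) =
      Δ.δ T hT p (p + 1) rfl ≫ CohBC.lerayEdgeOut f g (p + 1) T.X₁ :=
    edgeOut_δ (Scheme.Modules.pushforward f) (Scheme.Modules.pushforward g) (Scheme.Modules.pushforward (f ≫ g))
      (Scheme.Modules.pushforwardComp f g) Δ Δ' hT p
  exact (congr($h |>.app W y)).symm

include E E' in
theorem lerayEdgeOut_eps (p : ℕ) : ∀ (F : X.Modules) (W : Z.Opens) (x : cH F ((f ≫ g) ⁻¹ᵁ W) p),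
    (CohBC.lerayEdgeOut f g p F).app W (E.ε W F p x) = E'.ε (g ⁻¹ᵁ W) F p x := by
  induction p with
  | zero =>
    intro F W x
    obtain ⟨s, rfl⟩ := (cSect F ((f ≫ g) ⁻¹ᵁ W)).surjective x
    exact ((congrArg ((CohBC.lerayEdgeOut f g 0 F).app W) (E.zero W F s)).trans
      (lerayEdgeOut_zero_app f g F W s)).trans (E'.zero (g ⁻¹ᵁ W) F s).symm
  | succ p ih =>
    intro F W x
    haveI : Injective (embSeq F).X₂ := inferInstanceAs (Injective (Injective.under F))
    obtain ⟨z, rfl⟩ := exists_cDelta_eq (shortExact_embSeq F) ((f ≫ g) ⁻¹ᵁ W) p x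
    exact ((congrArg ((CohBC.lerayEdgeOut f g (p + 1) (embSeq F).X₁).app W)
      (cEps_cDelta (f ≫ g) E (shortExact_embSeq F) W p z)).trans
      ((lerayEdgeOut_δ_app f g (shortExact_embSeq F) p W _).trans
        (congrArg ((Δ'.δ _ (shortExact_embSeq F) p (p + 1) rfl).app (g ⁻¹ᵁ W)) (ih _ W z)))).trans
      (cEps_cDelta f E' (shortExact_embSeq F) (g ⁻¹ᵁ W) p z).symm

variable [QuasiCompact f] [QuasiSeparated f] [IsAffineHom g]

/-- The second edge map is an isomorphism for an affine morphism. -/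
theorem isIso_lerayEdgeOut (M : X.Modules) [Coh.IsQCoh M] (p : ℕ) : IsIso (CohBC.lerayEdgeOut f g p M) := by
  obtain ⟨Δ, ⟨E⟩⟩ := exists_sectCmp (f ≫ g)
  obtain ⟨Δ', ⟨E'⟩⟩ := exists_sectCmp f
  haveI : Coh.IsQCoh ((Coh.Rpush (f ≫ g) p).obj M) := RpushLib.isQCoh_rpush (f ≫ g) p
  haveI : Coh.IsQCoh ((Coh.Rpush f p).obj M) := RpushLib.isQCoh_rpush f p
  haveI : Coh.IsQCoh ((Scheme.Modules.pushforward g).obj ((Coh.Rpush f p).obj M)) :=
    QCohLib.isQCoh_pushforward _ g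
  refine OmegaUnivLib.isIso_of_bijective_cover _ fun z => ?_
  obtain ⟨_, ⟨W, hW, rfl⟩, hzW, -⟩ := Z.isBasis_affineOpens.exists_subset_of_mem_open
    (Set.mem_univ z) isOpen_univ
  refine ⟨W, hW, hzW, ?_⟩
  refine (Function.Bijective.of_comp_iff _ (bijective_eps_qs E M hW p)).1 ?_
  have h2 : Function.Bijective (E'.ε (g ⁻¹ᵁ W) M p) := bijective_eps_qs E' M (hW.preimage g) p
  have h3 : (⇑((CohBC.lerayEdgeOut f g p M).app W) ∘ ⇑(E.ε W M p) :) = ⇑(E'.ε (g ⁻¹ᵁ W) M p) :=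
    funext (lerayEdgeOut_eps f g E E' p M W)
  exact Eq.mpr (congrArg Function.Bijective h3) h2

end Groth.Agent.GenBCLib
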