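import Groth.Agent.GenBCLib.Scal

/-!
# Cohomology over the preimage of a basic open is the localization
-/

set_option autoImplicit false
set_option backward.isDefEq.respectTransparency false
set_option backward.defeqAttrib.useBackward true
set_option linter.style.haveILetI false

universe u

open CategoryTheory CategoryTheory.Limits AlgebraicGeometry TopologicalSpace Opposite
open Groth.Agent.CohBase Groth.Agent.ProjCoh Groth.Agent.FormalLib Groth.Agent.BCLib Groth.Agent.RpushLib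

noncomputable section

namespace Groth.Agent.GenBCLib

variable {X S : Scheme.{u}}

theorem resMor_ι {U U' : X.Opens} (h : U' ≤ U) : resMor h ≫ U.ι = U'.ι := by
  rw [Scheme.Hom.resLE_comp_ι, Category.comp_id]

theorem image_resMor_preimage {U U' : X.Opens} (h : U' ≤ U) (O : U.toScheme.Opens) :
    U'.ι ''ᵁ (resMor h ⁻¹ᵁ O) = U' ⊓ U.ι ''ᵁ O := by
  rw [← U.ι.preimage_image_eq O, ← Scheme.Hom.comp_preimage, resMor_ι,
    Scheme.Hom.image_preimage_eq_opensRange_inf, Scheme.Opens.opensRange_ι, U.ι.preimage_image_eq]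

/-- The restricted covering. -/
abbrev resCov {U U' : X.Opens} (h : U' ≤ U) {ι : Type u} (W : ι → U.toScheme.Opens) : ι → U'.toScheme.Opens :=
  ProperFin.preCov (resMor h) W

theorem resCov_le {U U' : X.Opens} (h : U' ≤ U) {ι : Type u} (W : ι → U.toScheme.Opens) (a : ι) :
    resCov h W a ≤ resMor h ⁻¹ᵁ W a := le_rfl

theorem resCov_cov {U U' : X.Opens} (h : U' ≤ U) {ι : Type u} {W : ι → U.toScheme.Opens}
    (hcov : (⊤ : U.toScheme.Opens) ≤ iSup W) : (⊤ : U'.toScheme.Opens) ≤ iSup (resCov h W) := fun x _ => by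
  obtain ⟨b, hb⟩ := Opens.mem_iSup.1 (hcov (show resMor h x ∈ (⊤ : U.toScheme.Opens) from trivial))
  exact Opens.mem_iSup.2 ⟨b, hb⟩

/-- Restriction of cochains. -/
def resCC (F : X.Modules) {U U' : X.Opens} (h : U' ≤ U) {ι : Type u} (W : ι → U.toScheme.Opens) (q : ℕ) :
    CC W (Coh.toAb (F.restrict U.ι)).obj q →+ CC (resCov h W) (Coh.toAb (F.restrict U'.ι)).obj q :=
  fc (resMor h).base W (resCov h W) (resCov_le h W) (restrAb F h) q

theorem resCC_le {U U' : X.Opens} (h : U' ≤ U) {ι : Type u} (W : ι → U.toScheme.Opens) {n : ℕ}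
    (i : Fin (n + 1) → ι) : U'.ι ''ᵁ inter (resCov h W) i ≤ U.ι ''ᵁ inter W i := by
  rw [← ProperFin.inter_preCov, image_resMor_preimage]
  exact inf_le_right

theorem fsec_restrAb (F : X.Modules) {U U' : X.Opens} (h : U' ≤ U) {O : U.toScheme.Opens}
    {O' : U'.toScheme.Opens} (hO : O' ≤ resMor h ⁻¹ᵁ O) (le : U'.ι ''ᵁ O' ≤ U.ι ''ᵁ O) (s : Γ(F, U.ι ''ᵁ O)) :
    fsec (resMor h).base (restrAb F h) hO s = F.presheaf.map (homOfLE le).op s := by
  show F.presheaf.map (homOfLE (U'.ι.image_mono hO)).op ((restrAb F h).hom.app (op O) s) = _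
  rw [restrAb_app]
  exact restr_trans F _ _ _

theorem resCC_apply (F : X.Modules) {U U' : X.Opens} (h : U' ≤ U) {ι : Type u} (W : ι → U.toScheme.Opens) (q : ℕ)
    (c : CC W (Coh.toAb (F.restrict U.ι)).obj q) (i : Fin (q + 1) → ι) :
    (resCC F h W q c i : Γ(F, U'.ι ''ᵁ inter (resCov h W) i)) =
      F.presheaf.map (homOfLE (resCC_le h W i)).op (show Γ(F, U.ι ''ᵁ inter W i) from c i) :=
  fsec_restrAb F h (inter_le_map (resMor h).base W (resCov h W) (resCov_le h W) i) (resCC_le h W i) (c i)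

variable (f : X ⟶ S) {V V' : S.Opens} (hV : IsAffineOpen V) (hV' : IsAffineOpen V') (h : V' ≤ V)
  (F : X.Modules) {ι : Type u} (W : ι → (f ⁻¹ᵁ V : Scheme.{u}).Opens)

/-- Restriction of cochains between preimages of affine opens. -/
def resCoch (q : ℕ) :
    letI := overV f hV
    letI := overV f hV'
    Coch (str Γ(S, V) (f ⁻¹ᵁ V : Scheme.{u})) (F.restrict (f ⁻¹ᵁ V).ι) W q →+
      Coch (str Γ(S, V') (f ⁻¹ᵁ V' : Scheme.{u})) (F.restrict (f ⁻¹ᵁ V').ι) (resCov (f.preimage_mono h) W) q :=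
  letI := overV f hV
  letI := overV f hV'
  resCC F (f.preimage_mono h) W q

theorem resCoch_smul (q : ℕ) (a : Γ(S, V)) :
    letI := overV f hV
    letI := overV f hV'
    ∀ c : Coch (str Γ(S, V) (f ⁻¹ᵁ V : Scheme.{u})) (F.restrict (f ⁻¹ᵁ V).ι) W q,
      resCoch f hV hV' h F W q (a • c) = S.presheaf.map (homOfLE h).op a • resCoch f hV hV' h F W q c := by
  letI := overV f hV
  letI := overV f hV'
  intro c
  funext i
  have le : (f ⁻¹ᵁ V).ι ''ᵁ inter W i ≤ f ⁻¹ᵁ V := fun _ ⟨y, _, e⟩ => e ▸ y.2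
  have le' : (f ⁻¹ᵁ V').ι ''ᵁ inter (resCov (f.preimage_mono h) W) i ≤ f ⁻¹ᵁ V' := fun _ ⟨y, _, e⟩ => e ▸ y.2
  refine Eq.trans ?_ (sec_smul_overV f hV' F _ le' (S.presheaf.map (homOfLE h).op a) _).symm
  refine Eq.trans ?_ (congrArg (sc (f.app V' (S.presheaf.map (homOfLE h).op a)) le')
    (resCC_apply F (f.preimage_mono h) W q c i)).symm
  refine (resCC_apply F (f.preimage_mono h) W q (a • c) i).trans ?_
  refine (congrArg (F.presheaf.map (homOfLE (resCC_le (f.preimage_mono h) W i)).op)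
    (sec_smul_overV f hV F _ le a (c i))).trans ?_
  rw [map_sc, sc_apply, sc_apply]
  congr 1
  exact (RpushLib.app_map_map f (homOfLE h) (homOfLE le') _ a).symm

variable (a : Γ(S, V))

theorem resCov_haff (haff : ∀ (m : ℕ) (i : Fin (m + 1) → ι), IsAffineOpen (inter W i)) (m : ℕ)
    (i : Fin (m + 1) → ι) :
    IsAffineOpen (inter (resCov (f.preimage_mono (S.basicOpen_le a)) W) i) := by
  let U := f ⁻¹ᵁ V
  have hO : IsAffineOpen (U.ι ''ᵁ inter W i) := U.ι.isAffineOpen_iff_of_isOpenImmersion.2 (haff m i)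
  have le : U.ι ''ᵁ inter W i ≤ U := fun _ ⟨y, _, e⟩ => e ▸ y.2
  rw [← ProperFin.inter_preCov, ← (f ⁻¹ᵁ S.basicOpen a).ι.isAffineOpen_iff_of_isOpenImmersion,
    image_resMor_preimage, Scheme.preimage_basicOpen, inf_comm, ← Scheme.basicOpen_res _ _ (homOfLE le).op]
  exact hO.basicOpen _

theorem image_resCov_basicOpen {n : ℕ} (i : Fin (n + 1) → ι) (le : (f ⁻¹ᵁ V).ι ''ᵁ inter W i ≤ f ⁻¹ᵁ V) :
    (f ⁻¹ᵁ S.basicOpen a).ι ''ᵁ inter (resCov (f.preimage_mono (S.basicOpen_le a)) W) i =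
      X.basicOpen (X.presheaf.map (homOfLE le).op (f.app V a)) := by
  rw [← ProperFin.inter_preCov, image_resMor_preimage, Scheme.preimage_basicOpen, Scheme.basicOpen_res, inf_comm]

variable [Finite ι] [Coh.IsQCoh F] (haff : ∀ (m : ℕ) (i : Fin (m + 1) → ι), IsAffineOpen (inter W i))

include haff in
/-- Cochains killed by restriction to a basic open are killed by a power. -/
theorem exists_pow_smul_eq_zero (q : ℕ) :
    letI := overV f hV
    ∀ c : Coch (str Γ(S, V) (f ⁻¹ᵁ V : Scheme.{u})) (F.restrict (f ⁻¹ᵁ V).ι) W q,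
      resCoch f hV (hV.basicOpen a) (S.basicOpen_le a) F W q c = 0 → ∃ n : ℕ, a ^ n • c = 0 := by
  letI := overV f hV
  classical
  haveI : Fintype (Fin (q + 1) → ι) := Fintype.ofFinite _
  intro c hc
  have key : ∀ i, ∃ n : ℕ, a ^ n • c i = 0 := fun i => by
    have le : (f ⁻¹ᵁ V).ι ''ᵁ inter W i ≤ f ⁻¹ᵁ V := fun _ ⟨y, _, e⟩ => e ▸ y.2
    obtain ⟨n, hn⟩ := exists_pow_zero F ((f ⁻¹ᵁ V).ι.isAffineOpen_iff_of_isOpenImmersion.2 (haff q i))
      (X.presheaf.map (homOfLE le).op (f.app V a)) (image_resCov_basicOpen f W a i le)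
      (show Γ(F, (f ⁻¹ᵁ V).ι ''ᵁ inter W i) from c i)
      ((resCC_apply F (f.preimage_mono (S.basicOpen_le a)) W q c i).symm.trans (congrFun hc i))
    refine ⟨n, (sec_smul_overV f hV F _ le (a ^ n) (c i)).trans (Eq.trans ?_ hn)⟩
    rw [sc_apply, sc_apply, map_pow (f.app V).hom, map_pow, ← map_pow]
    congr 1
    rw [← ConcreteCategory.comp_apply, ← Functor.map_comp]
    rfl
  choose n hn using key
  refine ⟨Finset.univ.sup n, funext fun i => ?_⟩
  obtain ⟨k, hk⟩ := Nat.exists_eq_add_of_le (Finset.le_sup (f := n) (Finset.mem_univ i))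
  show a ^ Finset.univ.sup n • c i = 0
  rw [hk, pow_add, mul_comm, mul_smul, hn i, smul_zero]

include haff in
/-- Cochains on a basic open extend after multiplying by a power. -/
theorem exists_resCC_eq (q : ℕ) :
    letI := overV f hV
    letI := overV f (hV.basicOpen a)
    ∀ c' : Coch (str Γ(S, S.basicOpen a) (f ⁻¹ᵁ S.basicOpen a : Scheme.{u})) (F.restrict (f ⁻¹ᵁ S.basicOpen a).ι)
        (resCov (f.preimage_mono (S.basicOpen_le a)) W) q,
      ∃ (n : ℕ) (c : Coch (str Γ(S, V) (f ⁻¹ᵁ V : Scheme.{u})) (F.restrict (f ⁻¹ᵁ V).ι) W q),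
        resCoch f hV (hV.basicOpen a) (S.basicOpen_le a) F W q c =
          S.presheaf.map (homOfLE (S.basicOpen_le a)).op a ^ n • c' := by
  letI := overV f hV
  letI := overV f (hV.basicOpen a)
  classical
  haveI : Fintype (Fin (q + 1) → ι) := Fintype.ofFinite _
  intro c'
  let h := f.preimage_mono (S.basicOpen_le a)
  have key : ∀ i, ∃ n : ℕ, ∀ m, n ≤ m → ∃ s : Γ(F, (f ⁻¹ᵁ V).ι ''ᵁ inter W i),
      F.presheaf.map (homOfLE (resCC_le h W i)).op s =
        (show Γ(F, (f ⁻¹ᵁ S.basicOpen a).ι ''ᵁ inter (resCov h W) i) from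
          S.presheaf.map (homOfLE (S.basicOpen_le a)).op a ^ m • c' i) := fun i => by
    have le : (f ⁻¹ᵁ V).ι ''ᵁ inter W i ≤ f ⁻¹ᵁ V := fun _ ⟨y, _, e⟩ => e ▸ y.2
    have le' : (f ⁻¹ᵁ S.basicOpen a).ι ''ᵁ inter (resCov h W) i ≤ f ⁻¹ᵁ S.basicOpen a := fun _ ⟨y, _, e⟩ => e ▸ y.2
    obtain ⟨n, s, hs⟩ := exists_pow_extend F ((f ⁻¹ᵁ V).ι.isAffineOpen_iff_of_isOpenImmersion.2 (haff q i))
      (X.presheaf.map (homOfLE le).op (f.app V a)) (image_resCov_basicOpen f W a i le)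
      (show Γ(F, (f ⁻¹ᵁ S.basicOpen a).ι ''ᵁ inter (resCov h W) i) from c' i)
    refine ⟨n, fun m hm => ?_⟩
    obtain ⟨k, rfl⟩ := Nat.exists_eq_add_of_le hm
    refine ⟨sc (X.presheaf.map (homOfLE le).op (f.app V a) ^ k) le_rfl s, ?_⟩
    rw [map_sc]
    refine (congrArg (sc _ _) hs).trans ?_
    rw [← sc_mul, ← pow_add]
    refine Eq.trans ?_ (sec_smul_overV f (hV.basicOpen a) F _ le' _ (c' i)).symm
    rw [sc_apply, sc_apply, add_comm k n, map_pow, map_pow, map_pow]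
    congr 2
    rw [← ConcreteCategory.comp_apply, ← Functor.map_comp]
    exact (RpushLib.app_map_map f (homOfLE (S.basicOpen_le a)) (homOfLE le') _ a).symm
  choose n hn using key
  choose s hs using fun i => hn i (Finset.univ.sup n) (Finset.le_sup (Finset.mem_univ i))
  refine ⟨Finset.univ.sup n, s, funext fun i => ?_⟩
  exact (resCC_apply F h W q s i).trans (hs i)

end Groth.Agent.GenBCLib
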