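import Groth.Agent.GenBCLib.Descent
import Groth.Agent.GenBCLib.BCSq
import Groth.Agent.GenBCLib.BCAlg
import Groth.Agent.QCohLib.Coherent
import Groth.Agent.BCLib.Fibre
import Groth.Agent.DCohLib.FTLocal

/-!
# A finite projective complex computing cohomology over an affine open of any base
-/

set_option autoImplicit false
set_option backward.isDefEq.respectTransparency false
set_option backward.defeqAttrib.useBackward true
set_option linter.style.haveILetI false

universe u

open CategoryTheory CategoryTheory.Limits AlgebraicGeometry TopologicalSpace Opposite TensorProduct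
open Groth.Agent.CohBase Groth.Agent.ProjCoh Groth.Agent.FormalLib Groth.Agent.BCLib Groth.Agent.RpushLib

noncomputable section

namespace Groth.Agent.BCLib

variable {A : Type u} [CommRing A]

/-- Base change of a complex. -/
abbrev Cx.bcX (K : Cx A) (B : Type u) [CommRing B] [Algebra A B] : Cx B where
  X n := B ⊗[A] K.X n
  d n := (K.d n).baseChange B
  d_d n := by rw [← LinearMap.baseChange_comp, K.d_d, LinearMap.baseChange_zero]

namespace CxHom

variable {L K : Cx A} (φ : CxHom L K) (B : Type u) [CommRing B] [Algebra A B]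

/-- Base change of a map of complexes. -/
def bcX : CxHom (L.bcX B) (K.bcX B) where
  f n := (φ.f n).baseChange B
  comm n := by
    show (K.d n).baseChange B ∘ₗ (φ.f n).baseChange B = (φ.f (n + 1)).baseChange B ∘ₗ (L.d n).baseChange B
    rw [← LinearMap.baseChange_comp, φ.comm, LinearMap.baseChange_comp]

section

variable (N : Type u) [AddCommGroup N] [Module A N] (M : Type u) [AddCommGroup M] [Module A M] [Module B M]
  [IsScalarTower A B M]

/-- `(B ⊗ N) ⊗_B M = N ⊗ M`. -/
def bcT : (B ⊗[A] N) ⊗[B] M ≃ₗ[A] N ⊗[A] M :=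
  (TensorProduct.comm B (B ⊗[A] N) M).restrictScalars A ≪≫ₗ
    (TensorProduct.AlgebraTensorModule.cancelBaseChange A B B M N).restrictScalars A ≪≫ₗ TensorProduct.comm A M N

theorem bcT_tmul (b : B) (n : N) (m : M) : bcT B N M ((b ⊗ₜ[A] n) ⊗ₜ[B] m) = n ⊗ₜ[A] (b • m) := rfl

variable {N} {N' : Type u} [AddCommGroup N'] [Module A N']

theorem bcT_natural (g : N →ₗ[A] N') (z : (B ⊗[A] N) ⊗[B] M) :
    bcT B N' M ((g.baseChange B).rTensor M z) = g.rTensor M (bcT B N M z) := by
  induction z using TensorProduct.induction_on with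
  | zero => simp only [map_zero]
  | tmul w m =>
    induction w using TensorProduct.induction_on with
    | zero => simp only [TensorProduct.zero_tmul, map_zero]
    | tmul b n => rfl
    | add x y hx hy =>
      rw [TensorProduct.add_tmul]
      simp only [map_add, hx, hy]
  | add x y hx hy => simp only [map_add, hx, hy]

theorem mem_Z_bcT (K : Cx A) (n : ℕ) (z : (K.bcX B).X n ⊗[B] M) :
    z ∈ (K.bcX B).Z M n ↔ bcT B (K.X n) M z ∈ K.Z M n := by
  rw [LinearMap.mem_ker, LinearMap.mem_ker]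
  refine Iff.trans ?_ (Eq.congr_left (bcT_natural B M (K.d n) z))
  exact (map_eq_zero_iff _ (bcT B (K.X (n + 1)) M).injective).symm

theorem mem_B_bcT (K : Cx A) (n : ℕ) (z : (K.bcX B).X n ⊗[B] M) :
    z ∈ (K.bcX B).B M n ↔ bcT B (K.X n) M z ∈ K.B M n := by
  cases n with
  | zero =>
    show z ∈ (⊥ : Submodule B _) ↔ _ ∈ (⊥ : Submodule A _)
    rw [Submodule.mem_bot, Submodule.mem_bot]
    exact (map_eq_zero_iff _ (bcT B (K.X 0) M).injective).symm
  | succ n =>
    constructor
    · rintro ⟨w, rfl⟩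
      exact ⟨bcT B (K.X n) M w, (bcT_natural B M (K.d n) w).symm⟩
    · rintro ⟨w, hw⟩
      obtain ⟨w, rfl⟩ := (bcT B (K.X n) M).surjective w
      exact ⟨w, (bcT B (K.X (n + 1)) M).injective ((bcT_natural B M (K.d n) w).trans hw)⟩

include φ in
theorem bij_bcX' (h : φ.Bij M) : (φ.bcX B).Bij M := by
  intro n
  refine ⟨fun z hz => ?_, fun l hl hfl => ?_⟩
  · obtain ⟨l, hl, hzl⟩ := (h n).1 _ ((mem_Z_bcT B M K n z).1 hz)
    obtain ⟨l, rfl⟩ := (bcT B (L.X n) M).surjective l
    refine ⟨l, (mem_Z_bcT B M L n l).2 hl, (mem_B_bcT B M K n _).2 ?_⟩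
    show bcT B (K.X n) M (z - ((φ.f n).baseChange B).rTensor M l) ∈ _
    rw [map_sub, bcT_natural]
    exact hzl
  · refine (mem_B_bcT B M L n l).2 ((h n).2 _ ((mem_Z_bcT B M L n l).1 hl) ?_)
    rw [← bcT_natural]
    exact (mem_B_bcT B M K n _).1 hfl

end

theorem bij_bcX (h : ∀ (M : Type u) [AddCommGroup M] [Module A M], φ.Bij M) (M : Type u) [AddCommGroup M]
    [Module B M] : (φ.bcX B).Bij M := by
  letI := Module.compHom M (algebraMap A B)
  haveI : IsScalarTower A B M := .of_algebraMap_smul fun _ _ => rfl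
  exact φ.bij_bcX' B M (h M)

variable {K' : Cx A} (e : ∀ n, K.X n ≃ₗ[A] K'.X n) (he : ∀ n x, K'.d n (e n x) = e (n + 1) (K.d n x))

/-- Composition with an isomorphism. -/
def compIso : CxHom L K' where
  f n := (e n).toLinearMap ∘ₗ φ.f n
  comm n := LinearMap.ext fun x => (he n _).trans (congrArg _ (φ.comm_apply n x))

include he in
theorem mem_B_iso (M : Type u) [AddCommGroup M] [Module A M] (n : ℕ) (z : K.X n ⊗[A] M) :
    (e n).toLinearMap.rTensor M z ∈ K'.B M n ↔ z ∈ K.B M n := by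
  have hinj : ∀ n, Function.Injective ((e n).toLinearMap.rTensor M) := fun n => ((e n).rTensor M).injective
  have hc : ∀ n w, K'.dT M n ((e n).toLinearMap.rTensor M w) = (e (n + 1)).toLinearMap.rTensor M (K.dT M n w) :=
    fun n w => by
      rw [Cx.dT, Cx.dT, ← LinearMap.rTensor_comp_apply, ← LinearMap.rTensor_comp_apply,
        show K'.d n ∘ₗ (e n).toLinearMap = (e (n + 1)).toLinearMap ∘ₗ K.d n from LinearMap.ext (he n)]
  cases n with
  | zero =>
    show _ ∈ (⊥ : Submodule A _) ↔ z ∈ (⊥ : Submodule A _)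
    rw [Submodule.mem_bot, Submodule.mem_bot, map_eq_zero_iff _ (hinj 0)]
  | succ n =>
    constructor
    · rintro ⟨w, hw⟩
      obtain ⟨w, rfl⟩ : ∃ v, (e n).toLinearMap.rTensor M v = w := ((e n).rTensor M).surjective w
      exact ⟨w, hinj (n + 1) ((hc n w).symm.trans hw)⟩
    · rintro ⟨w, rfl⟩
      exact ⟨(e n).toLinearMap.rTensor M w, hc n w⟩

theorem bij_compIso (M : Type u) [AddCommGroup M] [Module A M] (h : φ.Bij M) : (φ.compIso e he).Bij M := by
  intro n
  have hcomp : ∀ l, ((φ.compIso e he).f n).rTensor M l = (e n).toLinearMap.rTensor M ((φ.f n).rTensor M l) :=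
    fun l => LinearMap.rTensor_comp_apply M _ _ l
  refine ⟨fun z hz => ?_, fun l hl hfl => ?_⟩
  · obtain ⟨z, rfl⟩ : ∃ v, (e n).toLinearMap.rTensor M v = z := ((e n).rTensor M).surjective z
    have hz' : z ∈ K.Z M n := by
      rw [LinearMap.mem_ker] at hz ⊢
      rw [Cx.dT, ← LinearMap.rTensor_comp_apply,
        show K'.d n ∘ₗ (e n).toLinearMap = (e (n + 1)).toLinearMap ∘ₗ K.d n from LinearMap.ext (he n),
        LinearMap.rTensor_comp_apply] at hz
      exact ((e (n + 1)).rTensor M).injective (hz.trans (map_zero _).symm)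
    obtain ⟨l, hl, hzl⟩ := (h n).1 z hz'
    refine ⟨l, hl, ?_⟩
    rw [hcomp, ← map_sub]
    exact (mem_B_iso e he M n _).2 hzl
  · refine (h n).2 l hl ((mem_B_iso e he M n _).1 ?_)
    rwa [← hcomp]

end CxHom

end Groth.Agent.BCLib

namespace Groth.Agent.GenBCLib

variable {A : Type u} [CommRing A] {X : Scheme.{u}} [X.Over (Spec (CommRingCat.of A))]

theorem exists_model_of_flat [IsProper (X ↘ Spec (CommRingCat.of A))]
    [LocallyOfFinitePresentation (X ↘ Spec (CommRingCat.of A))] (F : X.Modules) [Coh.IsQCoh F]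
    (hF : CohB1.IsFP F) (hfl : FlatMod.IsFlatOver (X ↘ Spec (CommRingCat.of A)) F) :
    ∃ (ι : Type u) (_ : Finite ι) (W : ι → X.Opens) (_ : (⊤ : X.Opens) ≤ iSup W)
      (_ : ∀ (m : ℕ) (i : Fin (m + 1) → ι), IsAffineOpen (inter W i)) (K : Cx A)
      (e : ∀ n, K.X n ≃ₗ[A] Coch (str A X) F W n)
      (_ : ∀ n x, dL (str A X) F W n (e n x) = e (n + 1) (K.d n x)) (L : Cx A) (ψ : CxHom L K),
      (∀ n, Module.Finite A (L.X n)) ∧ (∀ n, Module.Projective A (L.X n)) ∧
      (∃ N, ∀ n, N < n → Subsingleton (L.X n)) ∧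
      ∀ (M : Type u) [AddCommGroup M] [Module A M], ψ.Bij M := by
  obtain ⟨R, φ, X₀, f₀, q, F₀, hR, hp, hc, hq₀, hfp₀, hfl₀, ⟨eF⟩⟩ :=
    exists_noetherian_family (A := CommRingCat.of A) (X ↘ Spec (CommRingCat.of A)) F hF hfl
  letI : X₀.Over (Spec (CommRingCat.of R)) := ⟨f₀⟩
  haveI : IsProper (X₀ ↘ Spec (CommRingCat.of R)) := hp
  haveI : IsLocallyNoetherian X₀ := LocallyOfFiniteType.isLocallyNoetherian f₀
  haveI := hq₀
  obtain ⟨ι, hι, V, hcov, haff, L₀, φ₀, hfin, hflat, hbd, -, hbij⟩ :=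
    exists_cover_bij (A := R) ((QCohLib.isCoh_iff_isFP F₀).2 hfp₀) hfl₀
  have hc' : IsPullback q (str A X) (str R X₀) (Spec.map φ) := hc
  letI := φ.hom.toAlgebra
  have hcov' : (⊤ : X.Opens) ≤ iSup (ProperFin.preCov q V) := fun x _ => by
    obtain ⟨b, hb⟩ := Opens.mem_iSup.1 (hcov (show q x ∈ (⊤ : X₀.Opens) from trivial))
    exact Opens.mem_iSup.2 ⟨b, hb⟩
  have haff' : ∀ (m : ℕ) (i : Fin (m + 1) → ι), IsAffineOpen (inter (ProperFin.preCov q V) i) := fun m i => by
    rw [← ProperFin.inter_preCov]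
    exact (isPushout_secHom (R := R) (R' := CommRingCat.of A) (f := str R X₀) (f' := str A X) hc' (haff m i)).1
  let Θ : ∀ n, A ⊗[R] (cechCx R V F₀).X n ≃ₗ[A] Coch (str A X) F (ProperFin.preCov q V) n := fun n =>
    letI := Module.compHom (Coch (str A X) ((Scheme.Modules.pullback q).obj F₀) (ProperFin.preCov q V) n) φ.hom
    haveI : IsScalarTower R A (Coch (str A X) ((Scheme.Modules.pullback q).obj F₀) (ProperFin.preCov q V) n) :=
      .of_algebraMap_smul fun _ _ => rfl
    (cochEquiv V (tensorASelfIso R F₀) n).baseChange R A ≪≫ₗ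
      (isBaseChange_pullCoch (R := R) (R' := CommRingCat.of A) q φ hc' V F₀ haff n).equiv ≪≫ₗ
      cochEquiv (ProperFin.preCov q V) eF n
  have hΘ : ∀ n x, dL (str A X) F (ProperFin.preCov q V) n (Θ n x) =
      Θ (n + 1) (((cechCx R V F₀).d n).baseChange A x) := fun n x => by
    letI := Module.compHom (Coch (str A X) ((Scheme.Modules.pullback q).obj F₀) (ProperFin.preCov q V) n) φ.hom
    haveI : IsScalarTower R A (Coch (str A X) ((Scheme.Modules.pullback q).obj F₀) (ProperFin.preCov q V) n) :=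
      .of_algebraMap_smul fun _ _ => rfl
    letI := Module.compHom (Coch (str A X) ((Scheme.Modules.pullback q).obj F₀) (ProperFin.preCov q V) (n + 1)) φ.hom
    haveI : IsScalarTower R A (Coch (str A X) ((Scheme.Modules.pullback q).obj F₀) (ProperFin.preCov q V) (n + 1)) :=
      .of_algebraMap_smul fun _ _ => rfl
    induction x using TensorProduct.induction_on with
    | zero => simp only [map_zero]
    | tmul b c =>
      simp only [Θ, LinearEquiv.trans_apply, LinearMap.baseChange_tmul, LinearEquiv.baseChange_tmul]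
      refine (dL_cochMap _ eF.hom n _).trans (congrArg (cochEquiv (ProperFin.preCov q V) eF (n + 1)) ?_)
      refine (congrArg _ (IsBaseChange.equiv_tmul
        (isBaseChange_pullCoch (R := R) (R' := CommRingCat.of A) q φ hc' V F₀ haff n) b _)).trans ?_
      refine Eq.trans ?_ (IsBaseChange.equiv_tmul
        (isBaseChange_pullCoch (R := R) (R' := CommRingCat.of A) q φ hc' V F₀ haff (n + 1)) b _).symm
      refine (map_smul (dL (str A X) _ (ProperFin.preCov q V) n) b _).trans (congrArg (b • ·) ?_)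
      exact (dL_pullCoch q φ hc' V F₀ n _).trans (congrArg _ (dL_cochMap V (tensorASelfIso R F₀).hom n c))
    | add u v hu hv => simp only [map_add, hu, hv]
  refine ⟨ι, hι, ProperFin.preCov q V, hcov', haff', (cechCx R V F₀).bcX A, Θ, hΘ, L₀.bcX A, φ₀.bcX A,
    fun n => ?_, fun n => ?_, ⟨Nat.card ι, fun n hn => ?_⟩, fun M _ _ => φ₀.bij_bcX A hbij M⟩
  · haveI := hfin n
    exact inferInstanceAs (Module.Finite A (A ⊗[R] L₀.X n))
  · haveI := hfin n
    haveI := hflat n
    haveI : Module.FinitePresentation R (L₀.X n) := Module.finitePresentation_of_finite R _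
    haveI : Module.Projective R (L₀.X n) := Module.Flat.projective_of_finitePresentation
    exact inferInstanceAs (Module.Projective A (A ⊗[R] L₀.X n))
  · haveI := hbd n hn
    exact inferInstanceAs (Subsingleton (A ⊗[R] L₀.X n))

variable {X' S : Scheme.{u}} (f : X' ⟶ S) {V : S.Opens} (hV : IsAffineOpen V)

/-- The model over an affine open of the base. -/
theorem exists_model_upCx [IsProper f] [LocallyOfFinitePresentation f] (F : X'.Modules) [Coh.IsQCoh F]
    (hF : CohB1.IsFP F) (hfl : FlatMod.IsFlatOver f F) :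
    ∃ (ι : Type u) (_ : Finite ι) (W : ι → (f ⁻¹ᵁ V : Scheme.{u}).Opens)
      (_ : (⊤ : (f ⁻¹ᵁ V : Scheme.{u}).Opens) ≤ iSup W)
      (_ : ∀ (m : ℕ) (i : Fin (m + 1) → ι), IsAffineOpen (inter W i)) (L : Cx Γ(S, V))
      (ψ : CxHom L (upCx f hV F W)),
      (∀ n, Module.Finite Γ(S, V) (L.X n)) ∧ (∀ n, Module.Projective Γ(S, V) (L.X n)) ∧
      (∃ N, ∀ n, N < n → Subsingleton (L.X n)) ∧
      ∀ (M : Type u) [AddCommGroup M] [Module Γ(S, V) M], ψ.Bij M := by
  letI := overV f hV
  haveI : IsProper ((f ⁻¹ᵁ V : Scheme.{u}) ↘ Spec (CommRingCat.of Γ(S, V))) := isProper_restOver f hV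
  haveI : LocallyOfFinitePresentation ((f ⁻¹ᵁ V : Scheme.{u}) ↘ Spec (CommRingCat.of Γ(S, V))) :=
    MorphismProperty.of_isPullback (P := @LocallyOfFinitePresentation) (isPullback_restOver f hV) inferInstance
  haveI := isQCoh_restrict F (f ⁻¹ᵁ V)
  let i := (Scheme.Modules.restrictFunctorIsoPullback (f ⁻¹ᵁ V).ι).app F
  have hF' : CohB1.IsFP (F.restrict (f ⁻¹ᵁ V).ι) :=
    DCohLib.isFP_iso i.symm (PullbackMod.isFP_pullback _ F hF)
  have hfl' : FlatMod.IsFlatOver ((f ⁻¹ᵁ V : Scheme.{u}) ↘ Spec (CommRingCat.of Γ(S, V))) (F.restrict (f ⁻¹ᵁ V).ι) :=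
    fun x => PullbackMod.isFlatOverAt_of_iso i.symm _ x (isFlatOver_restMod f hV hfl x)
  obtain ⟨ι, hι, W, hcov, haff, K, e, he, L, ψ, h1, h2, h3, h4⟩ :=
    exists_model_of_flat (A := Γ(S, V)) (F.restrict (f ⁻¹ᵁ V).ι) hF' hfl'
  exact ⟨ι, hι, W, hcov, haff, L, ψ.compIso (K' := upCx f hV F W) e he, h1, h2, h3,
    fun M _ _ => ψ.bij_compIso (K' := upCx f hV F W) e he M (h4 M)⟩

end Groth.Agent.GenBCLib
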