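import Groth.Agent.GenBCLib.FCmp

/-!
# Pullback of cohomology classes is compatible with composition
-/

set_option autoImplicit false
set_option backward.isDefEq.respectTransparency false
set_option linter.style.haveILetI false

universe u

open CategoryTheory CategoryTheory.Limits Opposite TopologicalSpace CategoryTheory.Abelian
open Groth.Agent.CohBase

noncomputable section

namespace Groth.Agent.GenBCLib

variable {X Y Z : TopCat.{u}}

theorem pullH_map (g : X ⟶ Y) {F : CohTop.Ab Y} {G G' : CohTop.Ab X} (ψ : F ⟶ (CohTop.push g).obj G) (b : G ⟶ G')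
    (p : ℕ) (x : Sheaf.H F p) :
    Sheaf.H.map b p (pullH g ψ p x) = pullH g (ψ ≫ (CohTop.push g).map b) p x := by
  show Sheaf.H.map b p (Sheaf.H.map _ p _) = Sheaf.H.map _ p _
  rw [Adjunction.homEquiv_naturality_right_symm, Sheaf.H.map_comp_apply]

theorem map_pullH (g : X ⟶ Y) {F F' : CohTop.Ab Y} {G : CohTop.Ab X} (a : F ⟶ F') (ψ : F' ⟶ (CohTop.push g).obj G)
    (p : ℕ) (x : Sheaf.H F p) :
    pullH g ψ p (Sheaf.H.map a p x) = pullH g (a ≫ ψ) p x := by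
  show Sheaf.H.map _ p (CohPull.pullAb g F' p (Sheaf.H.map a p x)) = Sheaf.H.map _ p (CohPull.pullAb g F p x)
  rw [Adjunction.homEquiv_naturality_left_symm, Sheaf.H.map_comp_apply]
  refine congrArg _ ?_
  show (Ext.mk₀ (CohPull.oneTo g)).comp ((x.comp (Ext.mk₀ a) (add_zero p)).mapExactFunctor (CohPull.inv g)) (zero_add p) =
    ((Ext.mk₀ (CohPull.oneTo g)).comp (x.mapExactFunctor (CohPull.inv g)) (zero_add p)).comp
      (Ext.mk₀ ((CohPull.inv g).map a)) (add_zero p)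
  rw [Ext.mapExactFunctor_comp, Ext.mapExactFunctor_mk₀, Ext.comp_assoc_of_third_deg_zero]

/-- The unit, as a map over `g`. -/
abbrev unitTop (g : X ⟶ Y) (F : CohTop.Ab Y) : F ⟶ (CohTop.push g).obj ((CohPull.inv g).obj F) :=
  (CohPull.invPushAdj g).unit.app F

variable (g₁ : X ⟶ Y) (g₂ : Y ⟶ Z)

/-- Composite of maps over `g₂` and `g₁`. -/
def compOver {F : CohTop.Ab Z} {G : CohTop.Ab Y} {K : CohTop.Ab X} (ψ₂ : F ⟶ (CohTop.push g₂).obj G)
    (ψ₁ : G ⟶ (CohTop.push g₁).obj K) : F ⟶ (CohTop.push (g₁ ≫ g₂)).obj K :=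
  ψ₂ ≫ (CohTop.push g₂).map ψ₁

theorem pullH_unit_comp : ∀ (p : ℕ) (F : CohTop.Ab Z) (x : Sheaf.H F p),
    pullH g₁ (unitTop g₁ _) p (pullH g₂ (unitTop g₂ F) p x) =
      pullH (g₁ ≫ g₂) (compOver g₁ g₂ (unitTop g₂ F) (unitTop g₁ _)) p x
  | 0, F, x => by
    apply (Sheaf.H.equiv₀ _ isTerminalTop).injective
    rw [equiv₀_pullH, equiv₀_pullH, equiv₀_pullH]
    rfl
  | p + 1, F, x => by
    have hS := injSeq_shortExact F
    have h₂ := hS.map_of_exact (CohPull.inv g₂)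
    have h₁ := h₂.map_of_exact (CohPull.inv g₁)
    haveI : Injective (injSeq F).X₂ := inferInstanceAs (Injective (Injective.under F))
    obtain ⟨w, rfl⟩ : ∃ w : Sheaf.H (injSeq F).X₃ p, w.comp hS.extClass rfl = x :=
      Ext.covariant_sequence_exact₁ _ hS x (Ext.eq_zero_of_injective _) rfl
    have nat₂ : ∀ {A B : CohTop.Ab Z} (φ : A ⟶ B),
        unitTop g₂ A ≫ (CohTop.push g₂).map ((CohPull.inv g₂).map φ) = φ ≫ unitTop g₂ B :=
      fun φ => ((CohPull.invPushAdj g₂).unit.naturality φ).symm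
    have nat₁ : ∀ {A B : CohTop.Ab Y} (φ : A ⟶ B),
        unitTop g₁ A ≫ (CohTop.push g₁).map ((CohPull.inv g₁).map φ) = φ ≫ unitTop g₁ B :=
      fun φ => ((CohPull.invPushAdj g₁).unit.naturality φ).symm
    have nat : ∀ {A B : CohTop.Ab Z} (φ : A ⟶ B),
        compOver g₁ g₂ (unitTop g₂ A) (unitTop g₁ _) ≫
          (CohTop.push (g₁ ≫ g₂)).map ((CohPull.inv g₁).map ((CohPull.inv g₂).map φ)) =
        φ ≫ compOver g₁ g₂ (unitTop g₂ B) (unitTop g₁ _) := fun {A B} φ => by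
      show (unitTop g₂ A ≫ (CohTop.push g₂).map (unitTop g₁ _)) ≫
        (CohTop.push g₂).map ((CohTop.push g₁).map ((CohPull.inv g₁).map ((CohPull.inv g₂).map φ))) = _
      rw [Category.assoc, ← Functor.map_comp, nat₁, Functor.map_comp, reassoc_of% (nat₂ φ)]
      rfl
    erw [pullH_delta g₂ hS h₂ (unitTop g₂ _) (unitTop g₂ _) (unitTop g₂ _) (nat₂ _) (nat₂ _) p w,
      pullH_delta g₁ h₂ h₁ (unitTop g₁ _) (unitTop g₁ _) (unitTop g₁ _) (nat₁ _) (nat₁ _) p,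
      pullH_delta (g₁ ≫ g₂) hS h₁ (compOver g₁ g₂ (unitTop g₂ _) (unitTop g₁ _))
        (compOver g₁ g₂ (unitTop g₂ _) (unitTop g₁ _)) (compOver g₁ g₂ (unitTop g₂ _) (unitTop g₁ _))
        (nat _) (nat _) p w]
    exact congrArg (fun t => Ext.comp t h₁.extClass rfl) (pullH_unit_comp p (injSeq F).X₃ w)

theorem eq_unit_comp {g : X ⟶ Y} {F : CohTop.Ab Y} {G : CohTop.Ab X} (ψ : F ⟶ (CohTop.push g).obj G) :
    unitTop g F ≫ (CohTop.push g).map (((CohPull.invPushAdj g).homEquiv _ _).symm ψ) = ψ :=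
  (Adjunction.homEquiv_unit _ _ _ _).symm.trans (Equiv.apply_symm_apply _ _)

/-- Composition of pullbacks. -/
theorem pullH_pullH {F : CohTop.Ab Z} {G : CohTop.Ab Y} {K : CohTop.Ab X} (ψ₂ : F ⟶ (CohTop.push g₂).obj G)
    (ψ₁ : G ⟶ (CohTop.push g₁).obj K) (p : ℕ) (x : Sheaf.H F p) :
    pullH g₁ ψ₁ p (pullH g₂ ψ₂ p x) = pullH (g₁ ≫ g₂) (compOver g₁ g₂ ψ₂ ψ₁) p x := by
  let θ₂ := ((CohPull.invPushAdj g₂).homEquiv F G).symm ψ₂
  let θ₁ := ((CohPull.invPushAdj g₁).homEquiv _ K).symm (θ₂ ≫ ψ₁)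
  have e₂ : unitTop g₂ F ≫ (CohTop.push g₂).map θ₂ = ψ₂ := eq_unit_comp ψ₂
  have e₁ : unitTop g₁ _ ≫ (CohTop.push g₁).map θ₁ = θ₂ ≫ ψ₁ := eq_unit_comp _
  rw [← e₂, ← pullH_map, map_pullH, ← e₁, ← pullH_map, pullH_unit_comp, pullH_map]
  refine congrArg (fun t => pullH (g₁ ≫ g₂) t p x) ?_
  show (unitTop g₂ F ≫ (CohTop.push g₂).map (unitTop g₁ _)) ≫ (CohTop.push g₂).map ((CohTop.push g₁).map θ₁) =
    (unitTop g₂ F ≫ (CohTop.push g₂).map θ₂) ≫ (CohTop.push g₂).map ψ₁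
  rw [Category.assoc, Category.assoc, ← Functor.map_comp, ← Functor.map_comp, e₁]

end Groth.Agent.GenBCLib
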