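import Groth.Agent.GenBCLib.PullOn
import Groth.Agent.GenBCLib.PullComp
import Groth.Agent.CohCmpLib.ResDelta

/-!
# `CohPull.pullOn` and `CohPull.resLE` as pullbacks along maps over continuous maps
-/

set_option autoImplicit false
set_option backward.isDefEq.respectTransparency false
set_option linter.style.haveILetI false

universe u

open CategoryTheory CategoryTheory.Limits AlgebraicGeometry AlgebraicGeometry.Scheme.Modules TopologicalSpace Opposite
open Groth.Agent.PullbackMod Groth.Agent.CohBase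

noncomputable section

namespace Groth.Agent.GenBCLib

variable {X Y : Scheme.{u}}

theorem le_preimage_id {U U' : X.Opens} (h : U' ≤ U) : U' ≤ (𝟙 X : X ⟶ X) ⁻¹ᵁ U := fun _ hx => h hx

/-- The inclusion of a smaller open, as used by `CohPull.resLE`. -/
abbrev resMor {U U' : X.Opens} (h : U' ≤ U) : U'.toScheme ⟶ U.toScheme :=
  Scheme.Hom.resLE (𝟙 X) U U' (le_preimage_id h)

/-- The map over `g` underlying `CohPull.pullOn`. -/
def onAb (g : X ⟶ Y) (U : Y.Opens) (U' : X.Opens) (h : U' ≤ g ⁻¹ᵁ U) (F : Y.Modules) :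
    (CohCmp.toAbOn Y U).obj F ⟶
      (CohTop.push (g.resLE U U' h).base).obj ((CohCmp.toAbOn X U').obj ((Scheme.Modules.pullback g).obj F)) :=
  (SheafOfModules.toSheaf U.toScheme.ringCatSheaf).map
      ((pullbackPushforwardAdjunction (g.resLE U U' h)).unit.app (F.restrict U.ι)) ≫
    (CohTop.push (g.resLE U U' h).base).map
      ((SheafOfModules.toSheaf U'.toScheme.ringCatSheaf).map (CohPull.pullOnIso g U U' h F).hom)

theorem onAb_app (g : X ⟶ Y) (U : Y.Opens) (U' : X.Opens) (h : U' ≤ g ⁻¹ᵁ U) (F : Y.Modules)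
    (W : U.toScheme.Opens) (s : Γ(F, U.ι ''ᵁ W)) :
    (onAb g U U' h F).hom.app (op W) s =
      pullMap g F (pullOn_le g U U' h (W := W) (le_refl (g.resLE U U' h ⁻¹ᵁ W))) s := by
  refine Eq.trans ?_ (pullOnIso_pullMap g U U' h F (W := W) (le_refl (g.resLE U U' h ⁻¹ᵁ W)) s)
  refine congrArg ((CohPull.pullOnIso g U U' h F).hom.app (g.resLE U U' h ⁻¹ᵁ W)) ?_
  exact (Groth.Agent.CohBase.restr_self ((Scheme.Modules.pullback (g.resLE U U' h)).obj (F.restrict U.ι)) (le_refl (g.resLE U U' h ⁻¹ᵁ W)) _).symm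

theorem pullOn_eq (g : X ⟶ Y) (U : Y.Opens) (U' : X.Opens) (h : U' ≤ g ⁻¹ᵁ U) (F : Y.Modules) (p : ℕ)
    (x : Coh.HHon Y F U p) :
    CohPull.pullOn g U U' h F p x = pullH (g.resLE U U' h).base (onAb g U U' h F) p x :=
  pullH_map (g.resLE U U' h).base _ _ p x

/-- The map over the inclusion underlying `CohPull.resLE`. -/
def restrAb (F : X.Modules) {U U' : X.Opens} (h : U' ≤ U) :
    (CohCmp.toAbOn X U).obj F ⟶ (CohTop.push (resMor h).base).obj ((CohCmp.toAbOn X U').obj F) :=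
  onAb (𝟙 X) U U' (le_preimage_id h) F ≫
    (CohTop.push (resMor h).base).map
      ((CohCmp.toAbOn X U').map ((Scheme.Modules.pullbackId X).hom.app F))

theorem restr_le {U U' : X.Opens} (h : U' ≤ U) (W : U.toScheme.Opens) :
    U'.ι ''ᵁ (resMor h ⁻¹ᵁ W) ≤ U.ι ''ᵁ W :=
  fun _ hx => pullOn_le (𝟙 X) U U' (le_preimage_id h) (W := W) le_rfl hx

theorem restrAb_app (F : X.Modules) {U U' : X.Opens} (h : U' ≤ U) (W : U.toScheme.Opens)
    (s : Γ(F, U.ι ''ᵁ W)) :
    (restrAb F h).hom.app (op W) s = F.presheaf.map (homOfLE (restr_le h W)).op s := by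
  refine Eq.trans ?_ (pullMap_id F (pullOn_le (𝟙 X) U U' (le_preimage_id h) (W := W) le_rfl) (restr_le h W) s)
  exact congrArg (((pullbackId X).hom.app F).app (U'.ι ''ᵁ (resMor h ⁻¹ᵁ W))) (onAb_app (𝟙 X) U U' (le_preimage_id h) F W s)

theorem resLE_eq_pullH (F : X.Modules) {U U' : X.Opens} (h : U' ≤ U) (p : ℕ) (x : Coh.HHon X F U p) :
    CohPull.resLE F h p x = pullH (resMor h).base (restrAb F h) p x := by
  show CohPull.mapH _ p (CohPull.pullOn (𝟙 X) U U' (le_preimage_id h) F p x) = _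
  rw [pullOn_eq]
  exact pullH_map (resMor h).base _ _ p x

theorem resMor_comp (g : X ⟶ Y) {U : Y.Opens} {U' U'' : X.Opens} (h : U' ≤ g ⁻¹ᵁ U) (h' : U'' ≤ U') :
    resMor h' ≫ g.resLE U U' h = g.resLE U U'' (h'.trans h) := by
  rw [← cancel_mono U.ι]
  simp

theorem pullH_congr {X Y : TopCat.{u}} {g g' : X ⟶ Y} (e : g = g') {F : CohTop.Ab Y} {G : CohTop.Ab X}
    (ψ : F ⟶ (CohTop.push g).obj G) (ψ' : F ⟶ (CohTop.push g').obj G)
    (hψ : ψ ≫ eqToHom (by rw [e]) = ψ') (p : ℕ) (x : Sheaf.H F p) : pullH g ψ p x = pullH g' ψ' p x := by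
  subst e
  rw [← hψ, eqToHom_refl, Category.comp_id]

theorem push_eqToHom_app {X Y : TopCat.{u}} {g g' : X ⟶ Y} (e : g = g') (G : CohTop.Ab X) (W : Opens Y)
    (t : G.obj.obj (op ((Opens.map g).obj W))) :
    (eqToHom (show (CohTop.push g).obj G = (CohTop.push g').obj G by rw [e])).hom.app (op W) t =
      G.obj.map (eqToHom (show (Opens.map g').obj W = (Opens.map g).obj W by rw [e])).op t := by
  subst e
  simp

theorem restrAb_onAb_app (g : X ⟶ Y) (U : Y.Opens) {U' U'' : X.Opens} (h : U' ≤ g ⁻¹ᵁ U) (h' : U'' ≤ U')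
    (F : Y.Modules) (W : U.toScheme.Opens) (T : U''.toScheme.Opens) (i : T ≤ resMor h' ⁻¹ᵁ (g.resLE U U' h ⁻¹ᵁ W))
    (e : U''.ι ''ᵁ T ≤ g ⁻¹ᵁ (U.ι ''ᵁ W)) (s : Γ(F, U.ι ''ᵁ W)) :
    ((Scheme.Modules.pullback g).obj F).presheaf.map (homOfLE (U''.ι.image_mono i)).op
      ((restrAb ((Scheme.Modules.pullback g).obj F) h').hom.app (op (g.resLE U U' h ⁻¹ᵁ W))
        ((onAb g U U' h F).hom.app (op W) s)) = pullMap g F e s := by
  rw [onAb_app]
  erw [restrAb_app]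
  rw [Groth.Agent.CohBase.restr_trans]
  exact (pullMap_res g F (pullOn_le g U U' h (W := W) le_rfl) le_rfl _ e s).trans
    (congrArg (pullMap g F e) (Groth.Agent.CohBase.restr_self F _ s))

theorem comp_base_eq (g : X ⟶ Y) (U : Y.Opens) {U' U'' : X.Opens} (h : U' ≤ g ⁻¹ᵁ U) (h' : U'' ≤ U') :
    (resMor h').base ≫ (g.resLE U U' h).base = (g.resLE U U'' (h'.trans h)).base :=
  congrArg (fun k => k.base) (resMor_comp g h h')

theorem compOver_eq {X Y Z : TopCat.{u}} (g₁ : X ⟶ Y) (g₂ : Y ⟶ Z) {g : X ⟶ Z} (e : g₁ ≫ g₂ = g) {F : CohTop.Ab Z}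
    {G : CohTop.Ab Y} {K : CohTop.Ab X} (ψ₂ : F ⟶ (CohTop.push g₂).obj G) (ψ₁ : G ⟶ (CohTop.push g₁).obj K)
    (ψ : F ⟶ (CohTop.push g).obj K)
    (h : ∀ (W : Opens Z) (s : F.obj.obj (op W)) (i : (Opens.map g).obj W ≤ (Opens.map g₁).obj ((Opens.map g₂).obj W)),
      res K.obj i (ψ₁.hom.app (op ((Opens.map g₂).obj W)) (ψ₂.hom.app (op W) s)) = ψ.hom.app (op W) s) :
    compOver g₁ g₂ ψ₂ ψ₁ ≫ eqToHom (show (CohTop.push (g₁ ≫ g₂)).obj K = (CohTop.push g).obj K by rw [e]) = ψ := by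
  subst e
  rw [eqToHom_refl, Category.comp_id]
  refine ObjectProperty.hom_ext _ (NatTrans.ext (funext fun W => AddCommGrpCat.hom_ext (AddMonoidHom.ext fun s => ?_)))
  exact (res_self K.obj le_rfl _).symm.trans (h W.unop s le_rfl)

theorem compOver_onAb_app (g : X ⟶ Y) (U : Y.Opens) {U' U'' : X.Opens} (h : U' ≤ g ⁻¹ᵁ U) (h' : U'' ≤ U')
    (F : Y.Modules) (W : U.toScheme.Opens) (s : Γ(F, U.ι ''ᵁ W))
    (i : g.resLE U U'' (h'.trans h) ⁻¹ᵁ W ≤ resMor h' ⁻¹ᵁ (g.resLE U U' h ⁻¹ᵁ W)) :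
    ((Scheme.Modules.pullback g).obj F).presheaf.map (homOfLE (U''.ι.image_mono i)).op
      ((restrAb ((Scheme.Modules.pullback g).obj F) h').hom.app (op (g.resLE U U' h ⁻¹ᵁ W))
        ((onAb g U U' h F).hom.app (op W) s)) = (onAb g U U'' (h'.trans h) F).hom.app (op W) s :=
  (restrAb_onAb_app g U h h' F W _ i (pullOn_le g U U'' (h'.trans h) (W := W) le_rfl) s).trans
    (onAb_app g U U'' (h'.trans h) F W s).symm

theorem compOver_onAb (g : X ⟶ Y) (U : Y.Opens) {U' U'' : X.Opens} (h : U' ≤ g ⁻¹ᵁ U) (h' : U'' ≤ U')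
    (F : Y.Modules) :
    compOver (resMor h').base (g.resLE U U' h).base (onAb g U U' h F) (restrAb ((Scheme.Modules.pullback g).obj F) h') ≫
      eqToHom (by rw [comp_base_eq g U h h']) = onAb g U U'' (h'.trans h) F :=
  compOver_eq _ _ (comp_base_eq g U h h') _ _ _ fun W s i => compOver_onAb_app g U h h' F W s i

/-- Pulling back and restricting is pulling back to the smaller open. -/
theorem resLE_pullOn (g : X ⟶ Y) (U : Y.Opens) {U' U'' : X.Opens} (h : U' ≤ g ⁻¹ᵁ U) (h' : U'' ≤ U')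
    (F : Y.Modules) (p : ℕ) (x : Coh.HHon Y F U p) :
    CohPull.resLE ((Scheme.Modules.pullback g).obj F) h' p (CohPull.pullOn g U U' h F p x) =
      CohPull.pullOn g U U'' (h'.trans h) F p x := by
  rw [pullOn_eq, pullOn_eq, resLE_eq_pullH]
  refine (pullH_pullH (resMor h').base (g.resLE U U' h).base _ _ p x).trans ?_
  exact pullH_congr (comp_base_eq g U h h') _ _ (compOver_onAb g U h h' F) p x

end Groth.Agent.GenBCLib
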