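import Groth.Agent.GenBCLib.RankGoal
import Groth.Agent.GenBCLib.Near
import Groth.Agent.GenBCLib.Main

/-!
# The rank of a higher direct image at a good point is the fibre rank
-/

set_option autoImplicit false
set_option backward.isDefEq.respectTransparency false
set_option backward.defeqAttrib.useBackward true
set_option linter.style.haveILetI false
set_option linter.unusedSectionVars false
set_option maxHeartbeats 1000000

universe u

open CategoryTheory CategoryTheory.Limits AlgebraicGeometry TopologicalSpace Opposite TensorProduct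
open Groth.Agent.CohBase Groth.Agent.BCLib Groth.Agent.PullbackMod

noncomputable section

namespace Groth.Agent.GenBCLib

theorem finrank_tensor_cohom {A : Type u} [CommRing A] (L : Cx A) (K : Type u) [Field K] [Algebra A K] {n : ℕ}
    {H : Type u} [AddCommGroup H] [Module A H] (ev : ↥(LinearMap.ker (L.d n)) →ₗ[A] H)
    (hev : Function.Surjective ev) (hk : ∀ z, ev z = 0 ↔ z.1 ∈ L.bd n) (h : L.BCBij K n) :
    Module.finrank K (K ⊗[A] H) = FlatCx.kdim (L.δ n) K := by
  let π : K ⊗[A] ↥(LinearMap.ker (L.d n)) →ₗ[K] K ⊗[A] H := ev.baseChange K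
  have hπ : Function.Surjective π := by
    show Function.Surjective (ev.baseChange K)
    rw [LinearMap.baseChange_eq_ltensor]
    exact LinearMap.lTensor_surjective K hev
  have hπk : ∀ w, π w = 0 ↔ w ∈ LinearMap.range (L.bIncl K n) := fun w => by
    have hex : Function.Exact (Submodule.inclusion (L.bd_le_ker n)) ev := fun x =>
      (hk x).trans (L.bd_mem_iff n x).symm
    exact lTensor_exact K hex hev w
  let φ : K ⊗[A] ↥(LinearMap.ker (L.d n)) →ₗ[K] ↥(LinearMap.ker ((L.δ n).baseChange K)) :=
    ((L.bd n).mkQ.baseChange K ∘ₗ L.zIncl K n).codRestrict _ fun w =>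
      LinearMap.mem_ker.2 ((L.baseChange_δ_mkQ K n _).trans (LinearMap.mem_ker.1 (L.zIncl_mem K n w)))
  have hφ : Function.Surjective φ := fun ⟨y, hy⟩ => by
    obtain ⟨z, rfl⟩ : ∃ z, (L.bd n).mkQ.baseChange K z = y := by
      have hs : Function.Surjective ((L.bd n).mkQ.baseChange K) := by
        rw [LinearMap.baseChange_eq_ltensor]
        exact LinearMap.lTensor_surjective K (Submodule.mkQ_surjective _)
      exact hs y
    obtain ⟨w, hw⟩ := h.1 z (LinearMap.mem_ker.2 ((L.baseChange_δ_mkQ K n z).symm.trans (LinearMap.mem_ker.1 hy)))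
    refine ⟨w, Subtype.ext (Eq.symm (sub_eq_zero.1 ?_))⟩
    show (L.bd n).mkQ.baseChange K z - (L.bd n).mkQ.baseChange K (L.zIncl K n w) = 0
    rw [← map_sub]
    exact (L.baseChange_mkQ_eq_zero_iff K n _).2 hw
  have hker : LinearMap.ker π = LinearMap.ker φ := Submodule.ext fun w => by
    rw [LinearMap.mem_ker, LinearMap.mem_ker, hπk]
    constructor
    · rintro ⟨y, rfl⟩
      exact Subtype.ext ((L.baseChange_mkQ_eq_zero_iff K n _).2 (CxHom.zIncl_bIncl (L := L) K n y))
    · exact fun hw => h.2 w ((L.baseChange_mkQ_eq_zero_iff K n _).1 (congrArg Subtype.val hw))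
  have h1 := (LinearMap.quotKerEquivOfSurjective π hπ).finrank_eq
  have h2 := (LinearMap.quotKerEquivOfSurjective (R := K) (M := K ⊗[A] ↥(LinearMap.ker (L.d n))) (M₂ := ↥(LinearMap.ker ((L.δ n).baseChange K))) φ hφ).finrank_eq
  rw [← h1, hker]
  exact h2

variable {X S : Scheme.{u}} {f : X ⟶ S} {F : X.Modules} {V : S.Opens} (D : Dat f F V) {s : S}
  [IsSeparated f] [QuasiCompact f] [Coh.IsQCoh F] [HasInjectiveResolutions X.Modules]

/-- In a neighbourhood good in degrees `n` and `n - 1` the higher direct image is free of the fibre rank. -/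
theorem Dat.freeAt_rpush_of_good {a : Γ(S, V)} {n : ℕ} (ha : s ∈ S.basicOpen a) (hg : D.L.Good a n)
    (hsp : D.L.Split a n) : FreeAt (CohIII.fiberRank f F n s) ((Coh.Rpush f n).obj F) s := by
  let M := (Coh.Rpush f n).obj F
  haveI : Coh.IsQCoh M := RpushLib.isQCoh_rpush f n
  let B := Γ(S, V)
  let q : Ideal B := D.idl (S.basicOpen_le a ha)
  let O := S.presheaf.stalk s
  letI : Algebra B O := TopCat.Presheaf.algebra_section_stalk S.presheaf ⟨s, S.basicOpen_le a ha⟩
  haveI : IsLocalization.AtPrime O q := D.hV.isLocalization_stalk ⟨s, S.basicOpen_le a ha⟩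
  letI := Module.compHom (M.presheaf.stalk s) (S.presheaf.germ V s (S.basicOpen_le a ha)).hom
  haveI := FlatLocus.isLocalizedModule_germL M D.hV s (S.basicOpen_le a ha)
  haveI : IsScalarTower B O (M.presheaf.stalk s) := .of_algebraMap_smul fun _ _ => rfl
  let j := (IsLocalizedModule.isBaseChange q.primeCompl O (FlatLocus.germL M V s (S.basicOpen_le a ha))).equiv
  obtain ⟨ev, hev, hev0⟩ := D.exists_evDown n
  obtain ⟨i, p, hip⟩ := D.L.exists_retract_cohom hev hev0 hg hsp
  have hu : IsUnit (algebraMap B O a) := (S.mem_basicOpen a s (S.basicOpen_le a ha)).1 ha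
  obtain ⟨h1, h2⟩ := finite_projective_of_retract O i p (a * a) (by rw [map_mul]; exact hu.mul hu) hip
  haveI := h1; haveI := h2
  haveI : Module.Free O (O ⊗[B] Γ(M, V)) := Module.free_of_flat_of_isLocalRing
  have hn : Module.finrank O (O ⊗[B] Γ(M, V)) = CohIII.fiberRank f F n s := by
    rw [← finrank_eq_residue q O, D.fiberRank_eq (S.basicOpen_le a ha) n]
    exact finrank_tensor_cohom D.L q.ResidueField ev hev hev0 (hg.bcBij _ (D.isUnit_residue _ ha))
  exact ⟨j.symm ≪≫ₗ (Module.finBasisOfFinrankEq O (O ⊗[B] Γ(M, V)) hn).equivFun⟩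

end Groth.Agent.GenBCLib
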