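import Groth.Agent.ZeroAcycLib.Approx
import Groth.Agent.ZeroAcycLib.Field
import Groth.Agent.PIGeomRedLib.Main
import Groth.Agent.RedTensor.Basic
import Groth.Agent.S0434
import Groth.Agent.S9158
import Groth.Agent.GeomRedFieldLib.Basic

/-!
# Generic integral closedness over a dense open of a noetherian domain
-/

set_option autoImplicit false
set_option linter.unusedSectionVars false
set_option linter.style.haveILetI false
set_option backward.isDefEq.respectTransparency false
set_option maxHeartbeats 1000000

universe u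

open CategoryTheory CategoryTheory.Limits AlgebraicGeometry TensorProduct Polynomial
open Groth.Agent.ZeroAcycLib

noncomputable section

namespace Groth.Agent.GenBCLib

/-- Maps to an algebraically closed field extend along integral injective extensions. -/
theorem exists_algHom_of_integral {V V' L : Type u} [CommRing V] [CommRing V'] [Algebra V V'] [FaithfulSMul V V']
    [Algebra.IsIntegral V V'] [Field L] [IsAlgClosed L] [Algebra V L] : Nonempty (V' →ₐ[V] L) := by
  let p := RingHom.ker (algebraMap V L)
  haveI : p.IsPrime := RingHom.ker_isPrime _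
  obtain ⟨q, -, hq, hqc⟩ := Ideal.exists_ideal_over_prime_of_isIntegral p (⊥ : Ideal V') (by
    intro v hv
    rw [Ideal.mem_comap, Ideal.mem_bot, map_eq_zero_iff _ (FaithfulSMul.algebraMap_injective V V')] at hv
    rw [hv]
    exact p.zero_mem)
  haveI := hq
  haveI : q.LiesOver p := ⟨hqc.symm⟩
  letI : Algebra (V ⧸ p) L := (Ideal.Quotient.lift p (algebraMap V L) fun v hv => hv).toAlgebra
  haveI : IsScalarTower V (V ⧸ p) L := IsScalarTower.of_algebraMap_eq fun v => rfl
  haveI : FaithfulSMul (V ⧸ p) L := (faithfulSMul_iff_algebraMap_injective _ _).2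
    ((injective_iff_map_eq_zero _).2 fun v hv => by
      obtain ⟨v, rfl⟩ := Ideal.Quotient.mk_surjective v
      exact Ideal.Quotient.eq_zero_iff_mem.2 hv)
  haveI : Algebra.IsIntegral (V ⧸ p) (V' ⧸ q) := inferInstance
  haveI : Algebra.IsAlgebraic (V ⧸ p) (V' ⧸ q) := Algebra.IsIntegral.isAlgebraic
  haveI : Module.IsTorsionFree (V ⧸ p) (V' ⧸ q) := inferInstance
  let j : (V' ⧸ q) →ₐ[V ⧸ p] L := IsAlgClosed.lift
  exact ⟨(j.restrictScalars V).comp ((Ideal.Quotient.mkₐ V' q).restrictScalars V)⟩

/-- Generic integral closedness descends along integral injective extensions of the base, up to nilpotents. -/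
theorem genClosed_of_integral {V P V' Q : Type u} [CommRing V] [CommRing P] [Algebra V P] [CommRing V'] [Algebra V V']
    [FaithfulSMul V V'] [Algebra.IsIntegral V V'] [CommRing Q] [Algebra V' Q] (π : V' ⊗[V] P →ₐ[V'] Q)
    (hπ : Function.Surjective π) (hπ' : ∀ z, π z = 0 → IsNilpotent z) (hQ : GenClosed V' Q) : GenClosed V P := by
  intro R' L _ _ _ _ _ _ _ _ _ _ _ x hx
  obtain ⟨j⟩ := exists_algHom_of_integral (V := V) (V' := V') (L := L)
  have hmem : ∀ y : V', ∃ r : R', algebraMap R' L r = j y := fun y => by
    have h1 : IsIntegral V (j y) := (Algebra.IsIntegral.isIntegral (R := V) y).map j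
    exact IsIntegrallyClosed.isIntegral_iff.1 h1.tower_top
  let ι : R' →ₐ[V] L := IsScalarTower.toAlgHom V R' L
  let jR : V' →ₐ[V] R' := (AlgEquiv.ofInjective ι (IsFractionRing.injective R' L)).symm.toAlgHom.comp
    (j.codRestrict ι.range fun y => hmem y)
  have hjR : ∀ y, algebraMap R' L (jR y) = j y := fun y =>
    congrArg Subtype.val ((AlgEquiv.ofInjective ι (IsFractionRing.injective R' L)).apply_symm_apply
      (j.codRestrict ι.range (fun y => hmem y) y))
  letI : Algebra V' R' := jR.toRingHom.toAlgebra
  letI : Algebra V' L := j.toRingHom.toAlgebra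
  haveI : IsScalarTower V' R' L := IsScalarTower.of_algebraMap_eq fun y => (hjR y).symm
  haveI : IsScalarTower V V' R' := IsScalarTower.of_algebraMap_eq fun y => (jR.commutes y).symm
  haveI : IsScalarTower V V' L := IsScalarTower.of_algebraMap_eq fun y => (j.commutes y).symm
  let eR : R' ⊗[V'] (V' ⊗[V] P) ≃ₐ[R'] R' ⊗[V] P := Algebra.TensorProduct.cancelBaseChange V V' R' R' P
  let eL : L ⊗[V'] (V' ⊗[V] P) ≃ₐ[L] L ⊗[V] P := Algebra.TensorProduct.cancelBaseChange V V' L L P
  let φR : R' ⊗[V] P →+* R' ⊗[V'] Q :=
    (Algebra.TensorProduct.map (AlgHom.id V' R') π).toRingHom.comp eR.symm.toRingEquiv.toRingHom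
  let φL : L ⊗[V] P →+* L ⊗[V'] Q :=
    (Algebra.TensorProduct.map (AlgHom.id V' L) π).toRingHom.comp eL.symm.toRingEquiv.toRingHom
  have hsurj : Function.Surjective φR :=
    (TensorProduct.map_surjective Function.surjective_id hπ :
      Function.Surjective (Algebra.TensorProduct.map (AlgHom.id V' R') π)).comp eR.symm.surjective
  have hker : ∀ z, φL z = 0 → IsNilpotent z := by
    intro z hz
    rw [← IsNilpotent.map_iff (f := eL.symm) eL.symm.injective]
    have h1 : eL.symm z ∈ RingHom.ker (Algebra.TensorProduct.map (AlgHom.id V' L) π) := hz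
    rw [Algebra.TensorProduct.lTensor_ker π hπ] at h1
    refine mem_nilradical.1 (Ideal.map_le_iff_le_comap.2 (fun w hw => ?_) h1)
    exact Ideal.mem_comap.2 (mem_nilradical.2 ((hπ' w hw).map _))
  have hcomm : ∀ y, φL (genMap V P R' L y) = genMap V' Q R' L (φR y) := by
    intro y
    induction y using TensorProduct.induction_on with
    | zero => simp only [map_zero]
    | tmul r p => rfl
    | add y z hy hz => simp only [map_add, hy, hz]
  obtain ⟨f, hf, hfx⟩ := hx
  have hx' : (genMap V' Q R' L).toRingHom.IsIntegralElem (φL x) := by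
    refine ⟨f.map φR, hf.map _, ?_⟩
    have := congrArg φL hfx
    rw [map_zero, hom_eval₂] at this
    rw [eval₂_map]
    rw [show φL.comp (genMap V P R' L).toRingHom = (genMap V' Q R' L).toRingHom.comp φR from
      RingHom.ext fun y => hcomm y] at this
    exact this
  obtain ⟨a, ha⟩ := hQ R' L (φL x) hx'
  obtain ⟨b, rfl⟩ := hsurj a
  refine ⟨b, isNilpotent_of_map (A := L ⊗[V] P) (B := L ⊗[V'] Q) φL hker ?_⟩
  rw [map_sub, hcomm]
  exact ha

/-- A finite type algebra over a field becomes geometrically reduced after a finite extension and reduction. -/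
theorem exists_geomReduced_ext (K A : Type u) [Field K] [CommRing A] [Algebra K A] [Algebra.FiniteType K A] :
    ∃ (K' : Type u) (_ : Field K') (_ : Algebra K K'), Module.Finite K K' ∧
      ∀ (L : Type u) [Field L] [Algebra K' L],
        _root_.IsReduced (L ⊗[K'] ((K' ⊗[K] A) ⧸ nilradical (K' ⊗[K] A))) := by
  let P := perfectClosure K (AlgebraicClosure K)
  haveI : IsNoetherianRing (P ⊗[K] A) := Algebra.FiniteType.isNoetherianRing P (P ⊗[K] A)
  have hfield : ∀ (F : Type u) [Field F] [Algebra P F], Algebra.IsGeometricallyReduced P F := fun F _ _ =>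
    (Algebra.isGeometricallyReduced_field_iff P F).2 (RedTensor.isReduced_algClosure_tensor P F)
  obtain ⟨K', _, _, hfin, -, hred⟩ :=
    PIGeomRedLib.exists_of_fg (k := K) (P := P) A hfield ((isNoetherianRing_iff_ideal_fg _).1 inferInstance _)
  exact ⟨K', inferInstance, inferInstance, hfin, fun L _ _ => by
    haveI := hred
    exact GeomRedFieldLib.forall_of_isGeometricallyReduced L⟩

end Groth.Agent.GenBCLib
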