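import Groth.Agent.GenBCLib.SteinUnit
import Groth.Agent.GenBCLib.Helpers
import Groth.Agent.GenBCLib.RankPush
import Groth.Agent.GenBCLib.Near
import Groth.Prelude.Def_ModelsG

/-!
# Families whose fibres have one-dimensional `H⁰(O)`
-/

set_option autoImplicit false
set_option backward.isDefEq.respectTransparency false
set_option linter.style.haveILetI false
set_option maxHeartbeats 1000000

universe u

open CategoryTheory CategoryTheory.Limits AlgebraicGeometry TopologicalSpace Opposite
open Groth.Agent.CohBase Groth.Agent.ProjCoh Groth.Agent.FormalLib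

noncomputable section

namespace Groth.Agent.GenBCLib

variable {X S : Scheme.{u}} (f : X ⟶ S)

theorem bijective_of_rank_one {F : X.Modules} (α : F ≅ Coh.structureModule X) (y : S)
    (h : CohIII.fiberRank f F 0 y = 1) :
    Function.Bijective (algebraMap (S.residueField y) Γ(f.fiber y, ⊤)) := by
  letI : (f.fiber y).Over (Spec (CommRingCat.of (S.residueField y))) := ⟨f.fiberToSpecResidueField y⟩
  let e : (CohIII.globalSectionsA (S.residueField y)).obj (Coh.structureModule (f.fiber y)) ≃ₗ[S.residueField y]
      Coh.HH (f.fiber y) ((Scheme.Modules.pullback (f.fiberι y)).obj F) 0 :=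
    BCLib.gammaH0 (Coh.structureModule (f.fiber y)) ≪≫ₗ
      (BCLib.hhEquivL ((Scheme.Modules.pullback (f.fiberι y)).mapIso α ≪≫ pullUnit (f.fiberι y)) 0).symm
  have h1 : Module.finrank (S.residueField y)
      ((CohIII.globalSectionsA (S.residueField y)).obj (Coh.structureModule (f.fiber y))) = 1 :=
    e.finrank_eq.trans h
  haveI : Nontrivial Γ(f.fiber y, ⊤) := Module.nontrivial_of_finrank_pos (R := S.residueField y)
    (M := (CohIII.globalSectionsA (S.residueField y)).obj (Coh.structureModule (f.fiber y))) (by omega)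
  let one : (CohIII.globalSectionsA (S.residueField y)).obj (Coh.structureModule (f.fiber y)) :=
    (1 : Γ(f.fiber y, ⊤))
  have hsm : ∀ c : S.residueField y, c • one =
      (algebraMap (S.residueField y) Γ(f.fiber y, ⊤) c : Γ(f.fiber y, ⊤)) := fun c => by
    show (Coh.toGlobal (f.fiberToSpecResidueField y) c : Γ(f.fiber y, ⊤)) * 1 = _
    rw [mul_one]
    rfl
  refine ⟨(algebraMap (S.residueField y) Γ(f.fiber y, ⊤)).injective, fun w => ?_⟩
  obtain ⟨c, hc⟩ := (finrank_eq_one_iff_of_nonzero' one
    (fun h0 => one_ne_zero (α := Γ(f.fiber y, ⊤)) h0)).1 h1 w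
  exact ⟨c, (hsm c).symm.trans hc⟩

theorem fiberRank_eq_hRank (y : S) (i : ℕ) :
    CohIII.fiberRank f (Coh.structureModule X) i y =
      Models.hRank ↥(S.residueField y) (f.fiber y) (f.fiberToSpecResidueField y)
        (Coh.structureModule (f.fiber y)) i := by
  letI : (f.fiber y).Over (Spec (CommRingCat.of (S.residueField y))) := ⟨f.fiberToSpecResidueField y⟩
  exact (BCLib.hhEquivL (A := ↥(S.residueField y)) (pullUnit (f.fiberι y)) i).finrank_eq

variable [IsProper f] [LocallyOfFinitePresentation f] [Flat f]

theorem isIso_unitToPush_baseChange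
    (h0 : ∀ s : S, CohIII.fiberRank f (Coh.structureModule X) 0 s = 1) {S' : Scheme.{u}} (g : S' ⟶ S) :
    IsIso (ClSub.unitToPush (pullback.snd f g)) := by
  haveI : IsProper (pullback.snd f g) := MorphismProperty.pullback_snd f g inferInstance
  haveI : Flat (pullback.snd f g) := MorphismProperty.pullback_snd f g inferInstance
  haveI : LocallyOfFinitePresentation (pullback.snd f g) := MorphismProperty.pullback_snd f g inferInstance
  haveI : Coh.IsQCoh (Coh.structureModule X) := (DevLib.isCoh_structureModule X).1
  exact isIso_unitToPush fun t => bijective_of_rank_one _ (pullUnit (pullback.fst f g)) t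
    ((BCLib.fiberRank_baseChange (IsPullback.of_hasPullback f g) (Coh.structureModule X) 0 t).trans (h0 _))

theorem isFinLocFree_rpush_one [HasInjectiveResolutions X.Modules]
    (hdim : ∀ s : S, topologicalKrullDim ↥(f.fiber s) ≤ 1)
    (h0 : ∀ s : S, CohIII.fiberRank f (Coh.structureModule X) 0 s = 1) :
    FlatMod.IsFinLocFree ((Coh.Rpush f 1).obj (Coh.structureModule X)) := by
  haveI : Coh.IsQCoh (Coh.structureModule X) := (DevLib.isCoh_structureModule X).1
  refine isFinLocFree_of_nhds _ fun s => ?_
  obtain ⟨V, D, hs⟩ := exists_dat_at (FlatStage.isFP_structureModule X) (BCLib.isFlatOver_structureModule f) s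
  obtain ⟨b, hb', -, hsb, -⟩ := D.exists_vanish hs (n := 2)
    (subsingleton_fiberH_of_dim f (Coh.structureModule X) 1 s (hdim s) one_lt_two)
  obtain ⟨a, ha, hga⟩ := D.exists_good hs
    (D.surjAt_zero_structure hs (bijective_of_rank_one f (Iso.refl _) s (h0 s)))
  exact ⟨_, (by rw [S.basicOpen_mul]; exact ⟨ha, hb'⟩ : s ∈ S.basicOpen (a * b)),
    D.isFinLocFree_basicOpen (hsb.mul_left a) (hga.mul_right b)⟩

end Groth.Agent.GenBCLib
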