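import Groth.Agent.GenBCLib.RankGoal
import Groth.Agent.GenBCLib.Main
import Groth.Agent.BCLib.SteinFlat
import Groth.Agent.AmpleEmb.ComposeRel
import Groth.Agent.VBLib.Point
import Groth.Agent.FlatStage.Smooth
import Groth.Prelude.Def_ClSub2

/-!
# `O_S = f_* O_X` for proper flat morphisms whose fibres only have constant functions, over any base
-/

set_option autoImplicit false
set_option backward.isDefEq.respectTransparency false
set_option backward.defeqAttrib.useBackward true
set_option linter.style.haveILetI false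
set_option linter.unusedSectionVars false
set_option maxHeartbeats 1000000

universe u

open CategoryTheory CategoryTheory.Limits AlgebraicGeometry TopologicalSpace Opposite
open Groth.Agent.PullbackMod Groth.Agent.ParaFLib

noncomputable section

namespace Groth.Agent.GenBCLib

variable {X S : Scheme.{u}} {f : X ⟶ S} {V : S.Opens}

theorem Dat.surjAt_zero_structure [IsSeparated f] [QuasiCompact f] [Coh.IsQCoh (Coh.structureModule X)] (D : Dat f (Coh.structureModule X) V) {s : S}
    (hs : s ∈ V) (hb : Function.Bijective (algebraMap (S.residueField s) Γ(f.fiber s, ⊤))) : D.SurjAt hs 0 := by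
  refine (D.epi_bc0_iff_surjAt hs).1 (epi_of_surjective_top _ ?_)
  let g := S.fromSpecResidueField s
  let g' := f.fiberι s
  let f' := f.fiberToSpecResidueField s
  let F := Coh.structureModule X
  let M := (Scheme.Modules.pushforward f).obj F
  have le : f' ⁻¹ᵁ (⊤ : (Spec (S.residueField s)).Opens) ≤ g' ⁻¹ᵁ (f ⁻¹ᵁ (⊤ : S.Opens)) := fun _ _ => trivial
  have e : (⊤ : (Spec (S.residueField s)).Opens) ≤ g ⁻¹ᵁ (⊤ : S.Opens) := fun _ _ => trivial
  let one : Γ(F, f ⁻¹ᵁ (⊤ : S.Opens)) := (1 : Γ(X, f ⁻¹ᵁ (⊤ : S.Opens)))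
  have hg : Gen (g' ⁻¹ᵁ (f ⁻¹ᵁ (⊤ : S.Opens))) (pullMap g' F le_rfl one) :=
    AmpleEmb.gen_pullMap g' isInvertible_structureModule (gen_one _)
  intro t
  obtain ⟨r, hr⟩ := (hg (f' ⁻¹ᵁ ⊤) le).2 t
  obtain ⟨c, hc⟩ : ∃ c : Γ(Spec (S.residueField s), ⊤), f'.app ⊤ c = r := by
    obtain ⟨c, hc⟩ := hb.2 r
    exact ⟨(Scheme.ΓSpecIso (S.residueField s)).inv c, hc⟩
  refine ⟨c • pullMap g M e (show Γ(M, ⊤) from one), ?_⟩
  rw [Scheme.Modules.Hom.app_smul, bc0_pullMap (f.fiber_fac s) F e le one]
  refine Eq.trans ?_ hr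
  show f'.app ⊤ c • pullMap g' F le one = r • _
  rw [hc]
  congr 1
  refine Eq.trans ?_ (pullMap_res g' F le_rfl le_rfl le le one).symm
  simp

/-- An algebra which is an invertible module is the base. -/
theorem bijective_app_of_gen {U : S.Opens} {e : Γ((Scheme.Modules.pushforward f).obj (Coh.structureModule X), U)}
    (he : Gen (L := (Scheme.Modules.pushforward f).obj (Coh.structureModule X)) U e) {O : S.Opens} (hO : O ≤ U) :
    Function.Bijective (f.app O) := by
  let e' : Γ(X, f ⁻¹ᵁ O) := X.presheaf.map (homOfLE (f.preimage_mono hO)).op (show Γ(X, f ⁻¹ᵁ U) from e)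
  have hb : Function.Bijective fun r : Γ(S, O) => f.app O r * e' := he O hO
  obtain ⟨a, ha : f.app O a * e' = 1⟩ := hb.2 1
  obtain ⟨b, hb' : f.app O b * e' = e' * e'⟩ := hb.2 (e' * e')
  have hab : a * b = 1 := hb.1 (by
    show f.app O (a * b) * e' = f.app O 1 * e'
    rw [map_one, one_mul, map_mul, mul_assoc, hb', ← mul_assoc, ha, one_mul])
  refine ⟨fun x y hxy => ?_, fun z => ?_⟩
  · exact hb.1 (show f.app O x * e' = f.app O y * e' by rw [hxy])
  · obtain ⟨r, hr : f.app O r * e' = z⟩ := hb.2 z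
    refine ⟨r * b, ?_⟩
    calc f.app O (r * b) = f.app O r * (f.app O b * (f.app O a * e')) := by rw [ha, mul_one, map_mul]
      _ = f.app O r * (e' * (f.app O (a * b))) := by rw [map_mul]; ring
      _ = z := by rw [hab, map_one, mul_one, hr]

variable [IsProper f] [LocallyOfFinitePresentation f] [Flat f]
  (hb : ∀ s : S, Function.Bijective (algebraMap (S.residueField s) Γ(f.fiber s, ⊤)))

include hb in
theorem ptGood_structure (s : S) : PtGood f (Coh.structureModule X) 1 s := by
  haveI : Coh.IsQCoh (Coh.structureModule X) := (DevLib.isCoh_structureModule X).1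
  obtain ⟨V, D, hs⟩ := exists_dat_at (FlatStage.isFP_structureModule X) (BCLib.isFlatOver_structureModule f) s
  obtain ⟨a, ha, hg⟩ := D.exists_good hs (D.surjAt_zero_structure hs (hb s))
  refine ⟨⟨V, D, a, ha, hg⟩, ?_⟩
  rw [← BCLib.finrank_fiberH_zero f s (hb s)]
  exact D.freeAt_of_good ha hg

include hb in
theorem isIso_unitToPush : IsIso (ClSub.unitToPush f) := by
  haveI : Coh.IsQCoh (Coh.structureModule X) := (DevLib.isCoh_structureModule X).1
  have hinv := VBLib.isInvertible_of_rank (isFinLocFreeOfRank_of_ptGood 1 (ptGood_structure hb))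
  refine ParaFLib.isIso_of_locally_app _ fun y => ?_
  obtain ⟨W, e, hyW, he⟩ := ParaFLib.exists_gen_nhd hinv y
  exact ⟨W, hyW, fun O hO => bijective_app_of_gen he hO⟩

include hb in
theorem bijective_app (U : S.Opens) : Function.Bijective (f.app U) := by
  haveI := isIso_unitToPush hb
  exact ConcreteCategory.bijective_of_isIso ((ClSub.unitToPush f).app U)

end Groth.Agent.GenBCLib
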