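import Groth.Agent.GenBCLib.Charts
import Groth.Agent.GenBCLib.Key

/-!
# A dense open of the base over which a morphism of finite type has good charts
-/

set_option autoImplicit false
set_option linter.unusedSectionVars false
set_option linter.style.haveILetI false
set_option backward.isDefEq.respectTransparency false
set_option maxHeartbeats 1000000

universe u

open CategoryTheory CategoryTheory.Limits AlgebraicGeometry Opposite TensorProduct
open Groth.Agent.ZeroAcycLib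

noncomputable section

namespace Groth.Agent.GenBCLib

/-- A nonzero noetherian ring has an element outside a minimal prime multiplying that prime into the nilradical. -/
theorem exists_elt_minimal (V : Type u) [CommRing V] [IsNoetherianRing V] [Nontrivial V] :
    ∃ (p : Ideal V) (s : V), p.IsPrime ∧ s ∉ p ∧ ∀ v ∈ p, IsNilpotent (s * v) := by
  classical
  have hne : (minimalPrimes V).Nonempty := by
    obtain ⟨q, hq, -⟩ := Ideal.exists_minimalPrimes_le (I := (⊥ : Ideal V))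
      (J := (Classical.arbitrary (PrimeSpectrum V)).asIdeal) bot_le
    exact ⟨q, hq⟩
  obtain ⟨p, hp⟩ := hne
  haveI hpp : p.IsPrime := hp.1.1
  let fs := (minimalPrimes.finite_of_isNoetherianRing V).toFinset.erase p
  have hex : ∀ q ∈ fs, ∃ s ∈ q, s ∉ p := by
    intro q hq
    obtain ⟨hne, hq⟩ := Finset.mem_erase.1 hq
    refine SetLike.not_le_iff_exists.1 fun hle => hne ?_
    exact le_antisymm hle (hp.2 ((Set.Finite.mem_toFinset _).1 hq).1 hle)
  choose t ht htp using hex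
  let s := ∏ q ∈ fs.attach, t q.1 q.2
  refine ⟨p, s, hpp, fun h => ?_, fun v hv => ?_⟩
  · obtain ⟨q, -, hq⟩ := (Ideal.IsPrime.prod_mem_iff (p := p)).1 h
    exact htp q.1 q.2 hq
  · rw [← mem_nilradical, nilradical_eq_sInf, Submodule.mem_sInf]
    intro (q : Ideal V) (hq : Ideal.IsPrime q)
    haveI := hq
    obtain ⟨q', hq', hle⟩ := Ideal.exists_minimalPrimes_le (I := (⊥ : Ideal V)) (J := q) bot_le
    refine hle ?_
    by_cases hqp : q' = p
    · exact hqp ▸ Ideal.mul_mem_left _ _ hv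
    · refine Ideal.mul_mem_right _ _ ?_
      have hmem : q' ∈ fs := Finset.mem_erase.2 ⟨hqp, (Set.Finite.mem_toFinset _).2 hq'⟩
      exact Ideal.mem_of_dvd _ (Finset.dvd_prod_of_mem (fun q : fs => t q.1 q.2) (Finset.mem_attach _ ⟨q', hmem⟩)) (ht q' hmem)

/-- The algebraic chart condition. -/
theorem exists_redGood {V : Type u} [CommRing V] [IsNoetherianRing V] {P : Type u} [CommRing P] [Algebra V P]
    [Algebra.FiniteType V P] (p : Ideal V) [p.IsPrime] :
    ∃ c : V, c ∉ p ∧ ∀ a : V, a ∉ p → c ∣ a → (∀ v ∈ p, IsNilpotent (a * v)) → RedGood V P p a := by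
  obtain ⟨c, hc, hgood⟩ := exists_genClosed_away (V ⧸ p) ((V ⧸ p) ⊗[V] P)
  obtain ⟨c, rfl⟩ := Ideal.Quotient.mk_surjective c
  refine ⟨c, fun h => hc (Ideal.Quotient.eq_zero_iff_mem.2 h), fun a _ hca hnil => ⟨hnil, ?_⟩⟩
  let B := Localization.Away (Ideal.Quotient.mk p a)
  have hu : IsUnit (algebraMap (V ⧸ p) B (Ideal.Quotient.mk p c)) :=
    isUnit_of_dvd_unit (map_dvd (algebraMap (V ⧸ p) B) (map_dvd (Ideal.Quotient.mk p) hca))
      (IsLocalization.Away.algebraMap_isUnit _)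
  obtain ⟨h1, h2⟩ := hgood B hu
  let e := Algebra.TensorProduct.cancelBaseChange V (V ⧸ p) B B P
  haveI := h1
  exact ⟨Module.Flat.of_linearEquiv e.symm.toLinearEquiv, h2.congr e⟩

/-- The opens of the base over which all points have good charts. -/
def goodLocus {X S : Scheme.{u}} (f : X ⟶ S) : S.Opens :=
  sSup {O : S.Opens | ∀ x : X, f x ∈ O → RedChartAt f x}

theorem redChartAt_of_mem {X S : Scheme.{u}} (f : X ⟶ S) (x : X) (hx : f x ∈ goodLocus f) : RedChartAt f x := by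
  obtain ⟨O, hO, hxO⟩ := TopologicalSpace.Opens.mem_sSup.1 hx
  exact hO x hxO

/-- The good locus is dense. -/
theorem dense_goodLocus {X S : Scheme.{u}} (f : X ⟶ S) [IsNoetherian S] [LocallyOfFiniteType f] [QuasiCompact f] :
    Dense (goodLocus f : Set S) := by
  classical
  rw [dense_iff_inter_open]
  intro O hO ⟨y, hy⟩
  obtain ⟨U₀, hU₀, hyU, hUO⟩ := exists_isAffineOpen_mem_and_subset (X := S) (U := ⟨O, hO⟩) (x := y) hy
  haveI : Nonempty (↥U₀) := ⟨⟨y, hyU⟩⟩
  let V := Γ(S, U₀)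
  haveI : IsNoetherianRing V := IsLocallyNoetherian.component_noetherian ⟨U₀, hU₀⟩
  haveI : Nonempty U₀.toScheme := ⟨⟨y, hyU⟩⟩
  haveI : Nontrivial V := Scheme.component_nontrivial S U₀
  obtain ⟨p, s, hp, hsp, hnil⟩ := exists_elt_minimal V
  haveI := hp
  have hcpt : IsCompact ((f ⁻¹ᵁ U₀ : X.Opens) : Set X) := QuasiCompact.isCompact_preimage _ U₀.isOpen hU₀.isCompact
  have hch : ∀ x : ↥(f ⁻¹ᵁ U₀), ∃ W : X.Opens, IsAffineOpen W ∧ x.1 ∈ W ∧ W ≤ f ⁻¹ᵁ U₀ := fun x => by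
    obtain ⟨W, h1, h2, h3⟩ := exists_isAffineOpen_mem_and_subset (X := X) (U := f ⁻¹ᵁ U₀) (x := x.1) x.2
    exact ⟨W, h1, h2, h3⟩
  choose W hW hxW hWU using hch
  obtain ⟨T, hT⟩ := hcpt.elim_finite_subcover (fun x => (W x : Set X)) (fun x => (W x).isOpen)
    fun x hx => Set.mem_iUnion.2 ⟨⟨x, hx⟩, hxW ⟨x, hx⟩⟩
  have hc : ∀ x : ↥(f ⁻¹ᵁ U₀), ∃ c : V, c ∉ p ∧ ∀ a : V, a ∉ p → c ∣ a → (∀ v ∈ p, IsNilpotent (a * v)) →
      letI := (f.appLE U₀ (W x) (hWU x)).hom.toAlgebra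
      RedGood V Γ(X, W x) p a := fun x => by
    letI := (f.appLE U₀ (W x) (hWU x)).hom.toAlgebra
    haveI : Algebra.FiniteType V Γ(X, W x) := RingHom.finiteType_algebraMap.1
      (HasRingHomProperty.appLE (P := @LocallyOfFiniteType) f inferInstance ⟨U₀, hU₀⟩ ⟨W x, hW x⟩ (hWU x))
    exact exists_redGood p
  choose c hcp hcgood using hc
  let a := s * ∏ x ∈ T, c x
  have hap : a ∉ p := fun h => by
    rcases hp.mem_or_mem h with h | h
    · exact hsp h
    · obtain ⟨x, -, hx⟩ := (Ideal.IsPrime.prod_mem_iff (p := p)).1 h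
      exact hcp x hx
  have hanil : ∀ v ∈ p, IsNilpotent (a * v) := fun v hv => by
    rw [show a * v = (s * v) * ∏ x ∈ T, c x by show _ * _ * _ = _; ring]
    exact (Commute.all _ _).isNilpotent_mul_right (hnil v hv)
  have hmem : S.basicOpen a ∈ {O : S.Opens | ∀ x : X, f x ∈ O → RedChartAt f x} := by
    intro x hx
    obtain ⟨i, hiT, hxi⟩ := Set.mem_iUnion₂.1 (hT (show x ∈ f ⁻¹ᵁ U₀ from S.basicOpen_le a hx))
    exact ⟨U₀, W i, hU₀, hW i, hWU i, p, a, hxi, hx,
      hcgood i a hap (Dvd.dvd.mul_left (Finset.dvd_prod_of_mem c hiT) s) hanil⟩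
  let P₀ : ↥(Spec Γ(S, U₀)) := ⟨p, hp⟩
  have hz : hU₀.fromSpec P₀ ∈ S.basicOpen a := by
    show P₀ ∈ hU₀.fromSpec ⁻¹ᵁ S.basicOpen a
    rw [hU₀.fromSpec_preimage_basicOpen]
    exact hap
  exact ⟨_, hUO (S.basicOpen_le a hz), TopologicalSpace.Opens.mem_sSup.2 ⟨_, hmem, hz⟩⟩

/-- Over the good locus every base change is universally locally 0-acyclic. -/
theorem isULocZeroAcyclic_of_range {X S X' S' : Scheme.{u}} {f : X ⟶ S} {g : X' ⟶ S'} {c' : X' ⟶ X} {c : S' ⟶ S}
    (hc : IsPullback c' g f c) (hr : Set.range c ⊆ (goodLocus f : Set S)) : EtAcyc.IsULocZeroAcyclic g :=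
  isULocZeroAcyclic_of_redCharts hc fun x => redChartAt_of_mem f _ (by
    rw [← Scheme.Hom.comp_apply, hc.w, Scheme.Hom.comp_apply]
    exact hr (Set.mem_range_self _))

end Groth.Agent.GenBCLib
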